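import Mathlib
import Cfsg.Agent.Mrg.Omega.NO3S.MidB.Main_m3
import Cfsg.Agent.ClassicalGeometry.AutPSL.Main
import Cfsg.Prelude.Def_LieTypeChar
import Cfsg.Agent.Omega.KFactsZS_m3
import Cfsg.Agent.ClassicalGeometry.PSUAutMain
import Cfsg.Agent.Omega.Lie.CenTwo
import Cfsg.Agent.ClassicalGeometry.SympAutExists
import Cfsg.Agent.ClassicalGeometry.SympAutRecog
import Cfsg.Agent.Omega.KFacts_m3
import Cfsg.Agent.Mrg.Omega.TwoF.E7Odd_mg_m3
import Cfsg.Agent.Mrg.Omega.Lie.CenTwist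
import Cfsg.Agent.OddHalf.D4.Spor.Sheet
import Cfsg.Agent.Mrg.Omega.Lie.CenSL
import Cfsg.Agent.OddHalf.D4.Spor.M11_mg_m3
import Cfsg.Agent.OddHalf.D4.Spor.HN_m3
import Cfsg.Agent.OddHalf.D7F4.Adapted_m3
import Cfsg.Agent.KFacts.FiTF.QuasiBInst_mg_m3
import Cfsg.Agent.KFacts.J4.SheetJ4
import Cfsg.Agent.ChevalleyStructure.Tits.Main
import Cfsg.Agent.KFacts.HS.Sheet2_m3
import Cfsg.Agent.J2Sylow.SporSylow
import Cfsg.Agent.Schreier.JThreeSylow
import Cfsg.Agent.KFacts.Co3.Syl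
import Cfsg.Agent.TypeM.Two
import Cfsg.Agent.TypeM.FactsMcL
import Cfsg.Agent.TypeM.FactsLy
import Cfsg.Agent.KFacts.He.Hyp
import Cfsg.Agent.KFacts.TwoSix.Sheet
import Cfsg.Agent.KFacts.Baby.RowB_m3
import Cfsg.Agent.Mrg.Omega.Lie.Cen.Fi22
import Cfsg.Agent.Mrg.Omega.Lie.LQThm
import Cfsg.Agent.Walter.LastCase_mg_m3
import Cfsg.Agent.Walter.StepAll
import Cfsg.Agent.S0205
import Cfsg.Agent.Mrg.Omega.BTwo.CoordNat
import Cfsg.Agent.Mrg.Omega.Lie.End.KSideMain
import Cfsg.Agent.Mrg.Omega.BTwo.ModG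
import Cfsg.Agent.Mrg.Omega.BTwo.RadQ_m3
import Cfsg.Agent.SignalizersComponents.Components
import Cfsg.Agent.Lib.MatLitD
import Cfsg.Agent.Mrg.Omega.EH3.UFour.Row
import Cfsg.Agent.Mrg.Omega.Lie.End.KDead
import Cfsg.Agent.Mrg.Omega.Lie.LemmaTComp
import Cfsg.Agent.Mrg.Omega.HOne.TvTail_m3
import Cfsg.Agent.Omega.EH3.ESix.Prime_m3
import Cfsg.Agent.Mrg.Omega.EH3.ESix.Rows_m3
import Cfsg.Agent.Mrg.Omega.EH3.Kf.InL_m3
import Cfsg.Agent.Mrg.Omega.EH3.Kf.TableAll
import Cfsg.Prelude.Def_CaseTheorems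
import Cfsg.Agent.Mrg.Omega.NSix.JNot
import Cfsg.Agent.Mrg.Omega.IId.TwoK_m3
import Cfsg.Agent.Mrg.Omega.OM.YThm.FfRep_m3
import Cfsg.Agent.Mrg.Omega.NO1.TH.K.SDTwoB_m3
import Cfsg.Agent.Mrg.Omega.IId.Big.SylB_m3
import Cfsg.Agent.Mrg.Omega.NSix.RCaseTwo_m3
import Cfsg.Agent.Mrg.Omega.NO3b.FPB.Cen_m3
import Cfsg.Agent.Mrg.Omega.TTn.DiCoreAbs
import Cfsg.Agent.Mrg.Omega.Assembly
import Cfsg.Agent.Mrg.Omega.OM.NX_m3
import Cfsg.Agent.Mrg.Omega.NO3S.SFive.Lit_m3
import Cfsg.Agent.Mrg.Omega.MutE.Perm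
import Cfsg.Agent.Mrg.Omega.NSix.EngineS.Inst_m3
import Cfsg.Agent.Mrg.Omega.FFBr.Final
import Cfsg.Agent.Mrg.Omega.TTn.Z.Nc_m3
import Cfsg.Agent.Mrg.Omega.NO3S.SLTwo.App_mg_m3
import Cfsg.Agent.FastGrp
import Cfsg.Agent.Prune
set_option linter.all false

section
prune_inst 0x7ffcbcfb2ff83ddfdfff7e7fa6f4cffc39901fffa6dff94bbfe021ef0bdf030009e5aba509e010fe0ec2601410b87813f9ffca3fe06bd87ffffd1df45ffbee0fa5e6bd08519688340fbc0fff03f0778e7f3fffffffffffffffffffffffffffbeffbdffffffff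

-- part: Mrg/Omega/Lie/KRowsPlug
section
prune_inst 0x580010000001400000000000000800000000000800000000000000000000000000000040020020800200040000004000000000101000000000080480000000000000000000000000000000000000000000000000004000000000
set_option linter.all false
open scoped Cfsg.Agent.FastGrp

-- part: Mrg/Omega/Lie/CenLin
section
section


/-!
# The row `PSL_n(r)`, `r` odd, of the K-fact (ZS) (helper584; NODE LIE)

* `noCenMove_three`: `NoCenMove (PSL_n(F))` for `n ≥ 3`, `F` a finite field of odd characteristic;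
* `monoGrp P`: the signed permutation matrices of determinant one over a subgroup `P` of the symmetric group.
-/

set_option autoImplicit false
set_option linter.dupNamespace false
set_option linter.unusedSectionVars false

namespace Cfsg.Agent.Omega.Lie.CenLin

open Matrix Equiv CenMat
open Cfsg.Agent.ClassicalGeometry.AutPSL.Root
open Cfsg.Agent.ClassicalGeometry.AutPSL.Auto

section mono

variable {ι F : Type*} [Fintype ι] [DecidableEq ι] [Field F]

/-- signed permutation matrices of determinant 1 over `P` -/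
def monoGrp (F : Type*) [Field F] (P : Subgroup (Perm ι)) : Subgroup (_root_.Matrix.SpecialLinearGroup ι F) where
  carrier := {g | ∃ p ∈ P, ∃ s : ι → F, (∀ i, s i * s i = 1) ∧ (g : Matrix ι ι F) = mono s p}
  mul_mem' := by
    rintro g h ⟨p, hp, s, hs, hg⟩ ⟨r, hr, t, ht, hh⟩
    refine ⟨p * r, P.mul_mem hp hr, fun i => s i * t (p⁻¹ i), fun i => ?_, ?_⟩
    · have h1 := hs i
      have h2 := ht (p⁻¹ i)
      calc s i * t (p⁻¹ i) * (s i * t (p⁻¹ i)) = (s i * s i) * (t (p⁻¹ i) * t (p⁻¹ i)) := by ring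
        _ = 1 := by rw [h1, h2, one_mul]
    · rw [Matrix.SpecialLinearGroup.coe_mul, hg, hh, mono_mul]
  one_mem' := ⟨1, P.one_mem, fun _ => 1, fun _ => one_mul 1, by
    rw [Matrix.SpecialLinearGroup.coe_one, mono_one]⟩
  inv_mem' := by
    rintro g ⟨p, hp, s, hs, hg⟩
    refine ⟨p⁻¹, P.inv_mem hp, fun i => s (p i), fun i => hs _, ?_⟩
    have h1 : (g : Matrix ι ι F) * mono (fun i => s (p i)) p⁻¹ = 1 := by
      rw [hg, mono_mul, mul_inv_cancel, ← mono_one]
      congr 1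
      funext i
      have : p (p⁻¹ i) = i := by simp
      rw [this, hs]
    calc ((g⁻¹ : _root_.Matrix.SpecialLinearGroup ι F) : Matrix ι ι F)
        = (g⁻¹ : _root_.Matrix.SpecialLinearGroup ι F) * ((g : Matrix ι ι F) * mono (fun i => s (p i)) p⁻¹) := by
          rw [h1, mul_one]
      _ = ((g⁻¹ * g : _root_.Matrix.SpecialLinearGroup ι F) : Matrix ι ι F) * mono (fun i => s (p i)) p⁻¹ := by
          rw [← Matrix.mul_assoc, ← Matrix.SpecialLinearGroup.coe_mul]
      _ = _ := by rw [inv_mul_cancel, Matrix.SpecialLinearGroup.coe_one, one_mul]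

theorem mem_monoGrp {P : Subgroup (Perm ι)} {g : _root_.Matrix.SpecialLinearGroup ι F} :
    g ∈ monoGrp F P ↔ ∃ p ∈ P, ∃ s : ι → F, (∀ i, s i * s i = 1) ∧ (g : Matrix ι ι F) = mono s p :=
  Iff.rfl

theorem pow_mono {g : _root_.Matrix.SpecialLinearGroup ι F} {p : Perm ι} {s : ι → F} (hs : ∀ i, s i * s i = 1)
    (hg : (g : Matrix ι ι F) = mono s p) (m : ℕ) :
    ∃ t : ι → F, (∀ i, t i * t i = 1) ∧ ((g ^ m : _root_.Matrix.SpecialLinearGroup ι F) : Matrix ι ι F)
      = mono t (p ^ m) := by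
  induction m with
  | zero =>
    refine ⟨fun _ => 1, fun _ => one_mul 1, ?_⟩
    rw [pow_zero, pow_zero, Matrix.SpecialLinearGroup.coe_one, mono_one]
  | succ m ih =>
    obtain ⟨t, ht, hgm⟩ := ih
    refine ⟨fun i => t i * s ((p ^ m)⁻¹ i), fun i => ?_, ?_⟩
    · have h1 := ht i
      have h2 := hs ((p ^ m)⁻¹ i)
      calc t i * s ((p ^ m)⁻¹ i) * (t i * s ((p ^ m)⁻¹ i))
          = (t i * t i) * (s ((p ^ m)⁻¹ i) * s ((p ^ m)⁻¹ i)) := by ring
        _ = 1 := by rw [h1, h2, one_mul]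
    · rw [pow_succ, pow_succ, Matrix.SpecialLinearGroup.coe_mul, hgm, hg, mono_mul]

theorem isPGroup_monoGrp {P : Subgroup (Perm ι)} (hP : IsPGroup 2 P) :
    IsPGroup 2 (monoGrp F P) := by
  rintro ⟨g, p, hp, s, hs, hg⟩
  obtain ⟨k, hk⟩ := hP ⟨p, hp⟩
  have hk' : p ^ (2 ^ k) = 1 := congrArg Subtype.val hk
  obtain ⟨t, ht, hgm⟩ := pow_mono hs hg (2 ^ k)
  refine ⟨k + 1, ?_⟩
  apply Subtype.ext
  apply Subtype.ext
  change ((g ^ (2 ^ (k + 1)) : _root_.Matrix.SpecialLinearGroup ι F) : Matrix ι ι F) = 1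
  rw [pow_succ, pow_mul, pow_two, Matrix.SpecialLinearGroup.coe_mul, hgm, hk', mono_mul, one_mul,
    ← mono_one]
  congr 1
  funext i
  rw [inv_one, Perm.one_apply, ht]

end mono

section psl

variable {F : Type*} [Field F] [Fintype F] [DecidableEq F] {n : ℕ}

theorem smul_sg_conj {x y : _root_.Matrix.SpecialLinearGroup (Fin n) F} {a b : F} {f g : Fin n → ZMod 2}
    (hb : b ≠ 0) (hx : (x : Matrix (Fin n) (Fin n) F) = a • sg F f)
    (hy : (y : Matrix (Fin n) (Fin n) F) = b • sg F g) {A : GL (Fin n) F} {σ : F ≃+* F}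
    (h : lift (cj A * fld σ) (pr x) = pr y) :
    ∃ (C : Matrix (Fin n) (Fin n) F) (κ : F), IsUnit C.det ∧ sg F g * C = κ • (C * sg F f) := by
  rw [lift_pr, MulAut.mul_apply] at h
  obtain ⟨c, hc⟩ := exists_smul_of_pr_eq h
  have h1 : ((fld σ x : _root_.Matrix.SpecialLinearGroup (Fin n) F) : Matrix (Fin n) (Fin n) F) = σ a • sg F f := by
    ext i j
    rw [coe_fld_apply, hx, Matrix.smul_apply, Matrix.smul_apply, smul_eq_mul, smul_eq_mul, map_mul]
    congr 1
    rw [sg, diagonal_apply]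
    by_cases hij : i = j
    · rw [if_pos hij, sgn]
      split_ifs
      · rw [map_neg, map_one]
      · rw [map_one]
    · rw [if_neg hij, map_zero]
  refine ⟨(A : Matrix (Fin n) (Fin n) F), b⁻¹ * (c * σ a), ?_, ?_⟩
  · exact (Matrix.isUnit_iff_isUnit_det _).1 A.isUnit
  · rw [coe_cj, h1, hy] at hc
    have h2 : b • (sg F g * (A : Matrix (Fin n) (Fin n) F))
        = (c * σ a) • ((A : Matrix (Fin n) (Fin n) F) * sg F f) := by
      calc b • (sg F g * (A : Matrix (Fin n) (Fin n) F))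
          = (b • sg F g) * (A : Matrix (Fin n) (Fin n) F) := by rw [Matrix.smul_mul]
        _ = (c * σ a) • ((A : Matrix (Fin n) (Fin n) F) * sg F f
              * ((A⁻¹ : GL (Fin n) F) : Matrix (Fin n) (Fin n) F)
              * (A : Matrix (Fin n) (Fin n) F)) := by
            rw [hc, Matrix.mul_smul, Matrix.smul_mul, Matrix.smul_mul, Matrix.smul_mul, smul_smul]
        _ = _ := by
            rw [Matrix.mul_assoc _ ((A⁻¹ : GL (Fin n) F) : Matrix (Fin n) (Fin n) F), ← Units.val_mul,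
              inv_mul_cancel, Units.val_one, Matrix.mul_one]
    rw [mul_smul, ← h2, smul_smul, inv_mul_cancel₀ hb, one_smul]

theorem coe_itr_sg {x : _root_.Matrix.SpecialLinearGroup (Fin n) F} {a : F} (ha : a ≠ 0) {f : Fin n → ZMod 2}
    (hx : (x : Matrix (Fin n) (Fin n) F) = a • sg F f) :
    ((itr x : _root_.Matrix.SpecialLinearGroup (Fin n) F) : Matrix (Fin n) (Fin n) F) = a⁻¹ • sg F f := by
  rw [coe_itr]
  have h1 : (x : Matrix (Fin n) (Fin n) F) * (a⁻¹ • sg F f) = 1 := by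
    rw [hx, Matrix.mul_smul, Matrix.smul_mul, smul_smul, sg_mul_self, inv_mul_cancel₀ ha, one_smul]
  have h2 : ((x⁻¹ : _root_.Matrix.SpecialLinearGroup (Fin n) F) : Matrix (Fin n) (Fin n) F) = a⁻¹ • sg F f := by
    calc ((x⁻¹ : _root_.Matrix.SpecialLinearGroup (Fin n) F) : Matrix (Fin n) (Fin n) F)
        = (x⁻¹ : _root_.Matrix.SpecialLinearGroup (Fin n) F) * ((x : Matrix (Fin n) (Fin n) F) * (a⁻¹ • sg F f)) := by
          rw [h1, Matrix.mul_one]
      _ = ((x⁻¹ * x : _root_.Matrix.SpecialLinearGroup (Fin n) F) : Matrix (Fin n) (Fin n) F) * (a⁻¹ • sg F f) := by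
          rw [← Matrix.mul_assoc, ← Matrix.SpecialLinearGroup.coe_mul]
      _ = _ := by rw [inv_mul_cancel, Matrix.SpecialLinearGroup.coe_one, Matrix.one_mul]
  rw [h2, transpose_smul, sg, diagonal_transpose]

/-- two sign vectors conjugate under the automorphism group of `PSL_n` -/
theorem exists_conj_form (hn : 3 ≤ n) {x y : _root_.Matrix.SpecialLinearGroup (Fin n) F} {a b : F}
    {f g : Fin n → ZMod 2} (ha : a ≠ 0) (hb : b ≠ 0)
    (hx : (x : Matrix (Fin n) (Fin n) F) = a • sg F f)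
    (hy : (y : Matrix (Fin n) (Fin n) F) = b • sg F g)
    {τ : MulAut (ProjectiveSpecialLinearGroup (Fin n) F)} (h : τ (pr x) = pr y) :
    ∃ (C : Matrix (Fin n) (Fin n) F) (κ : F), IsUnit C.det ∧ sg F g * C = κ • (C * sg F f) := by
  obtain ⟨p, hp⟩ := CharP.exists F
  have hpp : Fact p.Prime := ⟨CharP.char_is_prime F p⟩
  rcases Cfsg.Agent.ClassicalGeometry.AutPSL.Main.surj_three p hn τ with ⟨A, σ, rfl⟩ | ⟨A, σ, rfl⟩
  · exact smul_sg_conj hb hx hy h
  · rw [map_mul, MulAut.mul_apply, lift_pr] at h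
    exact smul_sg_conj hb (coe_itr_sg ha hx) hy h

theorem comm_of_cent {E : Subgroup (_root_.Matrix.SpecialLinearGroup (Fin n) F)}
    {x : _root_.Matrix.SpecialLinearGroup (Fin n) F}
    (hx : ∀ e ∈ E.map pr, e * pr x = pr x * e) {e : _root_.Matrix.SpecialLinearGroup (Fin n) F} (he : e ∈ E) :
    ∃ c : F, (x : Matrix (Fin n) (Fin n) F) * (e : Matrix (Fin n) (Fin n) F)
      = c • ((e : Matrix (Fin n) (Fin n) F) * (x : Matrix (Fin n) (Fin n) F)) := by
  have h1 := hx (pr e) ⟨e, he, rfl⟩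
  rw [← map_mul, ← map_mul] at h1
  obtain ⟨c, hc⟩ := exists_smul_of_pr_eq h1
  exact ⟨c, by rw [← Matrix.SpecialLinearGroup.coe_mul, ← Matrix.SpecialLinearGroup.coe_mul, hc]⟩

theorem sq_scalar {x : _root_.Matrix.SpecialLinearGroup (Fin n) F} (hx : pr x * pr x = 1) :
    ∃ c : F, (x : Matrix (Fin n) (Fin n) F) * (x : Matrix (Fin n) (Fin n) F)
      = c • (1 : Matrix (Fin n) (Fin n) F) := by
  rw [← map_mul, ← map_one pr] at hx
  obtain ⟨c, hc⟩ := exists_smul_of_pr_eq hx.symm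
  exact ⟨c, by rw [← Matrix.SpecialLinearGroup.coe_mul, hc, Matrix.SpecialLinearGroup.coe_one]⟩

theorem noCenMove_ne_four (h2 : (2 : F) ≠ 0) (hn : 3 ≤ n) (hn4 : n ≠ 4) :
    CenTwo.NoCenMove (ProjectiveSpecialLinearGroup (Fin n) F) := by
  have : Nonempty (Fin n) := ⟨⟨0, by omega⟩⟩
  obtain ⟨P⟩ : Nonempty (Sylow 2 (Perm (Fin n))) := inferInstance
  have hE : IsPGroup 2 ((monoGrp F (P : Subgroup (Perm (Fin n)))).map
      (pr : _root_.Matrix.SpecialLinearGroup (Fin n) F →* _)) :=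
    (isPGroup_monoGrp P.isPGroup').map _
  refine of_cent hE ?_
  intro u τ hu hτ huu
  obtain ⟨x, rfl⟩ := pr_surjective u
  obtain ⟨y, hy⟩ := pr_surjective (τ (pr x))
  rw [← hy] at hτ
  have hyy : pr y * pr y = 1 := by rw [hy, ← map_mul, huu, map_one]
  have core' : ∀ z : _root_.Matrix.SpecialLinearGroup (Fin n) F,
      (∀ e ∈ (monoGrp F (P : Subgroup (Perm (Fin n)))).map pr, e * pr z = pr z * e) →
      pr z * pr z = 1 → ∃ (a : F) (f : Fin n → ZMod 2), a ≠ 0 ∧
        (z : Matrix (Fin n) (Fin n) F) = a • sg F f ∧ ∀ p ∈ P, ∃ c, ∀ i, f (p i) = f i + c := by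
    intro z hz hzz
    obtain ⟨μ, hμ⟩ := sq_scalar hzz
    have hdet : IsUnit ((z : Matrix (Fin n) (Fin n) F)).det := by
      rw [z.2]; exact isUnit_one
    refine core h2 (by rw [Fintype.card_fin]; exact hn) (by rw [Fintype.card_fin]; exact hn4)
      (P := (P : Set (Perm (Fin n)))) P.one_mem hdet hμ ?_
    intro s hs p hp hd
    exact comm_of_cent hz (e := ⟨mono s p, hd⟩) (mem_monoGrp.2 ⟨p, hp, s, hs, rfl⟩)
  obtain ⟨a, f, ha, hxf, hf⟩ := core' x hu huu
  obtain ⟨b, g, hb, hyg, hg⟩ := core' y hτ hyy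
  obtain ⟨C, κ, hC, hκ⟩ := exists_conj_form hn ha hb hxf hyg hy.symm
  rw [← hy]
  symm
  rcases PermSyl.unique_of_shift P hf hg (conj_card h2 hC hκ) with h | h
  · have h3 : g = f := funext h
    apply pr_eq_of_smul (c := b * a⁻¹)
    rw [hyg, hxf, smul_smul, mul_assoc, inv_mul_cancel₀ ha, mul_one, h3]
  · have h3 : g = fun i => f i + 1 := funext h
    apply pr_eq_of_smul (c := -(b * a⁻¹))
    rw [hyg, hxf, smul_smul, h3, sg_add_one, smul_neg, neg_mul, neg_smul, mul_assoc,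
      inv_mul_cancel₀ ha, mul_one]

end psl

/-! ### `n = 4` -/

section four

variable {F : Type*} [Field F]

/-- a square root of `-1` in the upper block -/
def bt (p q r : F) (h : p * p + q * r = -1) : _root_.Matrix.SpecialLinearGroup (Fin 4) F :=
  ⟨!![p, q, 0, 0; r, -p, 0, 0; 0, 0, 1, 0; 0, 0, 0, 1], by
    (simp only [↓ _root_.reduceIte, _root_.pow_one, _root_.one_pow, Cfsg.Agent.Lib.MatLit.d])
    linear_combination -h⟩

/-- a square root of `-1` in the lower block -/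
def bl (p q r : F) (h : p * p + q * r = -1) : _root_.Matrix.SpecialLinearGroup (Fin 4) F :=
  ⟨!![1, 0, 0, 0; 0, 1, 0, 0; 0, 0, p, q; 0, 0, r, -p], by
    (simp only [_root_.pow_one, _root_.ne_eq, _root_.not_false_eq_true, _root_.one_pow, Cfsg.Agent.Lib.MatLit.d])
    linear_combination -h⟩

/-- the swap of the two blocks -/
def sw (F : Type*) [Field F] : _root_.Matrix.SpecialLinearGroup (Fin 4) F :=
  ⟨!![0, 0, 1, 0; 0, 0, 0, 1; 1, 0, 0, 0; 0, 1, 0, 0], by
    (simp only [↓ _root_.reduceIte, _root_.pow_one, _root_.one_pow, Cfsg.Agent.Lib.MatLit.d])⟩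

theorem coe_bt (p q r : F) (h : p * p + q * r = -1) : (bt p q r h : Matrix (Fin 4) (Fin 4) F)
    = !![p, q, 0, 0; r, -p, 0, 0; 0, 0, 1, 0; 0, 0, 0, 1] := rfl

theorem coe_bl (p q r : F) (h : p * p + q * r = -1) : (bl p q r h : Matrix (Fin 4) (Fin 4) F)
    = !![1, 0, 0, 0; 0, 1, 0, 0; 0, 0, p, q; 0, 0, r, -p] := rfl

theorem coe_sw : (sw F : Matrix (Fin 4) (Fin 4) F)
    = !![0, 0, 1, 0; 0, 0, 0, 1; 1, 0, 0, 0; 0, 1, 0, 0] := rfl

theorem bt_pow (p q r : F) (h : p * p + q * r = -1) : (bt p q r h) ^ (2 ^ 2) = 1 := by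
  have h1 : (bt p q r h * bt p q r h) * (bt p q r h * bt p q r h) = 1 := by
    apply Subtype.ext
    rw [Matrix.SpecialLinearGroup.coe_mul, Matrix.SpecialLinearGroup.coe_mul, coe_bt]
    have e1 : (!![p, q, 0, 0; r, -p, 0, 0; 0, 0, 1, 0; 0, 0, 0, 1] : Matrix (Fin 4) (Fin 4) F)
        * !![p, q, 0, 0; r, -p, 0, 0; 0, 0, 1, 0; 0, 0, 0, 1]
        = !![-1, 0, 0, 0; 0, -1, 0, 0; 0, 0, 1, 0; 0, 0, 0, 1] := by
      ext i j
      (revert i j; simp only [Matrix.mul_apply, Fin.sum_univ_four, _root_.Fin.forall_fin_succ, _root_.Matrix.of_apply, _root_.Matrix.cons_val', _root_.Matrix.cons_val_fin_one, Fin.isValue, _root_.Matrix.cons_val_zero, _root_.Matrix.cons_val_one, _root_.Matrix.cons_val, _root_.MulZeroClass.mul_zero, _root_.add_zero, _root_.Matrix.cons_val_succ, _root_.mul_neg, _root_.mul_one, _root_.zero_add, _root_.implies_true, _root_.neg_mul, _root_.neg_neg, _root_.MulZeroClass.zero_mul, _root_.neg_zero, _root_.and_true, _root_.true_and])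 <;> (repeat' with_reducible apply And.intro)
      · exact h
      · ring
      · ring
      · linear_combination h
    rw [e1]
    ext i j
    (revert i j; simp only [Matrix.mul_apply, Fin.sum_univ_four, _root_.Fin.forall_fin_succ, _root_.Matrix.of_apply, _root_.Matrix.cons_val', _root_.Matrix.cons_val_fin_one, Fin.isValue, _root_.Matrix.cons_val_zero, _root_.Matrix.cons_val_one, _root_.Matrix.cons_val, _root_.Matrix.SpecialLinearGroup.coe_one, _root_.mul_neg, _root_.mul_one, _root_.MulZeroClass.mul_zero, _root_.add_zero, _root_.Matrix.cons_val_succ, _root_.zero_add, _root_.IsEmpty.forall_iff, _root_.and_true, _root_.neg_neg, _root_.Matrix.one_apply_eq, _root_.neg_zero, Nat.reduceAdd, _root_.Fin.succ_zero_eq_one, _root_.ne_eq, _root_.zero_ne_one, _root_.not_false_eq_true, _root_.Matrix.one_apply_ne, _root_.Fin.succ_one_eq_two, Fin.reduceEq, Fin.reduceSucc, _root_.and_self, _root_.Fin.succ_ne_zero, _root_.neg_eq_zero, _root_.true_and])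
  rw [show (2 ^ 2 : ℕ) = 2 + 2 from rfl, pow_add, pow_two, h1]

theorem bl_pow (p q r : F) (h : p * p + q * r = -1) : (bl p q r h) ^ (2 ^ 2) = 1 := by
  have h1 : (bl p q r h * bl p q r h) * (bl p q r h * bl p q r h) = 1 := by
    apply Subtype.ext
    rw [Matrix.SpecialLinearGroup.coe_mul, Matrix.SpecialLinearGroup.coe_mul, coe_bl]
    have e1 : (!![1, 0, 0, 0; 0, 1, 0, 0; 0, 0, p, q; 0, 0, r, -p] : Matrix (Fin 4) (Fin 4) F)
        * !![1, 0, 0, 0; 0, 1, 0, 0; 0, 0, p, q; 0, 0, r, -p]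
        = !![1, 0, 0, 0; 0, 1, 0, 0; 0, 0, -1, 0; 0, 0, 0, -1] := by
      ext i j
      (revert i j; simp only [Matrix.mul_apply, Fin.sum_univ_four, _root_.Fin.forall_fin_succ, _root_.Matrix.of_apply, _root_.Matrix.cons_val', _root_.Matrix.cons_val_fin_one, Fin.isValue, _root_.Matrix.cons_val_zero, _root_.Matrix.cons_val_one, _root_.Matrix.cons_val, _root_.mul_one, _root_.MulZeroClass.mul_zero, _root_.add_zero, _root_.Matrix.cons_val_succ, _root_.zero_add, _root_.mul_neg, _root_.forall_const, _root_.MulZeroClass.zero_mul, _root_.neg_zero, _root_.neg_mul, _root_.neg_neg, _root_.and_true, _root_.true_and]) <;> (repeat' with_reducible apply And.intro)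
      · exact h
      · ring
      · ring
      · linear_combination h
    rw [e1]
    ext i j
    (revert i j; simp only [Matrix.mul_apply, Fin.sum_univ_four, _root_.Fin.forall_fin_succ, _root_.Matrix.of_apply, _root_.Matrix.cons_val', _root_.Matrix.cons_val_fin_one, Fin.isValue, _root_.Matrix.cons_val_zero, _root_.Matrix.cons_val_one, _root_.Matrix.cons_val, _root_.Matrix.SpecialLinearGroup.coe_one, _root_.mul_one, _root_.MulZeroClass.mul_zero, _root_.add_zero, _root_.Matrix.cons_val_succ, _root_.zero_add, _root_.mul_neg, _root_.IsEmpty.forall_iff, _root_.and_true, _root_.Matrix.one_apply_eq, Nat.reduceAdd, _root_.Fin.succ_zero_eq_one, _root_.ne_eq, _root_.zero_ne_one, _root_.not_false_eq_true, _root_.Matrix.one_apply_ne, _root_.neg_zero, _root_.Fin.succ_one_eq_two, Fin.reduceEq, Fin.reduceSucc, _root_.and_self, _root_.Fin.succ_ne_zero, _root_.neg_neg, _root_.true_and])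
  rw [show (2 ^ 2 : ℕ) = 2 + 2 from rfl, pow_add, pow_two, h1]

theorem sw_pow : (sw F) ^ (2 ^ 1) = 1 := by
  have h1 : sw F * sw F = 1 := by
    apply Subtype.ext
    rw [Matrix.SpecialLinearGroup.coe_mul, coe_sw]
    ext i j
    (revert i j; simp only [Matrix.mul_apply, Fin.sum_univ_four, _root_.Fin.forall_fin_succ, _root_.Matrix.of_apply, _root_.Matrix.cons_val', _root_.Matrix.cons_val_fin_one, Fin.isValue, _root_.Matrix.cons_val_zero, _root_.Matrix.cons_val_one, _root_.Matrix.cons_val, _root_.Matrix.SpecialLinearGroup.coe_one, _root_.MulZeroClass.mul_zero, _root_.add_zero, _root_.mul_one, _root_.zero_add, _root_.Matrix.cons_val_succ, _root_.IsEmpty.forall_iff, _root_.and_true, _root_.Matrix.one_apply_eq, Nat.reduceAdd, _root_.Fin.succ_zero_eq_one, _root_.ne_eq, _root_.zero_ne_one, _root_.not_false_eq_true, _root_.Matrix.one_apply_ne, _root_.Fin.succ_one_eq_two, Fin.reduceEq, Fin.reduceSucc, _root_.and_self, _root_.Fin.succ_ne_zero,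 _root_.true_and])
  rw [pow_one, pow_two, h1]

/-- the generators -/
def e1 (F : Type*) [Field F] : _root_.Matrix.SpecialLinearGroup (Fin 4) F := bt 0 1 (-1) (by ring)
def e2 {a b : F} (h : a * a + b * b = -1) : _root_.Matrix.SpecialLinearGroup (Fin 4) F := bt a b b h
def e3 (F : Type*) [Field F] : _root_.Matrix.SpecialLinearGroup (Fin 4) F := bl 0 1 (-1) (by ring)
def e4 {a b : F} (h : a * a + b * b = -1) : _root_.Matrix.SpecialLinearGroup (Fin 4) F := bl a b b h

theorem r12 {a b : F} (h : a * a + b * b = -1) : e1 F * e2 h * e1 F = e2 h := by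
  apply Subtype.ext
  rw [Matrix.SpecialLinearGroup.coe_mul, Matrix.SpecialLinearGroup.coe_mul, e1, e2, coe_bt, coe_bt]
  ext i j
  (revert i j; simp only [Matrix.mul_apply, Fin.sum_univ_four, _root_.Fin.forall_fin_succ, _root_.neg_zero, _root_.Matrix.cons_mul, _root_.Nat.succ_eq_add_one, Nat.reduceAdd, _root_.Matrix.vecMul_cons, _root_.Matrix.head_cons, _root_.zero_smul, _root_.Matrix.tail_cons, _root_.one_smul, _root_.Matrix.empty_vecMul, _root_.add_zero, _root_.zero_add, _root_.neg_smul, _root_.Matrix.neg_cons, _root_.Matrix.neg_empty, _root_.Matrix.empty_mul, _root_.Equiv.symm_apply_apply, _root_.Matrix.of_apply, _root_.Matrix.cons_val', _root_.Matrix.cons_val_fin_one, Fin.isValue, _root_.Matrix.cons_val_zero, _root_.Matrix.cons_val_one, _root_.Matrix.cons_val, _root_.MulZeroClass.mul_zero, _root_.mul_neg, _root_.mul_one, _root_.Matrix.cons_val_succ, _root_.implies_true, _root_.and_self, _root_.and_true, _root_.neg_neg])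

theorem r34 {a b : F} (h : a * a + b * b = -1) : e3 F * e4 h * e3 F = e4 h := by
  apply Subtype.ext
  rw [Matrix.SpecialLinearGroup.coe_mul, Matrix.SpecialLinearGroup.coe_mul, e3, e4, coe_bl, coe_bl]
  ext i j
  (revert i j; simp only [Matrix.mul_apply, Fin.sum_univ_four, _root_.Fin.forall_fin_succ, _root_.neg_zero, _root_.Matrix.cons_mul, _root_.Nat.succ_eq_add_one, Nat.reduceAdd, _root_.Matrix.vecMul_cons, _root_.Matrix.head_cons, _root_.one_smul, _root_.Matrix.tail_cons, _root_.zero_smul, _root_.Matrix.empty_vecMul, _root_.add_zero, _root_.zero_add, _root_.neg_smul, _root_.Matrix.neg_cons, _root_.Matrix.neg_empty, _root_.Matrix.empty_mul, _root_.Equiv.symm_apply_apply, _root_.Matrix.of_apply, _root_.Matrix.cons_val', _root_.Matrix.cons_val_fin_one, Fin.isValue, _root_.Matrix.cons_val_zero, _root_.Matrix.cons_val_one, _root_.Matrix.cons_val, _root_.mul_one, _root_.MulZeroClass.mul_zero, _root_.Matrix.cons_val_succ, _root_.mul_neg,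 _root_.implies_true, _root_.and_true, _root_.true_and, _root_.neg_neg, _root_.and_self])

theorem comm_bt_bl {p q r p' q' r' : F} (h : p * p + q * r = -1) (h' : p' * p' + q' * r' = -1) :
    bl p' q' r' h' * bt p q r h = bt p q r h * bl p' q' r' h' := by
  apply Subtype.ext
  rw [Matrix.SpecialLinearGroup.coe_mul, Matrix.SpecialLinearGroup.coe_mul, coe_bl, coe_bt]
  ext i j
  (revert i j; simp only [Matrix.mul_apply, Fin.sum_univ_four, _root_.Fin.forall_fin_succ, _root_.Matrix.of_apply, _root_.Matrix.cons_val', _root_.Matrix.cons_val_fin_one, Fin.isValue, _root_.Matrix.cons_val_zero, _root_.Matrix.cons_val_one, _root_.Matrix.cons_val, _root_.MulZeroClass.mul_zero, _root_.add_zero, _root_.mul_one, _root_.Matrix.cons_val_succ, _root_.mul_neg, _root_.zero_add, _root_.forall_const, _root_.one_mul, _root_.MulZeroClass.zero_mul, _root_.neg_zero, _root_.and_self, _root_.implies_true])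

theorem sw_bt {p q r : F} (h : p * p + q * r = -1) : sw F * bt p q r h = bl p q r h * sw F := by
  apply Subtype.ext
  rw [Matrix.SpecialLinearGroup.coe_mul, Matrix.SpecialLinearGroup.coe_mul, coe_sw, coe_bl, coe_bt]
  ext i j
  (revert i j; simp only [Matrix.mul_apply, Fin.sum_univ_four, _root_.Fin.forall_fin_succ, _root_.Matrix.of_apply, _root_.Matrix.cons_val', _root_.Matrix.cons_val_fin_one, Fin.isValue, _root_.Matrix.cons_val_zero, _root_.Matrix.cons_val_one, _root_.Matrix.cons_val, _root_.MulZeroClass.mul_zero, _root_.add_zero, _root_.mul_one, _root_.zero_add, _root_.Matrix.cons_val_succ, _root_.mul_neg, _root_.implies_true, _root_.and_self, _root_.and_true, _root_.MulZeroClass.zero_mul, _root_.neg_zero, _root_.one_mul])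

theorem sw_bl {p q r : F} (h : p * p + q * r = -1) : sw F * bl p q r h = bt p q r h * sw F := by
  apply Subtype.ext
  rw [Matrix.SpecialLinearGroup.coe_mul, Matrix.SpecialLinearGroup.coe_mul, coe_sw, coe_bl, coe_bt]
  ext i j
  (revert i j; simp only [Matrix.mul_apply, Fin.sum_univ_four, _root_.Fin.forall_fin_succ, _root_.Matrix.of_apply, _root_.Matrix.cons_val', _root_.Matrix.cons_val_fin_one, Fin.isValue, _root_.Matrix.cons_val_zero, _root_.Matrix.cons_val_one, _root_.Matrix.cons_val, _root_.mul_one, _root_.MulZeroClass.mul_zero, _root_.add_zero, _root_.zero_add, _root_.Matrix.cons_val_succ, _root_.mul_neg, _root_.forall_const, _root_.true_and, _root_.one_mul, _root_.MulZeroClass.zero_mul, _root_.neg_zero, _root_.and_self, _root_.implies_true])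

/-- the 2-group `(Q₈ × Q₈).2` -/
theorem isPGroup_four [Finite F] {a b : F} (h : a * a + b * b = -1) :
    IsPGroup 2 (Subgroup.closure ({sw F, e4 h, e3 F, e2 h, e1 F} : Set (_root_.Matrix.SpecialLinearGroup (Fin 4) F))) := by
  have h0 : IsPGroup 2 (Subgroup.closure (∅ : Set (_root_.Matrix.SpecialLinearGroup (Fin 4) F))) := by
    rw [Subgroup.closure_empty]
    exact IsPGroup.of_bot
  have h1 := closure_insert h0 (w := e1 F) (k := 2) (bt_pow _ _ _ _) (by
    intro s hs; exact absurd hs (Set.notMem_empty s))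
  rw [insert_empty_eq] at h1
  have h2 := closure_insert h1 (w := e2 h) (k := 2) (bt_pow _ _ _ _) (by
    intro s hs
    rw [Set.mem_singleton_iff] at hs
    rcases hs with rfl
    · have e : e2 h * e1 F * (e2 h)⁻¹ = (e1 F)⁻¹ := by
        have := r12 h
        calc e2 h * e1 F * (e2 h)⁻¹ = (e1 F)⁻¹ * (e1 F * e2 h * e1 F) * (e2 h)⁻¹ := by group
          _ = (e1 F)⁻¹ := by rw [this]; group
      rw [e]
      exact Subgroup.inv_mem _ (Subgroup.subset_closure (by simp)))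
  have h3 := closure_insert h2 (w := e3 F) (k := 2) (bl_pow _ _ _ _) (by
    intro s hs
    rw [Set.mem_insert_iff, Set.mem_singleton_iff] at hs
    rcases hs with rfl | rfl
    · have e : e3 F * e2 h * (e3 F)⁻¹ = e2 h := by
        rw [e3, e2, comm_bt_bl]; group
      rw [e]
      exact Subgroup.subset_closure (by simp)
    · have e : e3 F * e1 F * (e3 F)⁻¹ = e1 F := by
        rw [e3, e1, comm_bt_bl]; group
      rw [e]
      exact Subgroup.subset_closure (by simp))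
  have h4 := closure_insert h3 (w := e4 h) (k := 2) (bl_pow _ _ _ _) (by
    intro s hs
    rw [Set.mem_insert_iff, Set.mem_insert_iff, Set.mem_singleton_iff] at hs
    rcases hs with rfl | rfl | rfl
    · have e : e4 h * e3 F * (e4 h)⁻¹ = (e3 F)⁻¹ := by
        have := r34 h
        calc e4 h * e3 F * (e4 h)⁻¹ = (e3 F)⁻¹ * (e3 F * e4 h * e3 F) * (e4 h)⁻¹ := by group
          _ = (e3 F)⁻¹ := by rw [this]; group
      rw [e]
      exact Subgroup.inv_mem _ (Subgroup.subset_closure (by simp))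
    · have e : e4 h * e2 h * (e4 h)⁻¹ = e2 h := by
        rw [e4, e2, comm_bt_bl]; group
      rw [e]
      exact Subgroup.subset_closure (by simp)
    · have e : e4 h * e1 F * (e4 h)⁻¹ = e1 F := by
        rw [e4, e1, comm_bt_bl]; group
      rw [e]
      exact Subgroup.subset_closure (by simp))
  refine (closure_insert h4 (w := sw F) (k := 1) sw_pow ?_)
  intro s hs
  rw [Set.mem_insert_iff, Set.mem_insert_iff, Set.mem_insert_iff, Set.mem_singleton_iff] at hs
  rcases hs with rfl | rfl | rfl | rfl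
  · have e : sw F * e4 h * (sw F)⁻¹ = e2 h := by
      rw [e4, e2, sw_bl]; group
    rw [e]
    exact Subgroup.subset_closure (by simp)
  · have e : sw F * e3 F * (sw F)⁻¹ = e1 F := by
      rw [e3, e1, sw_bl]; group
    rw [e]
    exact Subgroup.subset_closure (by simp)
  · have e : sw F * e2 h * (sw F)⁻¹ = e4 h := by
      rw [e4, e2, sw_bt]; group
    rw [e]
    exact Subgroup.subset_closure (by simp)
  · have e : sw F * e1 F * (sw F)⁻¹ = e3 F := by
      rw [e3, e1, sw_bt]; group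
    rw [e]
    exact Subgroup.subset_closure (by simp)

theorem noCenMove_four [Fintype F] [DecidableEq F] (h2 : (2 : F) ≠ 0) :
    CenTwo.NoCenMove (ProjectiveSpecialLinearGroup (Fin 4) F) := by
  obtain ⟨a, b, hab⟩ : ∃ a b : F, a * a + b * b = -1 := by
    obtain ⟨p, hp⟩ := CharP.exists F
    have hpp : NeZero p := ⟨(CharP.char_is_prime F p).ne_zero⟩
    obtain ⟨a, b, h⟩ := CharP.sq_add_sq F p (-1)
    refine ⟨(a : F), (b : F), ?_⟩
    rw [← pow_two, ← pow_two, h]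
    simp
  set E := Subgroup.closure ({sw F, e4 hab, e3 F, e2 hab, e1 F} :
    Set (_root_.Matrix.SpecialLinearGroup (Fin 4) F)) with hEdef
  have hE : IsPGroup 2 (E.map (pr : _root_.Matrix.SpecialLinearGroup (Fin 4) F →* _)) := (isPGroup_four hab).map _
  refine of_cent hE ?_
  intro u τ hu hτ huu
  obtain ⟨x, rfl⟩ := pr_surjective u
  obtain ⟨y, hy⟩ := pr_surjective (τ (pr x))
  rw [← hy] at hτ
  have core' : ∀ z : _root_.Matrix.SpecialLinearGroup (Fin 4) F,
      (∀ e ∈ E.map pr, e * pr z = pr z * e) →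
      ∃ t : F, t ≠ 0 ∧ ((z : Matrix (Fin 4) (Fin 4) F) = t • (1 : Matrix (Fin 4) (Fin 4) F) ∨
        (z : Matrix (Fin 4) (Fin 4) F) = t • !![1, 0, 0, 0; 0, 1, 0, 0; 0, 0, -1, 0; 0, 0, 0, -1]) := by
    intro z hz
    have hNM : ((z⁻¹ : _root_.Matrix.SpecialLinearGroup (Fin 4) F) : Matrix (Fin 4) (Fin 4) F)
        * (z : Matrix (Fin 4) (Fin 4) F) = 1 := by
      rw [← Matrix.SpecialLinearGroup.coe_mul, inv_mul_cancel, Matrix.SpecialLinearGroup.coe_one]
    have c1 := comm_of_cent hz (e := e1 F) (Subgroup.subset_closure (by simp))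
    have c2 := comm_of_cent hz (e := e2 hab) (Subgroup.subset_closure (by simp))
    have c3 := comm_of_cent hz (e := e3 F) (Subgroup.subset_closure (by simp))
    have c4 := comm_of_cent hz (e := e4 hab) (Subgroup.subset_closure (by simp))
    have c5 := comm_of_cent hz (e := sw F) (Subgroup.subset_closure (by simp))
    rw [e1, coe_bt, neg_zero] at c1
    rw [e2, coe_bt] at c2
    rw [e3, coe_bl, neg_zero] at c3
    rw [e4, coe_bl] at c4
    rw [coe_sw] at c5
    exact core4 h2 hab hNM c1 c2 c3 c4 c5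
  have hone : ∀ (z : _root_.Matrix.SpecialLinearGroup (Fin 4) F) (t : F),
      (z : Matrix (Fin 4) (Fin 4) F) = t • (1 : Matrix (Fin 4) (Fin 4) F) → pr z = 1 := by
    intro z t hz
    rw [← map_one pr]
    symm
    apply pr_eq_of_smul (c := t)
    rw [hz, Matrix.SpecialLinearGroup.coe_one]
  obtain ⟨s, hs, hx⟩ := core' x hu
  obtain ⟨t, ht, hy'⟩ := core' y hτ
  rw [← hy]
  rcases hx with hx | hx
  · rw [hone x s hx, map_one] at hy
    rw [hy, hone x s hx]
  · rcases hy' with hy' | hy'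
    · rw [hone y t hy'] at hy
      have h3 : pr x = 1 := τ.injective (by rw [← hy, map_one])
      rw [h3, hone y t hy']
    · symm
      apply pr_eq_of_smul (c := t * s⁻¹)
      rw [hx, hy', smul_smul, mul_assoc, inv_mul_cancel₀ hs, mul_one]

/-- **the row `PSL_n(r)`, `n ≥ 3`, `r` odd** -/
theorem noCenMove_three [Fintype F] (h2 : (2 : F) ≠ 0) {n : ℕ} (hn : 3 ≤ n) :
    CenTwo.NoCenMove (ProjectiveSpecialLinearGroup (Fin n) F) := by
  classical
  by_cases h4 : n = 4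
  · subst h4
    exact noCenMove_four h2
  · exact noCenMove_ne_four h2 hn h4

end four

/-! ### `n = 2`, `r ≡ ±1 mod 8` -/

section two

variable {F : Type*} [Field F]

/-- an element of order 8 of `SL₂` (`t² = 2`) -/
def x8 (t : F) : _root_.Matrix.SpecialLinearGroup (Fin 2) F :=
  ⟨!![0, -1; 1, t], by simp [Matrix.det_fin_two]⟩

theorem coe_x8 (t : F) : (x8 t : Matrix (Fin 2) (Fin 2) F) = !![0, -1; 1, t] := rfl

theorem x8_pow {t : F} (ht : t * t = 2) : (x8 t) ^ (2 ^ 3) = 1 := by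
  have e2 : x8 t * x8 t * (x8 t * x8 t) * (x8 t * x8 t * (x8 t * x8 t)) = 1 := by
    have s1 : (!![0, -1; 1, t] : Matrix (Fin 2) (Fin 2) F) * !![0, -1; 1, t]
        = !![-1, -t; t, 1] := by
      ext i j
      (revert i j; simp only [Matrix.mul_apply, Fin.sum_univ_two, _root_.Fin.forall_fin_succ, _root_.Matrix.of_apply, _root_.Matrix.cons_val', _root_.Matrix.cons_val_fin_one, Fin.isValue, _root_.Matrix.cons_val_zero, _root_.Matrix.cons_val_one, _root_.MulZeroClass.mul_zero, _root_.mul_one, _root_.zero_add, _root_.Matrix.cons_val_succ, _root_.mul_neg, _root_.forall_const, _root_.neg_zero, _root_.neg_mul, _root_.one_mul, _root_.and_true, _root_.true_and]) <;> (repeat' with_reducible apply And.intro)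
      linear_combination ht
    have s2 : (!![-1, -t; t, 1] : Matrix (Fin 2) (Fin 2) F) * !![-1, -t; t, 1]
        = !![-1, 0; 0, -1] := by
      ext i j
      (revert i j; simp only [Matrix.mul_apply, Fin.sum_univ_two, _root_.Fin.forall_fin_succ, _root_.Matrix.of_apply, _root_.Matrix.cons_val', _root_.Matrix.cons_val_fin_one, Fin.isValue, _root_.Matrix.cons_val_zero, _root_.Matrix.cons_val_one, _root_.mul_neg, _root_.mul_one, _root_.Matrix.cons_val_succ, _root_.forall_const, _root_.neg_neg, _root_.neg_mul, _root_.one_mul, _root_.add_neg_cancel, _root_.neg_add_cancel, _root_.and_true, _root_.true_and]) <;> (repeat' with_reducible apply And.intro)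
      · linear_combination -ht
      · linear_combination -ht
    apply Subtype.ext
    rw [Matrix.SpecialLinearGroup.coe_mul, Matrix.SpecialLinearGroup.coe_mul,
      Matrix.SpecialLinearGroup.coe_mul, coe_x8, s1, s2]
    ext i j
    (revert i j; simp only [Matrix.mul_apply, Fin.sum_univ_two, _root_.Fin.forall_fin_succ, _root_.Matrix.of_apply, _root_.Matrix.cons_val', _root_.Matrix.cons_val_fin_one, Fin.isValue, _root_.Matrix.cons_val_zero, _root_.Matrix.cons_val_one, _root_.Matrix.SpecialLinearGroup.coe_one, _root_.mul_neg, _root_.mul_one, _root_.MulZeroClass.mul_zero, _root_.add_zero, _root_.Matrix.cons_val_succ, _root_.zero_add, _root_.IsEmpty.forall_iff, _root_.and_true, _root_.neg_neg, _root_.Matrix.one_apply_eq, _root_.neg_zero, Nat.reduceAdd, _root_.Fin.succ_zero_eq_one, _root_.ne_eq, _root_.zero_ne_one, _root_.not_false_eq_true, _root_.Matrix.one_apply_ne, _root_.and_self, _root_.Fin.succ_ne_zero, _root_.true_and])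
  rw [show (2 ^ 3 : ℕ) = (2 + 2) + (2 + 2) from rfl, pow_add, pow_add, pow_two, e2]

/-- `C(x8)` modulo scalars -/
theorem cent_x8 (h2 : (2 : F) ≠ 0) {t : F} (ht : t * t = 2) {M : Matrix (Fin 2) (Fin 2) F}
    (hM : M.det = 1) {c : F} (hc : M * !![0, -1; 1, t] = c • (!![0, -1; 1, t] * M)) :
    M 0 1 = -M 1 0 ∧ M 1 1 = M 0 0 + t * M 1 0 := by
  have e : ∀ i j, (M * (!![0, -1; 1, t] : Matrix (Fin 2) (Fin 2) F)) i j
      = c * ((!![0, -1; 1, t] : Matrix (Fin 2) (Fin 2) F) * M) i j := by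
    intro i j; rw [hc]; rfl
  simp only [Matrix.mul_apply, Fin.sum_univ_two] at e
  have a1 : M 0 1 = -(c * M 1 0) := by simpa using e 0 0
  have a2 : -M 0 0 + M 0 1 * t = -(c * M 1 1) := by simpa only [_root_.Fin.isValue, _root_.Matrix.of_apply, _root_.Matrix.cons_val', _root_.Matrix.cons_val_one, _root_.Matrix.cons_val_fin_one, _root_.Matrix.cons_val_zero, _root_.mul_neg, _root_.mul_one, _root_.MulZeroClass.zero_mul, _root_.neg_mul, _root_.one_mul, _root_.zero_add] using e 0 1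
  have a3 : M 1 1 = c * (M 0 0 + t * M 1 0) := by simpa using e 1 0
  have a4 : -M 1 0 + M 1 1 * t = c * (M 0 1 + t * M 1 1) := by simpa only [_root_.Fin.isValue, _root_.Matrix.of_apply, _root_.Matrix.cons_val', _root_.Matrix.cons_val_one, _root_.Matrix.cons_val_fin_one, _root_.Matrix.cons_val_zero, _root_.mul_neg, _root_.mul_one, _root_.one_mul] using e 1 1
  have ht0 : t ≠ 0 := by
    rintro rfl
    apply h2; rw [← ht]; ring
  rw [Matrix.det_fin_two] at hM
  have hc1 : c = 1 := by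
    have h3 : (1 - c) * t = 0 := by
      linear_combination a1 * M 1 1 - a2 * M 1 0 - a3 * M 0 1 + a4 * M 0 0 - (1 - c) * t * hM
    exact (sub_eq_zero.1 ((mul_eq_zero.1 h3).resolve_right ht0)).symm
  subst hc1
  exact ⟨by linear_combination a1, by linear_combination a3⟩

/-- **the row `L₂(r)`, `r ≡ ±1 mod 8`** (`2` is a square in `F`) -/
theorem noCenMove_two [Fintype F] (h2 : (2 : F) ≠ 0) (hsq : IsSquare (2 : F)) :
    CenTwo.NoCenMove (ProjectiveSpecialLinearGroup (Fin 2) F) := by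
  classical
  obtain ⟨t, ht'⟩ := hsq
  have ht : t * t = 2 := ht'.symm
  have hE : IsPGroup 2 ((Subgroup.zpowers (x8 t)).map (pr : _root_.Matrix.SpecialLinearGroup (Fin 2) F →* _)) := by
    refine IsPGroup.map ?_ _
    rintro ⟨x, hx⟩
    obtain ⟨m, rfl⟩ := Subgroup.mem_zpowers_iff.1 hx
    refine ⟨3, ?_⟩
    apply Subtype.ext
    change (x8 t ^ m) ^ (2 ^ 3) = 1
    rw [← _root_.zpow_natCast, ← _root_.zpow_mul, mul_comm, _root_.zpow_mul, _root_.zpow_natCast,
      x8_pow ht, _root_.one_zpow]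
  refine of_cent hE ?_
  intro u τ hu hτ huu
  obtain ⟨x, rfl⟩ := pr_surjective u
  obtain ⟨y, hy⟩ := pr_surjective (τ (pr x))
  rw [← hy] at hτ
  have hyy : pr y * pr y = 1 := by rw [hy, ← map_mul, huu, map_one]
  have core' : ∀ z : _root_.Matrix.SpecialLinearGroup (Fin 2) F,
      (∀ e ∈ (Subgroup.zpowers (x8 t)).map pr, e * pr z = pr z * e) → pr z * pr z = 1 →
      pr z = 1 ∨ ∃ s : F, s ≠ 0 ∧ (z : Matrix (Fin 2) (Fin 2) F) = s • !![-t, -2; 2, t] := by
    intro z hz hzz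
    obtain ⟨c, hc⟩ := comm_of_cent hz (e := x8 t) (Subgroup.mem_zpowers _)
    rw [coe_x8] at hc
    obtain ⟨h3, h4⟩ := cent_x8 h2 ht z.2 hc
    obtain ⟨μ, hμ⟩ := sq_scalar hzz
    have h5 := congrFun (congrFun hμ 1) 0
    have h6 : (z : Matrix (Fin 2) (Fin 2) F) 1 0 * (z : Matrix (Fin 2) (Fin 2) F) 0 0
        + (z : Matrix (Fin 2) (Fin 2) F) 1 1 * (z : Matrix (Fin 2) (Fin 2) F) 1 0 = 0 := by
      simpa only [Matrix.mul_apply, Fin.sum_univ_two, _root_.Fin.isValue, _root_.Matrix.smul_apply, _root_.ne_eq, _root_.one_ne_zero, _root_.not_false_eq_true, _root_.Matrix.one_apply_ne, _root_.smul_eq_mul, _root_.MulZeroClass.mul_zero] using h5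
    have h7 : (z : Matrix (Fin 2) (Fin 2) F) 1 0 * (2 * (z : Matrix (Fin 2) (Fin 2) F) 0 0
        + t * (z : Matrix (Fin 2) (Fin 2) F) 1 0) = 0 := by
      rw [h4] at h6
      linear_combination h6
    rcases mul_eq_zero.1 h7 with h8 | h8
    · left
      rw [← map_one pr]
      symm
      apply pr_eq_of_smul (c := (z : Matrix (Fin 2) (Fin 2) F) 0 0)
      rw [Matrix.SpecialLinearGroup.coe_one]
      rw [h8] at h3 h4
      ext i j
      (revert i j; simp only [h3, h4, h8, _root_.Fin.forall_fin_succ, Fin.isValue, _root_.Matrix.smul_apply, _root_.smul_eq_mul, _root_.Fin.succ_zero_eq_one, _root_.IsEmpty.forall_iff, _root_.and_true, _root_.Matrix.one_apply_eq, _root_.mul_one, _root_.neg_zero, Nat.reduceAdd, _root_.ne_eq, _root_.zero_ne_one, _root_.not_false_eq_true, _root_.Matrix.one_apply_ne, _root_.MulZeroClass.mul_zero, _root_.and_self, _root_.Fin.succ_ne_zero, _root_.add_zero])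
    · by_cases h9 : (z : Matrix (Fin 2) (Fin 2) F) 1 0 = 0
      · left
        rw [← map_one pr]
        symm
        apply pr_eq_of_smul (c := (z : Matrix (Fin 2) (Fin 2) F) 0 0)
        rw [Matrix.SpecialLinearGroup.coe_one]
        rw [h9] at h3 h4
        ext i j
        (revert i j; simp only [h3, h4, h9, _root_.Fin.forall_fin_succ, Fin.isValue, _root_.Matrix.smul_apply, _root_.smul_eq_mul, _root_.Fin.succ_zero_eq_one, _root_.IsEmpty.forall_iff, _root_.and_true, _root_.Matrix.one_apply_eq, _root_.mul_one, _root_.neg_zero, Nat.reduceAdd, _root_.ne_eq, _root_.zero_ne_one, _root_.not_false_eq_true, _root_.Matrix.one_apply_ne, _root_.MulZeroClass.mul_zero, _root_.and_self, _root_.Fin.succ_ne_zero, _root_.add_zero])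
      · right
        refine ⟨(z : Matrix (Fin 2) (Fin 2) F) 1 0 / 2, div_ne_zero h9 h2, ?_⟩
        have h10 : (z : Matrix (Fin 2) (Fin 2) F) 0 0
            = (z : Matrix (Fin 2) (Fin 2) F) 1 0 / 2 * -t := by
          field_simp
          linear_combination h8
        ext i j
        fin_cases i <;> fin_cases j
        · simpa only [_root_.Fin.zero_eta, _root_.Fin.isValue, _root_.Matrix.smul_apply, _root_.Matrix.of_apply, _root_.Matrix.cons_val', _root_.Matrix.cons_val_zero, _root_.Matrix.cons_val_fin_one, _root_.smul_eq_mul, _root_.mul_neg] using h10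
        · simp only [Fin.zero_eta, Fin.isValue, Fin.mk_one, Matrix.smul_apply, Matrix.of_apply,
            Matrix.cons_val', Matrix.cons_val_one, Matrix.cons_val_fin_one, Matrix.cons_val_zero,
            smul_eq_mul]
          rw [h3]; field_simp
        · simp only [Fin.zero_eta, Fin.isValue, Fin.mk_one, Matrix.smul_apply, Matrix.of_apply,
            Matrix.cons_val', Matrix.cons_val_one, Matrix.cons_val_fin_one, Matrix.cons_val_zero,
            smul_eq_mul]
          field_simp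
        · simp only [Fin.isValue, Fin.mk_one, Matrix.smul_apply, Matrix.of_apply,
            Matrix.cons_val', Matrix.cons_val_one, Matrix.cons_val_fin_one,
            smul_eq_mul]
          rw [h4, h10]; field_simp; ring
  rw [← hy]
  rcases core' x hu huu with hx | ⟨s, hs, hx⟩
  · rw [hx, map_one] at hy
    rw [hy, hx]
  · rcases core' y hτ hyy with hy' | ⟨r, hr, hy'⟩
    · rw [hy'] at hy
      have h3 : pr x = 1 := τ.injective (by rw [← hy, map_one])
      rw [h3, hy']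
    · symm
      apply pr_eq_of_smul (c := r * s⁻¹)
      rw [hx, hy', smul_smul, mul_assoc, inv_mul_cancel₀ hs, mul_one]

end two

end Cfsg.Agent.Omega.Lie.CenLin

end

section


/-!
# The row `PSL_n(r)`, `r` odd, of the K-fact (ZS), Prelude form (helper584; NODE LIE)
-/

set_option autoImplicit false
set_option linter.dupNamespace false

namespace Cfsg.Agent.Omega.Lie.CenLinRow

open Cfsg

universe u

/-- **(ZS) for `PSL_n(r)`, `r` odd**: `NoCenMove` or `L₂(r)` with `r ≡ 3, 5 mod 8` -/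
theorem row {K : Type u} [Group K] {p : ℕ} (hp : p.Prime) (hp2 : p ≠ 2) (h : IsPSLChar p K) :
    CenTwo.NoCenMove K ∨ ∃ (F : Type) (_ : Field F) (_ : Fintype F), 4 ≤ Fintype.card F ∧
      (Fintype.card F % 8 = 3 ∨ Fintype.card F % 8 = 5) ∧
      Nonempty (K ≃* Matrix.ProjectiveSpecialLinearGroup (Fin 2) F) := by
  classical
  obtain ⟨F, _, _, hF, n, hn, h4, ⟨e⟩⟩ := h
  have h2 : (2 : F) ≠ 0 := by
    intro h0
    have h1 : ((2 : ℕ) : F) = 0 := by exact_mod_cast h0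
    have h3 : p ∣ 2 := (CharP.cast_eq_zero_iff F p 2).1 h1
    exact hp2 ((Nat.prime_dvd_prime_iff_eq hp Nat.prime_two).1 h3)
  have : Finite K := Finite.of_equiv _ e.symm.toEquiv
  by_cases hn2 : n = 2
  · subst hn2
    by_cases hsq : IsSquare (2 : F)
    · exact Or.inl ((CenLin.noCenMove_two h2 hsq).map e.symm)
    · right
      refine ⟨F, _, _, h4 rfl, ?_, ⟨e⟩⟩
      rw [FiniteField.isSquare_two_iff] at hsq
      (clear * - hsq; tauto)
  · exact Or.inl ((CenLin.noCenMove_three h2 (by omega)).map e.symm)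

end Cfsg.Agent.Omega.Lie.CenLinRow

end

section


/-!
# The field `psl` of `RowsZS` (helper584)
-/

set_option autoImplicit false

namespace Cfsg.Agent.Omega.KFacts

open Cfsg Cfsg.Agent.Omega.Lie.CenTwo

universe u

/-- the row `PSL_n(r)`, `r` odd, of `(ZS)` -/
theorem zs_psl : ZSRow.{u} fun K _ => OddChar @IsPSLChar K ∧ ¬ IsLieTypeChar 2 K ∧ ¬ IsLTwoFour K := by
  intro K _ h
  obtain ⟨⟨p, hp, hp2, hK⟩, h2, h4⟩ := h
  rcases Cfsg.Agent.Omega.Lie.CenLinRow.row hp hp2 hK with h | ⟨F, _, _, hF4, hF8, ⟨e⟩⟩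
  · exact h
  · rcases of_lTwo hF4 hF8 e with h | h
    · exact absurd h h2
    · exact absurd h h4

end Cfsg.Agent.Omega.KFacts

end

section


/-!
# The row `PSU_n(r)`, `r` odd, of the K-fact (ZS) (helper138; NODE LIE)

* `noCenMove`: `NoCenMove (PSU n F q)` for `n ≥ 3`, `F` a finite field with `q ^ 2` elements, `q` odd.

The 2-group is the group of signed permutation matrices over a Sylow 2-subgroup of the symmetric group (`n ≠ 4`), resp.
`(Q₈ × Q₈).2` (`n = 4`), intersected with `SU`; the automorphisms are semi-isometries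
(`ClassicalGeometry.PSUAutMain.exists_toAut`).
-/

set_option autoImplicit false
set_option linter.dupNamespace false
set_option linter.unusedSectionVars false

namespace Cfsg.Agent.Omega.Lie.CenUni

open Matrix Equiv CenMat CenLin
open Cfsg Cfsg.Agent.LieClassical.HermBasic Cfsg.Agent.LieClassical.HermSiegel
open Cfsg.Agent.ClassicalGeometry.PSUAutBasic (pr pr_surjective exists_center_mul
  exists_scalar_of_mem_center mem_center_of_act)
open Cfsg.Agent.ClassicalGeometry.PSUAutCount (gm semiConj toAut gm_mul_inv gm_inv_mul guConj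
  mat_guConjFun)
open Cfsg.Agent.LieClassical.FieldTransfer (suCongr)

section basic

variable {F : Type*} [Field F] [Fintype F] {q n : ℕ}

omit [Fintype F] in
theorem mat_ext {A B : Matrix (Fin n) (Fin n) F} (h : ∀ v, A *ᵥ v = B *ᵥ v) : A = B := by
  ext i j
  have h1 := congrFun (h (Pi.single j 1)) i
  rwa [mulVec_single_one, mulVec_single_one] at h1

/-- the Gram criterion -/
theorem mem_SU_of_gram (hF : Fintype.card F = q ^ 2) {g : _root_.Matrix.SpecialLinearGroup (Fin n) F}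
    (h : ∀ i j, ∑ k, (g : Matrix (Fin n) (Fin n) F) k i * (g : Matrix (Fin n) (Fin n) F) k j ^ q
      = if i = j then 1 else 0) : g ∈ SU n F q := by
  rw [Cfsg.Agent.LieClassical.HermBasic.mem_SU_iff]
  intro u v
  rw [herm_def, herm_def]
  have h1 : ∀ k, ((g : Matrix (Fin n) (Fin n) F) *ᵥ u) k * ((g : Matrix (Fin n) (Fin n) F) *ᵥ v) k ^ q
      = ∑ i, ∑ j, u i * v j ^ q * ((g : Matrix (Fin n) (Fin n) F) k i
        * (g : Matrix (Fin n) (Fin n) F) k j ^ q) := by
    intro k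
    rw [mulVec, mulVec, dotProduct, dotProduct, sum_pow_q hF, Finset.sum_mul_sum]
    refine Finset.sum_congr rfl fun i _ => Finset.sum_congr rfl fun j _ => ?_
    rw [mul_pow]
    ring
  calc ∑ k, ((g : Matrix (Fin n) (Fin n) F) *ᵥ u) k * ((g : Matrix (Fin n) (Fin n) F) *ᵥ v) k ^ q
      = ∑ k, ∑ i, ∑ j, u i * v j ^ q * ((g : Matrix (Fin n) (Fin n) F) k i
        * (g : Matrix (Fin n) (Fin n) F) k j ^ q) := Finset.sum_congr rfl fun k _ => h1 k
    _ = ∑ i, ∑ j, u i * v j ^ q * ∑ k, ((g : Matrix (Fin n) (Fin n) F) k i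
        * (g : Matrix (Fin n) (Fin n) F) k j ^ q) := by
      rw [Finset.sum_comm]
      refine Finset.sum_congr rfl fun i _ => ?_
      rw [Finset.sum_comm]
      refine Finset.sum_congr rfl fun j _ => ?_
      rw [Finset.mul_sum]
    _ = ∑ i, u i * v i ^ q := by
      refine Finset.sum_congr rfl fun i _ => ?_
      rw [Finset.sum_eq_single i]
      · rw [h, if_pos rfl, mul_one]
      · intro j _ hj
        rw [h, if_neg hj.symm, mul_zero]
      · intro h0; exact absurd (Finset.mem_univ _) h0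

theorem mat_eq_of_pr_eq (hF : Fintype.card F = q ^ 2) (hn : 3 ≤ n) {g h : SU n F q}
    (H : pr n F q g = pr n F q h) : ∃ c : F, mat h = c • mat g := by
  obtain ⟨z, hz, rfl⟩ := exists_center_mul H
  obtain ⟨c, -, -, hc⟩ := exists_scalar_of_mem_center hF hn hz
  refine ⟨c, mat_ext fun v => ?_⟩
  have h1 := hc v
  rw [mat_mul, smul_mulVec, ← mulVec_mulVec]
  rw [act_def] at h1
  rw [h1, mulVec_smul]

theorem pr_eq_of_smul {g h : SU n F q} {c : F} (H : mat h = c • mat g) :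
    pr n F q g = pr n F q h := by
  rw [Cfsg.Agent.ClassicalGeometry.PSUAutBasic.pr_eq_iff]
  apply mem_center_of_act (c := c)
  intro v
  have h1 : mat (g⁻¹ * h) = c • (1 : Matrix (Fin n) (Fin n) F) := by
    rw [mat_mul, H, mul_smul_comm, ← mat_mul, inv_mul_cancel, mat_one]
  rw [act_def, h1, smul_mulVec, one_mulVec]

theorem finite_PSU : Finite (PSU n F q) :=
  Finite.of_surjective _ (pr_surjective (n := n) (F := F) (q := q))

/-- the 2-group of `PSU` given by a 2-group of `SL` -/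
def im (n : ℕ) (F : Type*) [Field F] (q : ℕ) (E : Subgroup (_root_.Matrix.SpecialLinearGroup (Fin n) F)) :
    Subgroup (PSU n F q) := (E.comap (SU n F q).subtype).map (pr n F q)

omit [Fintype F] in
theorem isPGroup_im {E : Subgroup (_root_.Matrix.SpecialLinearGroup (Fin n) F)} (hE : IsPGroup 2 E) :
    IsPGroup 2 (im n F q E) :=
  (hE.comap_of_injective _ (Subgroup.subtype_injective _)).map _

theorem comm_of_cent (hF : Fintype.card F = q ^ 2) (hn : 3 ≤ n)
    {E : Subgroup (_root_.Matrix.SpecialLinearGroup (Fin n) F)} {x : SU n F q}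
    (hx : ∀ e ∈ im n F q E, e * pr n F q x = pr n F q x * e) {e : _root_.Matrix.SpecialLinearGroup (Fin n) F}
    (he : e ∈ E) (he' : e ∈ SU n F q) :
    ∃ c : F, mat x * (e : Matrix (Fin n) (Fin n) F)
      = c • ((e : Matrix (Fin n) (Fin n) F) * mat x) := by
  have h1 := hx (pr n F q ⟨e, he'⟩) ⟨⟨e, he'⟩, he, rfl⟩
  rw [← map_mul, ← map_mul] at h1
  obtain ⟨c, hc⟩ := mat_eq_of_pr_eq hF hn h1
  rw [mat_mul, mat_mul] at hc
  exact ⟨c, hc⟩

theorem sq_scalar (hF : Fintype.card F = q ^ 2) (hn : 3 ≤ n) {x : SU n F q}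
    (hx : pr n F q x * pr n F q x = 1) :
    ∃ c : F, mat x * mat x = c • (1 : Matrix (Fin n) (Fin n) F) := by
  rw [← map_mul, ← map_one (pr n F q)] at hx
  obtain ⟨c, hc⟩ := mat_eq_of_pr_eq hF hn hx.symm
  rw [mat_mul, mat_one] at hc
  exact ⟨c, hc⟩

theorem mat_suCongr (ρ : F ≃+* F) (g : SU n F q) (i j : Fin n) :
    mat (suCongr n q ρ g) i j = ρ (mat g i j) := rfl

/-- two sign vectors conjugate under the automorphism group of `PSU_n` -/
theorem exists_conj_form (hF : Fintype.card F = q ^ 2) (hn : 3 ≤ n) (h32 : ¬ (n = 3 ∧ q = 2))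
    {x y : SU n F q} {a b : F} {f g : Fin n → ZMod 2} (hb : b ≠ 0)
    (hx : mat x = a • sg F f) (hy : mat y = b • sg F g)
    {τ : MulAut (PSU n F q)} (h : τ (pr n F q x) = pr n F q y) :
    ∃ (C : Matrix (Fin n) (Fin n) F) (κ : F), IsUnit C.det ∧ sg F g * C = κ • (C * sg F f) := by
  obtain ⟨A, ρ, rfl⟩ := Cfsg.Agent.ClassicalGeometry.PSUAutMain.exists_toAut hF hn h32 τ
  rw [Cfsg.Agent.ClassicalGeometry.PSUAutMain.toAut_pr'] at h
  obtain ⟨c, hc⟩ := mat_eq_of_pr_eq hF hn h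
  have h0 : mat (semiConj A ρ x) = gm A * mat (suCongr n q ρ x) * gm A⁻¹ := rfl
  have h1 : mat (suCongr n q ρ x) = ρ a • sg F f := by
    ext i j
    rw [mat_suCongr, hx, Matrix.smul_apply, Matrix.smul_apply, smul_eq_mul, smul_eq_mul, map_mul]
    congr 1
    rw [sg, diagonal_apply]
    by_cases hij : i = j
    · rw [if_pos hij, sgn]
      split_ifs
      · rw [map_neg, map_one]
      · rw [map_one]
    · rw [if_neg hij, map_zero]
  refine ⟨gm A, b⁻¹ * (c * ρ a), ?_, ?_⟩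
  · have h3 := congrArg Matrix.det (gm_mul_inv A)
    rw [det_mul, det_one] at h3
    exact IsUnit.of_mul_eq_one _ h3
  · rw [h0, h1, hy] at hc
    have h2 : b • (sg F g * gm A) = (c * ρ a) • (gm A * sg F f) := by
      calc b • (sg F g * gm A)
          = (b • sg F g) * gm A := by rw [Matrix.smul_mul]
        _ = (c * ρ a) • (gm A * sg F f * gm A⁻¹ * gm A) := by
            rw [hc, Matrix.mul_smul, Matrix.smul_mul, Matrix.smul_mul, Matrix.smul_mul, smul_smul]
        _ = _ := by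
            rw [Matrix.mul_assoc _ (gm A⁻¹), gm_inv_mul, Matrix.mul_one]
    rw [mul_smul, ← h2, smul_smul, inv_mul_cancel₀ hb, one_smul]

omit [Fintype F] in
theorem pow_q_of_sq {x : F} (hq : Odd q) (hx : x * x = 1) : x ^ q = x := by
  obtain ⟨k, rfl⟩ := hq
  rw [pow_succ, pow_mul, pow_two, hx, one_pow, one_mul]

theorem mono_mem_SU (hF : Fintype.card F = q ^ 2) (hq : Odd q) {s : Fin n → F}
    (hs : ∀ i, s i * s i = 1) (p : Perm (Fin n)) (hd : (mono s p).det = 1) :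
    (⟨mono s p, hd⟩ : _root_.Matrix.SpecialLinearGroup (Fin n) F) ∈ SU n F q := by
  apply mem_SU_of_gram hF
  intro i j
  change ∑ k, mono s p k i * mono s p k j ^ q = _
  rw [Finset.sum_eq_single (p i)]
  · rw [mono_apply, mono_apply, if_pos rfl]
    by_cases hij : i = j
    · subst hij
      rw [if_pos rfl, if_pos rfl, pow_q_of_sq hq (hs _), hs]
    · rw [if_neg (fun h => hij (p.injective h)), if_neg hij, zero_pow_q hF, mul_zero]
  · intro k _ hk
    rw [mono_apply, if_neg hk, zero_mul]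
  · intro h; exact absurd (Finset.mem_univ _) h

theorem noCenMove_ne_four (hF : Fintype.card F = q ^ 2) (hq : Odd q) (h2 : (2 : F) ≠ 0)
    (hn : 3 ≤ n) (hn4 : n ≠ 4) : CenTwo.NoCenMove (PSU n F q) := by
  classical
  have h32 : ¬ (n = 3 ∧ q = 2) := by
    rintro ⟨-, rfl⟩
    exact absurd hq (by decide)
  have : Finite (PSU n F q) := finite_PSU
  have : Nonempty (Fin n) := ⟨⟨0, by omega⟩⟩
  obtain ⟨P⟩ : Nonempty (Sylow 2 (Perm (Fin n))) := inferInstance
  have hE : IsPGroup 2 (im n F q (monoGrp F (P : Subgroup (Perm (Fin n))))) :=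
    isPGroup_im (isPGroup_monoGrp P.isPGroup')
  refine of_cent hE ?_
  intro u τ hu hτ huu
  obtain ⟨x, rfl⟩ := pr_surjective u
  obtain ⟨y, hy⟩ := pr_surjective (τ (pr n F q x))
  rw [← hy] at hτ
  have hyy : pr n F q y * pr n F q y = 1 := by rw [hy, ← map_mul, huu, map_one]
  have core' : ∀ z : SU n F q,
      (∀ e ∈ im n F q (monoGrp F (P : Subgroup (Perm (Fin n)))),
        e * pr n F q z = pr n F q z * e) →
      pr n F q z * pr n F q z = 1 → ∃ (a : F) (f : Fin n → ZMod 2), a ≠ 0 ∧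
        mat z = a • sg F f ∧ ∀ p ∈ P, ∃ c, ∀ i, f (p i) = f i + c := by
    intro z hz hzz
    obtain ⟨μ, hμ⟩ := sq_scalar hF hn hzz
    have hdet : IsUnit (mat z).det := by
      rw [mat_def, z.1.2]; exact isUnit_one
    refine core h2 (by rw [Fintype.card_fin]; exact hn) (by rw [Fintype.card_fin]; exact hn4)
      (P := (P : Set (Perm (Fin n)))) P.one_mem hdet hμ ?_
    intro s hs p hp hd
    exact comm_of_cent hF hn hz (e := ⟨mono s p, hd⟩) (mem_monoGrp.2 ⟨p, hp, s, hs, rfl⟩)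
      (mono_mem_SU hF hq hs p hd)
  obtain ⟨a, f, ha, hxf, hf⟩ := core' x hu huu
  obtain ⟨b, g, hb, hyg, hg⟩ := core' y hτ hyy
  obtain ⟨C, κ, hC, hκ⟩ := exists_conj_form hF hn h32 hb hxf hyg hy.symm
  rw [← hy]
  symm
  rcases PermSyl.unique_of_shift P hf hg (conj_card h2 hC hκ) with h | h
  · have h3 : g = f := funext h
    apply pr_eq_of_smul (c := b * a⁻¹)
    rw [hyg, hxf, smul_smul, mul_assoc, inv_mul_cancel₀ ha, mul_one, h3]
  · have h3 : g = fun i => f i + 1 := funext h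
    apply pr_eq_of_smul (c := -(b * a⁻¹))
    rw [hyg, hxf, smul_smul, h3, sg_add_one, smul_neg, neg_mul, neg_smul, mul_assoc,
      inv_mul_cancel₀ ha, mul_one]

end basic

section four

variable {F : Type*} [Field F] [Fintype F] {q : ℕ}

/-- conics over the fixed field have points -/
theorem exists_conic (hF : Fintype.card F = q ^ 2) (hq : Odd q) {a : F} (ha : a ^ q = a)
    (ha0 : a ≠ 0) : ∃ x y : F, x ^ q = x ∧ y ^ q = y ∧ a * (x * x) + a * (y * y) + 1 = 0 := by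
  classical
  let K : Subfield F := RingHom.eqLocusField (conj hF : F →+* F) (RingHom.id F)
  have : Fintype K := Fintype.ofFinite _
  have hcard : Fintype.card K = q := by
    rw [← Nat.card_eq_fintype_card]
    exact card_fixed hF
  have hodd : Fintype.card K % 2 = 1 := by
    rw [hcard]; exact Nat.odd_iff.1 hq
  let a' : K := ⟨a, ha⟩
  have ha' : a' ≠ 0 := fun h => ha0 (congrArg Subtype.val h)
  obtain ⟨x, y, hxy⟩ := FiniteField.exists_root_sum_quadratic (R := K)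
    (f := Polynomial.C a' * Polynomial.X ^ 2 + Polynomial.C 0 * Polynomial.X + Polynomial.C 0)
    (g := Polynomial.C a' * Polynomial.X ^ 2 + Polynomial.C 0 * Polynomial.X + Polynomial.C 1)
    (Polynomial.degree_quadratic ha') (Polynomial.degree_quadratic ha') hodd
  refine ⟨x, y, x.2, y.2, ?_⟩
  simp only [Polynomial.eval_add, Polynomial.eval_mul, Polynomial.eval_C, Polynomial.eval_pow,
    Polynomial.eval_X, zero_mul, add_zero] at hxy
  have h5 := congrArg (fun t : K => (t : F)) hxy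
  simp only [Subfield.coe_add, Subfield.coe_mul, Subfield.coe_zero, SubmonoidClass.coe_pow,
    Subfield.coe_one] at h5
  linear_combination h5

/-- `q` odd: `a, b` of trace zero with `a² + b² = -1` -/
theorem exists_ab (hF : Fintype.card F = q ^ 2) (hq : Odd q) :
    ∃ a b : F, a * a + b * b = -1 ∧ a ^ q = -a ∧ b ^ q = -b := by
  obtain ⟨d, hd0, hd⟩ := exists_trace_zero_ne hF
  have hdq : d ^ q = -d := by linear_combination hd
  obtain ⟨x, y, hx, hy, hxy⟩ := exists_conic hF hq (a := d * d)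
    (by rw [mul_pow, hdq, neg_mul_neg]) (mul_ne_zero hd0 hd0)
  refine ⟨d * x, d * y, by linear_combination hxy, ?_, ?_⟩
  · rw [mul_pow, hdq, hx]; ring
  · rw [mul_pow, hdq, hy]; ring

theorem bt_mem (hF : Fintype.card F = q ^ 2) {a b : F} (h : a * a + b * b = -1)
    (ha : a ^ q = -a) (hb : b ^ q = -b) : bt a b b h ∈ SU 4 F q := by
  apply mem_SU_of_gram hF
  have z := zero_pow_q (F := F) hF
  intro i j
  rw [coe_bt]
  (revert i j; simp only [Fin.sum_univ_four, z, ha, hb, neg_pow_q hF, _root_.Fin.forall_fin_succ, _root_.Matrix.of_apply, _root_.Matrix.cons_val', _root_.Matrix.cons_val_fin_one, Fin.isValue, _root_.Matrix.cons_val_zero, _root_.Matrix.cons_val_one, _root_.Matrix.cons_val, _root_.mul_neg, _root_.MulZeroClass.mul_zero, _root_.add_zero, _root_.Matrix.cons_val_succ, _root_.neg_neg, _root_.Fin.succ_zero_eq_one, _root_.one_pow, _root_.mul_one, _root_.zero_add, _root_.Fin.succ_one_eq_two, Fin.reduceSucc, _root_.IsEmpty.forall_iff,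 _root_.and_true, ↓reduceIte, _root_.zero_ne_one, Fin.reduceEq, _root_.and_self, _root_.Fin.succ_ne_zero, _root_.neg_mul, _root_.MulZeroClass.zero_mul, _root_.neg_zero, _root_.right_eq_ite_iff, _root_.imp_false, _root_.left_eq_ite_iff, _root_.one_ne_zero, _root_.Decidable.not_not, _root_.true_and, _root_.not_false_eq_true]) <;> (repeat' with_reducible apply And.intro) <;>
    first | linear_combination -h | ring

theorem bl_mem (hF : Fintype.card F = q ^ 2) {a b : F} (h : a * a + b * b = -1)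
    (ha : a ^ q = -a) (hb : b ^ q = -b) : bl a b b h ∈ SU 4 F q := by
  apply mem_SU_of_gram hF
  have z := zero_pow_q (F := F) hF
  intro i j
  rw [coe_bl]
  (revert i j; simp only [Fin.sum_univ_four, z, ha, hb, neg_pow_q hF, _root_.Fin.forall_fin_succ, _root_.Matrix.of_apply, _root_.Matrix.cons_val', _root_.Matrix.cons_val_fin_one, Fin.isValue, _root_.Matrix.cons_val_zero, _root_.Matrix.cons_val_one, _root_.Matrix.cons_val, _root_.one_pow, _root_.mul_one, _root_.MulZeroClass.mul_zero, _root_.add_zero, _root_.Matrix.cons_val_succ, _root_.zero_add, _root_.Fin.succ_zero_eq_one, _root_.mul_neg, _root_.Fin.succ_one_eq_two, _root_.neg_neg, Fin.reduceSucc, _root_.IsEmpty.forall_iff, _root_.and_true, ↓reduceIte, _root_.zero_ne_one, _root_.MulZeroClass.zero_mul, _root_.neg_zero, Fin.reduceEq, _root_.and_self, _root_.Fin.succ_ne_zero, _root_.true_and, _root_.right_eq_ite_iff, _root_.imp_false, _root_.neg_mul, _root_.not_false_eq_true])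 <;> (repeat' with_reducible apply And.intro) <;>
    first | linear_combination -h | ring

theorem e1_mem (hF : Fintype.card F = q ^ 2) : e1 F ∈ SU 4 F q := by
  apply mem_SU_of_gram hF
  have z := zero_pow_q (F := F) hF
  intro i j
  rw [e1, coe_bt]
  (revert i j; simp only [Fin.sum_univ_four, z, neg_pow_q hF, _root_.Fin.forall_fin_succ, _root_.neg_zero, _root_.Matrix.of_apply, _root_.Matrix.cons_val', _root_.Matrix.cons_val_fin_one, Fin.isValue, _root_.Matrix.cons_val_zero, _root_.Matrix.cons_val_one, _root_.Matrix.cons_val, _root_.MulZeroClass.mul_zero, _root_.one_pow, _root_.mul_neg, _root_.mul_one, _root_.zero_add, _root_.add_zero, _root_.Matrix.cons_val_succ, _root_.Fin.succ_zero_eq_one, _root_.Fin.succ_one_eq_two, Fin.reduceSucc, _root_.IsEmpty.forall_iff, _root_.and_true, _root_.neg_neg, ↓reduceIte, _root_.zero_ne_one, Fin.reduceEq, _root_.and_self, _root_.Fin.succ_ne_zero, _root_.neg_eq_zero, _root_.right_eq_ite_iff,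 _root_.imp_false, _root_.left_eq_ite_iff, _root_.one_ne_zero, _root_.Decidable.not_not, _root_.true_and, _root_.not_false_eq_true])

theorem e3_mem (hF : Fintype.card F = q ^ 2) : e3 F ∈ SU 4 F q := by
  apply mem_SU_of_gram hF
  have z := zero_pow_q (F := F) hF
  intro i j
  rw [e3, coe_bl]
  (revert i j; simp only [Fin.sum_univ_four, z, neg_pow_q hF, _root_.Fin.forall_fin_succ, _root_.neg_zero, _root_.Matrix.of_apply, _root_.Matrix.cons_val', _root_.Matrix.cons_val_fin_one, Fin.isValue, _root_.Matrix.cons_val_zero, _root_.Matrix.cons_val_one, _root_.Matrix.cons_val, _root_.one_pow, _root_.mul_one, _root_.MulZeroClass.mul_zero, _root_.add_zero, _root_.Matrix.cons_val_succ, _root_.zero_add, _root_.Fin.succ_zero_eq_one, _root_.mul_neg, _root_.Fin.succ_one_eq_two, Fin.reduceSucc, _root_.IsEmpty.forall_iff, _root_.and_true, ↓reduceIte, _root_.zero_ne_one, Fin.reduceEq, _root_.and_self, _root_.Fin.succ_ne_zero, _root_.neg_neg, _root_.right_eq_ite_iff,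 _root_.imp_false, _root_.left_eq_ite_iff, _root_.one_ne_zero, _root_.Decidable.not_not, _root_.true_and, _root_.not_false_eq_true])

theorem sw_mem (hF : Fintype.card F = q ^ 2) : sw F ∈ SU 4 F q := by
  apply mem_SU_of_gram hF
  have z := zero_pow_q (F := F) hF
  intro i j
  rw [coe_sw]
  (revert i j; simp only [Fin.sum_univ_four, z, _root_.Fin.forall_fin_succ, _root_.Matrix.of_apply, _root_.Matrix.cons_val', _root_.Matrix.cons_val_fin_one, Fin.isValue, _root_.Matrix.cons_val_zero, _root_.Matrix.cons_val_one, _root_.Matrix.cons_val, _root_.MulZeroClass.mul_zero, _root_.add_zero, _root_.one_pow, _root_.mul_one, _root_.zero_add, _root_.Matrix.cons_val_succ, _root_.Fin.succ_zero_eq_one, _root_.Fin.succ_one_eq_two, Fin.reduceSucc, _root_.IsEmpty.forall_iff, _root_.and_true, ↓reduceIte, _root_.zero_ne_one, Fin.reduceEq, _root_.and_self, _root_.Fin.succ_ne_zero, _root_.right_eq_ite_iff, _root_.imp_false, _root_.left_eq_ite_iff, _root_.one_ne_zero,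 _root_.Decidable.not_not, _root_.true_and, _root_.not_false_eq_true])

theorem noCenMove_four (hF : Fintype.card F = q ^ 2) (hq : Odd q) (h2 : (2 : F) ≠ 0) :
    CenTwo.NoCenMove (PSU 4 F q) := by
  classical
  have : Finite (PSU 4 F q) := finite_PSU
  have hn : 3 ≤ 4 := by norm_num
  obtain ⟨a, b, hab, ha, hb⟩ := exists_ab hF hq
  set E := Subgroup.closure ({sw F, e4 hab, e3 F, e2 hab, e1 F} :
    Set (_root_.Matrix.SpecialLinearGroup (Fin 4) F)) with hEdef
  have hE : IsPGroup 2 (im 4 F q E) := isPGroup_im (isPGroup_four hab)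
  refine of_cent hE ?_
  intro u τ hu hτ huu
  obtain ⟨x, rfl⟩ := pr_surjective u
  obtain ⟨y, hy⟩ := pr_surjective (τ (pr 4 F q x))
  rw [← hy] at hτ
  have core' : ∀ z : SU 4 F q, (∀ e ∈ im 4 F q E, e * pr 4 F q z = pr 4 F q z * e) →
      ∃ t : F, t ≠ 0 ∧ (mat z = t • (1 : Matrix (Fin 4) (Fin 4) F) ∨
        mat z = t • !![1, 0, 0, 0; 0, 1, 0, 0; 0, 0, -1, 0; 0, 0, 0, -1]) := by
    intro z hz
    have hNM : mat z⁻¹ * mat z = 1 := by
      rw [← mat_mul, inv_mul_cancel, mat_one]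
    have c1 := comm_of_cent hF hn hz (e := e1 F) (Subgroup.subset_closure (by simp)) (e1_mem hF)
    have c2 := comm_of_cent hF hn hz (e := e2 hab) (Subgroup.subset_closure (by simp))
      (bt_mem hF hab ha hb)
    have c3 := comm_of_cent hF hn hz (e := e3 F) (Subgroup.subset_closure (by simp)) (e3_mem hF)
    have c4 := comm_of_cent hF hn hz (e := e4 hab) (Subgroup.subset_closure (by simp))
      (bl_mem hF hab ha hb)
    have c5 := comm_of_cent hF hn hz (e := sw F) (Subgroup.subset_closure (by simp)) (sw_mem hF)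
    rw [e1, coe_bt, neg_zero] at c1
    rw [e2, coe_bt] at c2
    rw [e3, coe_bl, neg_zero] at c3
    rw [e4, coe_bl] at c4
    rw [coe_sw] at c5
    exact core4 h2 hab hNM c1 c2 c3 c4 c5
  have hone : ∀ (z : SU 4 F q) (t : F),
      mat z = t • (1 : Matrix (Fin 4) (Fin 4) F) → pr 4 F q z = 1 := by
    intro z t hz
    rw [← map_one (pr 4 F q)]
    symm
    apply pr_eq_of_smul (c := t)
    rw [hz, mat_one]
  obtain ⟨s, hs, hx⟩ := core' x hu
  obtain ⟨t, ht, hy'⟩ := core' y hτ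
  rw [← hy]
  rcases hx with hx | hx
  · rw [hone x s hx, map_one] at hy
    rw [hy, hone x s hx]
  · rcases hy' with hy' | hy'
    · rw [hone y t hy'] at hy
      have h3 : pr 4 F q x = 1 := τ.injective (by rw [← hy, map_one])
      rw [h3, hone y t hy']
    · symm
      apply pr_eq_of_smul (c := t * s⁻¹)
      rw [hx, hy', smul_smul, mul_assoc, inv_mul_cancel₀ hs, mul_one]

/-- **the row `PSU_n(r)`, `n ≥ 3`, `r` odd** -/
theorem noCenMove (hF : Fintype.card F = q ^ 2) (hq : Odd q) (h2 : (2 : F) ≠ 0) {n : ℕ}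
    (hn : 3 ≤ n) : CenTwo.NoCenMove (PSU n F q) := by
  by_cases h4 : n = 4
  · subst h4
    exact noCenMove_four hF hq h2
  · exact noCenMove_ne_four hF hq h2 hn h4

end four

end Cfsg.Agent.Omega.Lie.CenUni

end

section


/-!
# The row `PSU_n(r)`, `r` odd, of the K-fact (ZS), Prelude form (helper138; NODE LIE)
-/

set_option autoImplicit false
set_option linter.dupNamespace false

namespace Cfsg.Agent.Omega.Lie.CenUniRow

open Cfsg

universe u

/-- **(ZS) for `PSU_n(r)`, `r` odd** -/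
theorem row {K : Type u} [Group K] {p : ℕ} (hp : p.Prime) (hp2 : p ≠ 2) (h : IsPSUChar p K) :
    CenTwo.NoCenMove K := by
  classical
  obtain ⟨F, _, _, hF, n, q, hq, hn, h32, ⟨e⟩⟩ := h
  have h2 : (2 : F) ≠ 0 := by
    intro h0
    have h1 : ((2 : ℕ) : F) = 0 := by exact_mod_cast h0
    have h3 : p ∣ 2 := (CharP.cast_eq_zero_iff F p 2).1 h1
    exact hp2 ((Nat.prime_dvd_prime_iff_eq hp Nat.prime_two).1 h3)
  have hodd : Odd q := by
    rw [← Nat.not_even_iff_odd]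
    intro he
    apply h2
    have h3 : ringChar F = 2 := by
      apply FiniteField.even_card_iff_char_two.2
      rw [hq, ← Nat.even_iff]
      exact he.pow_of_ne_zero (by norm_num)
    have h4 : ((2 : ℕ) : F) = 0 := by rw [← h3]; exact ringChar.Nat.cast_ringChar
    exact_mod_cast h4
  have : Finite (PSU n F q) := CenUni.finite_PSU
  have : Finite K := Finite.of_equiv _ e.symm.toEquiv
  exact (CenUni.noCenMove hq hodd h2 hn).map e.symm

end Cfsg.Agent.Omega.Lie.CenUniRow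

end

section


/-!
# The field `psu` of `RowsZS` (helper138)
-/

set_option autoImplicit false

namespace Cfsg.Agent.Omega.KFacts

open Cfsg Cfsg.Agent.Omega.Lie.CenTwo

universe u

/-- the row `PSU_n(r)`, `r` odd, of `(ZS)` -/
theorem zs_psu : ZSRow.{u} fun K _ => OddChar @IsPSUChar K ∧ ¬ IsLieTypeChar 2 K := by
  intro K _ h
  obtain ⟨⟨p, hp, hp2, hK⟩, -⟩ := h
  exact Cfsg.Agent.Omega.Lie.CenUniRow.row hp hp2 hK

end Cfsg.Agent.Omega.KFacts

end

section


/-!
# Invariants of central involutions, and Sylow 2-subgroups of symmetric groups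

* `noCenMove_of_inv`: a 2-subgroup `E` of `X` and a function on `X`, invariant under all automorphisms, which is
  injective on the involutions of `C_X(E)`, give `NoCenMove X`;
* `two_dvd_index`: an element of `N(K) - K` with square in `K` makes the index of `K` even;
* `eq_or_eq_compl`: `P` a Sylow 2-subgroup of `Sym(ι)`, `A`, `B` subsets of the same size which every element of `P`
  fixes or maps to the complement: `A = B` or `A = Bᶜ`.
-/

set_option autoImplicit false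

namespace Cfsg.Agent.Omega.Lie.CenSwap

open Subgroup Cfsg.Agent.Omega.Lie.CenTwo
open scoped Pointwise

/-! ### The invariant -/

theorem noCenMove_of_inv {X : Type*} [Group X] [Finite X] {α : Type*} (inv : X → α)
    (hinv : ∀ (τ : MulAut X) (u : X), u * u = 1 → inv (τ u) = inv u) (E : Subgroup X) (hE : IsPGroup 2 ↥E)
    (hinj : ∀ u v : X, (∀ x ∈ E, x * u = u * x) → (∀ x ∈ E, x * v = v * x) → u * u = 1 → v * v = 1 →
      inv u = inv v → u ≠ 1 → v ≠ 1 → u = v) : NoCenMove X := by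
  have : Fact (Nat.Prime 2) := ⟨Nat.prime_two⟩
  obtain ⟨S, hS⟩ := hE.exists_le_sylow
  refine NoCenMove.of_one (S := S) fun τ _ hτS u hu hc huu => ?_
  by_cases hu1 : u = 1
  · rw [hu1, map_one]
  refine hinj _ _ ?_ ?_ ?_ huu (hinv τ u huu) ?_ hu1
  · intro x hx
    obtain ⟨y, hy, rfl⟩ := exists_preimage (S := (S : Subgroup X)) hτS (hS hx)
    rw [← map_mul, hc y hy, map_mul]
  · intro x hx
    exact hc x (hS hx)
  · rw [← map_mul, huu, map_one]
  · intro h1
    apply hu1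
    apply τ.injective
    rw [h1, map_one]

/-! ### Even index -/

theorem two_dvd_index {X : Type*} [Group X] [Finite X] {K : Subgroup X} {t : X}
    (hn : ∀ x ∈ K, t * x * t⁻¹ ∈ K) (ht : t ∉ K) (htt : t * t ∈ K) : 2 ∣ K.index := by
  have hnt : t ∈ normalizer (K : Set X) := by
    rw [Subgroup.mem_normalizer_iff]
    intro x
    refine ⟨fun hx => hn x hx, fun hx => ?_⟩
    have h1 := hn _ hx
    have e : t * (t * x * t⁻¹) * t⁻¹ = (t * t) * x * (t * t)⁻¹ := by group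
    rw [e] at h1
    have h2 := K.mul_mem (K.mul_mem (K.inv_mem htt) h1) htt
    have e2 : (t * t)⁻¹ * (t * t * x * (t * t)⁻¹) * (t * t) = x := by group
    rwa [e2] at h2
  set N : Subgroup X := normalizer (K : Set X) with hN
  have hKN : K ≤ N := Subgroup.le_normalizer
  have h1 : (K.subgroupOf N).index ∣ K.index := Subgroup.relIndex_dvd_index_of_le hKN
  refine Dvd.dvd.trans ?_ h1
  have hnorm : (K.subgroupOf N).Normal := Subgroup.normal_in_normalizer
  have h2 : orderOf ((⟨t, hnt⟩ : N) : N ⧸ K.subgroupOf N) = 2 := by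
    rw [orderOf_eq_prime_iff (hp := ⟨Nat.prime_two⟩)]
    constructor
    · rw [pow_two, ← QuotientGroup.mk_mul, QuotientGroup.eq_one_iff, Subgroup.mem_subgroupOf]
      exact htt
    · intro h
      rw [QuotientGroup.eq_one_iff, Subgroup.mem_subgroupOf] at h
      exact ht h
  rw [Subgroup.index_eq_card, ← h2]
  exact _root_.orderOf_dvd_natCard _

/-! ### Symmetric groups -/

section Perm

variable {ι : Type*} [Fintype ι] [DecidableEq ι]

/-- Two subsets of the same size are interchanged by a permutation of order at most two. -/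
theorem exists_swap {A B : Finset ι} (h : A.card = B.card) :
    ∃ t : Equiv.Perm ι, t * t = 1 ∧ A.map t.toEmbedding = B ∧ B.map t.toEmbedding = A := by
  have h1 : (A \ B).card = (B \ A).card := by
    have e1 := Finset.card_sdiff_add_card_inter A B
    have e2 := Finset.card_sdiff_add_card_inter B A
    rw [Finset.inter_comm B A] at e2
    omega
  have e : {x // x ∈ A \ B} ≃ {x // x ∈ B \ A} := Finset.equivOfCardEq h1
  let f : ι → ι := fun x => if hx : x ∈ A \ B then (e ⟨x, hx⟩ : ι) else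
    if hx : x ∈ B \ A then (e.symm ⟨x, hx⟩ : ι) else x
  have hf1 : ∀ x (hx : x ∈ A \ B), f x = e ⟨x, hx⟩ := fun x hx => dif_pos hx
  have hdis : ∀ x, x ∈ B \ A → x ∉ A \ B := by
    intro x hx hx'
    rw [Finset.mem_sdiff] at hx hx'
    exact hx.2 hx'.1
  have hf2 : ∀ x (hx : x ∈ B \ A), f x = e.symm ⟨x, hx⟩ := fun x hx => by
    have := hdis x hx
    simp only [f]
    rw [dif_neg this, dif_pos hx]
  have hf3 : ∀ x, x ∉ A \ B → x ∉ B \ A → f x = x := fun x h1 h2 => by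
    simp only [f]
    rw [dif_neg h1, dif_neg h2]
  have hinv : Function.Involutive f := by
    intro x
    by_cases hx : x ∈ A \ B
    · rw [hf1 x hx, hf2 _ (e ⟨x, hx⟩).2]
      simp
    · by_cases hx' : x ∈ B \ A
      · rw [hf2 x hx', hf1 _ (e.symm ⟨x, hx'⟩).2]
        simp
      · rw [hf3 x hx hx', hf3 x hx hx']
  have hAB : ∀ x ∈ A, f x ∈ B := by
    intro x hx
    by_cases hxB : x ∈ B
    · rw [hf3 x (by simp [hxB]) (by simp [hx])]
      exact hxB
    · have hx1 : x ∈ A \ B := Finset.mem_sdiff.2 ⟨hx, hxB⟩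
      rw [hf1 x hx1]
      exact (Finset.mem_sdiff.1 (e ⟨x, hx1⟩).2).1
  have hBA : ∀ x ∈ B, f x ∈ A := by
    intro x hx
    by_cases hxA : x ∈ A
    · rw [hf3 x (by simp [hx]) (by simp [hxA])]
      exact hxA
    · have hx1 : x ∈ B \ A := Finset.mem_sdiff.2 ⟨hx, hxA⟩
      rw [hf2 x hx1]
      exact (Finset.mem_sdiff.1 (e.symm ⟨x, hx1⟩).2).1
  refine ⟨hinv.toPerm, ?_, ?_, ?_⟩
  · ext1 x
    exact hinv x
  · apply Finset.eq_of_subset_of_card_le
    · intro y hy
      rw [Finset.mem_map] at hy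
      obtain ⟨x, hx, rfl⟩ := hy
      exact hAB x hx
    · rw [Finset.card_map, h]
  · apply Finset.eq_of_subset_of_card_le
    · intro y hy
      rw [Finset.mem_map] at hy
      obtain ⟨x, hx, rfl⟩ := hy
      exact hBA x hx
    · rw [Finset.card_map, h]

/-- `g` maps `A` to `A` or to its complement -/
def Semi (g : Equiv.Perm ι) (A : Finset ι) : Prop :=
  A.map g.toEmbedding = A ∨ A.map g.toEmbedding = Aᶜ

theorem map_compl (g : Equiv.Perm ι) (A : Finset ι) :
    (Aᶜ).map g.toEmbedding = (A.map g.toEmbedding)ᶜ := by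
  ext x
  simp only [Finset.mem_map_equiv, Finset.mem_compl]

theorem map_mul (g h : Equiv.Perm ι) (A : Finset ι) :
    A.map (g * h).toEmbedding = (A.map h.toEmbedding).map g.toEmbedding := by
  rw [Finset.map_map]
  rfl

theorem map_one (A : Finset ι) : A.map (1 : Equiv.Perm ι).toEmbedding = A := by
  ext x
  simp only [Finset.mem_map_equiv]
  rfl

theorem Semi.mul {g h : Equiv.Perm ι} {A : Finset ι} (hg : Semi g A) (hh : Semi h A) : Semi (g * h) A := by
  unfold Semi at *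
  rw [map_mul]
  rcases hh with h1 | h1 <;> rw [h1]
  · exact hg
  · rw [map_compl]
    rcases hg with h2 | h2 <;> rw [h2]
    · right; rfl
    · left; rw [compl_compl]

theorem semi_one (A : Finset ι) : Semi 1 A := Or.inl (map_one A)

/-- the stabiliser of the partition `{A, Aᶜ}` -/
def stab (A : Finset ι) : Subgroup (Equiv.Perm ι) where
  carrier := {g | Semi g A}
  mul_mem' := fun hg hh => hg.mul hh
  one_mem' := semi_one A
  inv_mem' := by
    intro g hg
    have h1 : (A.map g.toEmbedding).map g⁻¹.toEmbedding = A := by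
      rw [← map_mul, inv_mul_cancel, map_one]
    rcases hg with h | h
    · left
      rw [h] at h1
      exact h1
    · right
      rw [h, map_compl] at h1
      rw [← h1, compl_compl]
      rw [h1]

theorem mem_stab {A : Finset ι} {g : Equiv.Perm ι} : g ∈ stab A ↔ Semi g A := Iff.rfl

/-- **Sylow 2-subgroups of symmetric groups.** -/
theorem eq_or_eq_compl (P : Sylow 2 (Equiv.Perm ι)) {A B : Finset ι} (hA : ∀ g ∈ P, Semi g A)
    (hB : ∀ g ∈ P, Semi g B) (hcard : A.card = B.card) : A = B ∨ A = Bᶜ := by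
  by_contra hcon
  push Not at hcon
  obtain ⟨h1, h2⟩ := hcon
  obtain ⟨t, htt, htA, htB⟩ := exists_swap hcard
  have hti : t⁻¹ = t := inv_eq_of_mul_eq_one_left htt
  have hP : (P : Subgroup (Equiv.Perm ι)) ≤ stab A ⊓ stab B := fun g hg =>
    ⟨hA g hg, hB g hg⟩
  have key : ∀ {C D : Finset ι}, C.map t.toEmbedding = D → ∀ x : Equiv.Perm ι, Semi x C →
      Semi (t * x * t⁻¹) D := by
    intro C D hCD x hx
    have hDC : D.map t.toEmbedding = C := by
      rw [← hCD, ← map_mul, htt, map_one]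
    unfold Semi
    rw [map_mul, hti, hDC, map_mul]
    rcases hx with h | h
    · left; rw [h, hCD]
    · right; rw [h, map_compl, hCD]
  have h3 : 2 ∣ (stab A ⊓ stab B).index := by
    apply two_dvd_index (t := t)
    · rintro x ⟨hx1, hx2⟩
      exact ⟨key htB x hx2, key htA x hx1⟩
    · rintro ⟨h, -⟩
      rcases h with h | h
      · rw [htA] at h
        exact h1 h.symm
      · rw [htA] at h
        apply h2
        rw [h, compl_compl]
    · rw [htt]
      exact one_mem _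
  have : Fact (Nat.Prime 2) := ⟨Nat.prime_two⟩
  exact P.not_dvd_index (h3.trans (Subgroup.index_dvd_of_le hP))

end Perm

end Cfsg.Agent.Omega.Lie.CenSwap

end
end

-- part: Mrg/Omega/Lie/CenSymp
section
section


/-!
# The K-fact (ZS) for the simple symplectic groups in odd characteristic

`noCenMove`: an automorphism of odd order of `PSp_2m(q)`, `q` odd, `m ≥ 2`, which normalises a Sylow 2-subgroup `S`
centralises `Ω₁ Z(S)`.

The 2-group `E`: the image of `(Q₈)^m ⋊ P`, `P` a Sylow 2-subgroup of `Sym(m)`. An element of `Sp_2m(q)` which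
commutes with it modulo `± 1` is `± 1` on every plane, with a `P`-semiinvariant set of signs.
-/

set_option autoImplicit false
open Cfsg
open scoped Matrix

namespace Cfsg.Agent.Omega.Lie.CenSymp

open Cfsg.Agent.ClassicalGeometry.SympBasic
open Cfsg.Agent.ClassicalGeometry.SympSiegel
open Cfsg.Agent.ClassicalGeometry.SympAutCentral
open Cfsg.Agent.ClassicalGeometry.SympAutSemi
open Cfsg.Agent.ClassicalGeometry.SympAutExists
open Cfsg.Agent.Omega.Lie.CenTwo
open Cfsg.Agent.Omega.Lie.CenSwap (Semi eq_or_eq_compl noCenMove_of_inv)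

variable {F : Type*} [Field F] {m : ℕ}

local notation "V" => (Fin m ⊕ Fin m → F)
local notation "G" => Matrix.symplecticGroup (Fin m) F
local notation "f" => sympForm m F
local notation "SL2" => Matrix.SpecialLinearGroup (Fin 2) F

/-! ### The planewise action -/

/-- The linear map with blocks `M i` on the planes. -/
def dLin (M : Fin m → SL2) : V →ₗ[F] V where
  toFun v := Sum.elim (fun i => M i 0 0 * v (Sum.inl i) + M i 0 1 * v (Sum.inr i))
    (fun i => M i 1 0 * v (Sum.inl i) + M i 1 1 * v (Sum.inr i))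
  map_add' u v := by
    funext x
    rcases x with i | i <;> simp only [_root_.Fin.isValue, _root_.Pi.add_apply, _root_.Sum.elim_inl, _root_.Sum.elim_inr] <;> ring
  map_smul' c v := by
    funext x
    rcases x with i | i <;> simp only [_root_.Fin.isValue, _root_.Pi.smul_apply, _root_.smul_eq_mul, _root_.Sum.elim_inl, _root_.RingHom.id_apply, _root_.Sum.elim_inr] <;> ring

theorem dLin_inl (M : Fin m → SL2) (v : V) (i : Fin m) :
    dLin M v (Sum.inl i) = M i 0 0 * v (Sum.inl i) + M i 0 1 * v (Sum.inr i) := rfl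

theorem dLin_inr (M : Fin m → SL2) (v : V) (i : Fin m) :
    dLin M v (Sum.inr i) = M i 1 0 * v (Sum.inl i) + M i 1 1 * v (Sum.inr i) := rfl

theorem form_dLin (M : Fin m → SL2) (u v : V) : f (dLin M u) (dLin M v) = f u v := by
  rw [sympForm_eq_sum, sympForm_eq_sum]
  refine Finset.sum_congr rfl fun i _ => ?_
  rw [dLin_inl, dLin_inr, dLin_inl, dLin_inr]
  have h : M i 0 0 * M i 1 1 - M i 0 1 * M i 1 0 = 1 := by
    rw [← Matrix.det_fin_two]
    exact (M i).2
  linear_combination (u (Sum.inr i) * v (Sum.inl i) - u (Sum.inl i) * v (Sum.inr i)) * h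

/-- Blocks on the planes. -/
def D (m : ℕ) (F : Type*) [Field F] :
    (Fin m → Matrix.SpecialLinearGroup (Fin 2) F) →* Matrix.symplecticGroup (Fin m) F where
  toFun M := ofIso (dLin M) (form_dLin M)
  map_one' := by
    apply ext_smul
    intro v
    rw [ofIso_smul, one_smul]
    funext x
    rcases x with i | i
    · rw [dLin_inl]
      simp
    · rw [dLin_inr]
      simp
  map_mul' M N := by
    apply ext_smul
    intro v
    rw [mul_smul, ofIso_smul, ofIso_smul, ofIso_smul]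
    funext x
    rcases x with i | i
    · rw [dLin_inl, dLin_inl, dLin_inl, dLin_inr, Pi.mul_apply, Matrix.SpecialLinearGroup.coe_mul,
        Matrix.mul_apply, Matrix.mul_apply, Fin.sum_univ_two, Fin.sum_univ_two]
      ring
    · rw [dLin_inr, dLin_inr, dLin_inl, dLin_inr, Pi.mul_apply, Matrix.SpecialLinearGroup.coe_mul,
        Matrix.mul_apply, Matrix.mul_apply, Fin.sum_univ_two, Fin.sum_univ_two]
      ring

theorem D_inl (M : Fin m → SL2) (v : V) (i : Fin m) :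
    (D m F M • v) (Sum.inl i) = M i 0 0 * v (Sum.inl i) + M i 0 1 * v (Sum.inr i) :=
  congrFun (ofIso_smul (dLin M) (form_dLin M) v) (Sum.inl i)

theorem D_inr (M : Fin m → SL2) (v : V) (i : Fin m) :
    (D m F M • v) (Sum.inr i) = M i 1 0 * v (Sum.inl i) + M i 1 1 * v (Sum.inr i) :=
  congrFun (ofIso_smul (dLin M) (form_dLin M) v) (Sum.inr i)

/-! ### Permutations of the planes -/

/-- The linear map permuting the planes. -/
def pLin (σ : Equiv.Perm (Fin m)) : V →ₗ[F] V where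
  toFun v := Sum.elim (fun i => v (Sum.inl (σ⁻¹ i))) (fun i => v (Sum.inr (σ⁻¹ i)))
  map_add' u v := by
    funext x
    rcases x with i | i <;> simp only [_root_.Equiv.Perm.coe_inv, _root_.Pi.add_apply, _root_.Sum.elim_inl, _root_.Sum.elim_inr]
  map_smul' c v := by
    funext x
    rcases x with i | i <;> simp

theorem pLin_inl (σ : Equiv.Perm (Fin m)) (v : V) (i : Fin m) :
    pLin σ v (Sum.inl i) = v (Sum.inl (σ⁻¹ i)) := rfl

theorem pLin_inr (σ : Equiv.Perm (Fin m)) (v : V) (i : Fin m) :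
    pLin σ v (Sum.inr i) = v (Sum.inr (σ⁻¹ i)) := rfl

theorem form_pLin (σ : Equiv.Perm (Fin m)) (u v : V) : f (pLin σ u) (pLin σ v) = f u v := by
  rw [sympForm_eq_sum, sympForm_eq_sum]
  simp only [pLin_inl, pLin_inr]
  exact Equiv.sum_comp σ⁻¹ (fun i => u (Sum.inr i) * v (Sum.inl i) - u (Sum.inl i) * v (Sum.inr i))

/-- Permutations of the planes. -/
def P (m : ℕ) (F : Type*) [Field F] : Equiv.Perm (Fin m) →* Matrix.symplecticGroup (Fin m) F where
  toFun σ := ofIso (pLin σ) (form_pLin σ)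
  map_one' := by
    apply ext_smul
    intro v
    rw [ofIso_smul, one_smul]
    funext x
    rcases x with i | i
    · rw [pLin_inl]
      simp
    · rw [pLin_inr]
      simp
  map_mul' σ τ := by
    apply ext_smul
    intro v
    rw [mul_smul, ofIso_smul, ofIso_smul, ofIso_smul]
    funext x
    rcases x with i | i
    · rw [pLin_inl, pLin_inl, pLin_inl, mul_inv_rev, Equiv.Perm.mul_apply]
    · rw [pLin_inr, pLin_inr, pLin_inr, mul_inv_rev, Equiv.Perm.mul_apply]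

theorem P_inl (σ : Equiv.Perm (Fin m)) (v : V) (i : Fin m) :
    (P m F σ • v) (Sum.inl i) = v (Sum.inl (σ⁻¹ i)) :=
  congrFun (ofIso_smul (pLin σ) (form_pLin σ) v) (Sum.inl i)

theorem P_inr (σ : Equiv.Perm (Fin m)) (v : V) (i : Fin m) :
    (P m F σ • v) (Sum.inr i) = v (Sum.inr (σ⁻¹ i)) :=
  congrFun (ofIso_smul (pLin σ) (form_pLin σ) v) (Sum.inr i)

theorem P_conj (σ : Equiv.Perm (Fin m)) (M : Fin m → SL2) :
    P m F σ * D m F M * (P m F σ)⁻¹ = D m F (fun i => M (σ⁻¹ i)) := by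
  rw [mul_inv_eq_iff_eq_mul]
  apply ext_smul
  intro v
  rw [mul_smul, mul_smul]
  funext x
  rcases x with i | i
  · rw [P_inl, D_inl, D_inl, P_inl, P_inr]
  · rw [P_inr, D_inr, D_inr, P_inl, P_inr]

/-! ### The quaternion group -/

/-- `J` -/
def jM (F : Type*) [Field F] : Matrix.SpecialLinearGroup (Fin 2) F :=
  ⟨!![0, -1; 1, 0], by rw [Matrix.det_fin_two_of]; ring⟩

/-- `K` -/
def kM {x y : F} (h : x ^ 2 + y ^ 2 = -1) : Matrix.SpecialLinearGroup (Fin 2) F :=
  ⟨!![x, y; y, -x], by rw [Matrix.det_fin_two_of]; linear_combination -h⟩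

theorem coe_jM : (jM F : Matrix (Fin 2) (Fin 2) F) = !![0, -1; 1, 0] := rfl

theorem coe_kM {x y : F} (h : x ^ 2 + y ^ 2 = -1) : (kM h : Matrix (Fin 2) (Fin 2) F) = !![x, y; y, -x] := rfl

theorem jM_sq : jM F * jM F = -1 := by
  apply Subtype.ext
  rw [Matrix.SpecialLinearGroup.coe_mul, Matrix.SpecialLinearGroup.coe_neg, Matrix.SpecialLinearGroup.coe_one,
    coe_jM]
  ext i j
  (revert i j; simp only [_root_.Fin.forall_fin_succ, _root_.Matrix.cons_mul, _root_.Nat.succ_eq_add_one, Nat.reduceAdd, _root_.Matrix.vecMul_cons, _root_.Matrix.head_cons, _root_.zero_smul, _root_.Matrix.tail_cons, _root_.neg_smul, _root_.one_smul, _root_.Matrix.neg_cons, _root_.neg_zero, _root_.Matrix.neg_empty, _root_.Matrix.empty_vecMul, _root_.add_zero, _root_.zero_add, _root_.Matrix.empty_mul, _root_.Equiv.symm_apply_apply, _root_.Matrix.of_apply, _root_.Matrix.cons_val', _root_.Matrix.cons_val_fin_one, _root_.Matrix.neg_apply, Fin.isValue, _root_.Matrix.cons_val_zero,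 _root_.Matrix.cons_val_succ, _root_.IsEmpty.forall_iff, _root_.and_true, _root_.Matrix.one_apply_eq, _root_.Fin.succ_zero_eq_one, _root_.ne_eq, _root_.zero_ne_one, _root_.not_false_eq_true, _root_.Matrix.one_apply_ne, _root_.and_self, _root_.Fin.succ_ne_zero, _root_.neg_inj, _root_.true_and])

theorem kM_sq {x y : F} (h : x ^ 2 + y ^ 2 = -1) : kM h * kM h = -1 := by
  apply Subtype.ext
  rw [Matrix.SpecialLinearGroup.coe_mul, Matrix.SpecialLinearGroup.coe_neg, Matrix.SpecialLinearGroup.coe_one,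
    coe_kM]
  ext i j
  (revert i j; simp only [_root_.Fin.forall_fin_succ, _root_.Matrix.cons_mul, _root_.Nat.succ_eq_add_one, Nat.reduceAdd, _root_.Matrix.vecMul_cons, _root_.Matrix.head_cons, _root_.Matrix.smul_cons, _root_.smul_eq_mul, _root_.Matrix.smul_empty, _root_.Matrix.tail_cons, _root_.mul_neg, _root_.Matrix.empty_vecMul, _root_.add_zero, _root_.Matrix.add_cons, _root_.Matrix.empty_add_empty, _root_.neg_smul, _root_.Matrix.neg_cons, _root_.neg_neg, _root_.Matrix.neg_empty, _root_.Matrix.empty_mul, _root_.Equiv.symm_apply_apply, _root_.Matrix.of_apply, _root_.Matrix.cons_val', _root_.Matrix.cons_val_fin_one, _root_.Matrix.neg_apply, Fin.isValue, _root_.Matrix.cons_val_zero, _root_.Matrix.cons_val_succ, _root_.IsEmpty.forall_iff, _root_.and_true, _root_.Matrix.one_apply_eq, _root_.Fin.succ_zero_eq_one, _root_.ne_eq, _root_.zero_ne_one, _root_.not_false_eq_true, _root_.Matrix.one_apply_ne, _root_.neg_zero, _root_.Fin.succ_ne_zero])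 <;> (repeat' with_reducible apply And.intro) <;> first | ring1 | linear_combination h

theorem kM_jM {x y : F} (h : x ^ 2 + y ^ 2 = -1) : kM h * jM F = -(jM F * kM h) := by
  apply Subtype.ext
  rw [Matrix.SpecialLinearGroup.coe_mul, Matrix.SpecialLinearGroup.coe_neg, Matrix.SpecialLinearGroup.coe_mul,
    coe_kM, coe_jM]
  ext i j
  (revert i j; simp only [_root_.Fin.forall_fin_succ, _root_.Matrix.cons_mul, _root_.Nat.succ_eq_add_one, Nat.reduceAdd, _root_.Matrix.vecMul_cons, _root_.Matrix.head_cons, _root_.Matrix.smul_cons, _root_.smul_eq_mul, _root_.MulZeroClass.mul_zero, _root_.mul_neg, _root_.mul_one, _root_.Matrix.smul_empty, _root_.Matrix.tail_cons, _root_.Matrix.empty_vecMul, _root_.add_zero, _root_.Matrix.add_cons, _root_.zero_add, _root_.Matrix.empty_add_empty, _root_.neg_smul, _root_.Matrix.neg_cons, _root_.neg_zero, _root_.Matrix.neg_empty, _root_.Matrix.empty_mul, _root_.Equiv.symm_apply_apply, _root_.Matrix.of_apply,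 _root_.Matrix.cons_val', _root_.Matrix.cons_val_fin_one, _root_.zero_smul, _root_.one_smul, _root_.neg_neg, _root_.Matrix.neg_apply, Fin.isValue, _root_.Matrix.cons_val_zero, _root_.Matrix.cons_val_succ, _root_.forall_const, _root_.and_self, _root_.implies_true])

theorem neg_one_sq' : (-1 : Matrix.SpecialLinearGroup (Fin 2) F) * -1 = 1 := by
  rw [neg_mul_neg, one_mul]

/-- The quaternion group, as `⟨J⟩ ⊔ ⟨K⟩`. -/
def Q8 {x y : F} (h : x ^ 2 + y ^ 2 = -1) : Subgroup (Matrix.SpecialLinearGroup (Fin 2) F) :=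
  Subgroup.zpowers (jM F) ⊔ Subgroup.zpowers (kM h)

theorem isPGroup_zpowers {g : SL2} (h : g * g = -1) : IsPGroup 2 (Subgroup.zpowers g) := by
  have h4 : g ^ (2 ^ 2) = 1 := by
    have e : g ^ (2 ^ 2) = (g * g) * (g * g) := by
      rw [show (2 : ℕ) ^ 2 = 2 + 2 from rfl, pow_add, pow_two]
    rw [e, h, neg_one_sq']
  rintro ⟨x, hx⟩
  obtain ⟨k, rfl⟩ := Subgroup.mem_zpowers_iff.1 hx
  refine ⟨2, Subtype.ext ?_⟩
  show (g ^ k) ^ (2 ^ 2) = 1
  rw [← zpow_natCast, ← zpow_mul, mul_comm, zpow_mul, zpow_natCast, h4, one_zpow]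

theorem isPGroup_Q8 {x y : F} (h : x ^ 2 + y ^ 2 = -1) : IsPGroup 2 (Q8 h) := by
  apply (isPGroup_zpowers jM_sq).to_sup_of_normal_left' (isPGroup_zpowers (kM_sq h))
  have hj : (jM F)⁻¹ = -(jM F) := by
    rw [inv_eq_iff_mul_eq_one, mul_neg, jM_sq, neg_neg]
  have hc : kM h * jM F * (kM h)⁻¹ = (jM F)⁻¹ := by
    rw [hj, kM_jM, neg_mul, mul_inv_cancel_right]
  rw [Subgroup.zpowers_le, Subgroup.mem_normalizer_iff]
  have key : ∀ g : SL2, g ∈ Subgroup.zpowers (jM F) → kM h * g * (kM h)⁻¹ ∈ Subgroup.zpowers (jM F) := by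
    intro g hg
    obtain ⟨k, rfl⟩ := Subgroup.mem_zpowers_iff.1 hg
    rw [← conj_zpow, hc]
    exact Subgroup.zpow_mem _ (Subgroup.inv_mem _ (Subgroup.mem_zpowers _)) _
  intro g
  refine ⟨key g, fun hg => ?_⟩
  have h1 := key _ hg
  have e : kM h * (kM h * g * (kM h)⁻¹) * (kM h)⁻¹ = (kM h * kM h) * g * (kM h * kM h)⁻¹ := by group
  rw [e, kM_sq] at h1
  simpa using h1

theorem isPGroup_pi {ι H : Type*} [Group H] [Finite H] {Q : Subgroup H} (hQ : IsPGroup 2 Q) :
    IsPGroup 2 (Subgroup.pi Set.univ (fun _ : ι => Q)) := by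
  have : Fact (Nat.Prime 2) := ⟨Nat.prime_two⟩
  obtain ⟨n, hn⟩ := (IsPGroup.iff_card (p := 2)).1 hQ
  rintro ⟨g, hg⟩
  refine ⟨n, Subtype.ext ?_⟩
  show g ^ (2 ^ n) = 1
  funext i
  have hi : g i ∈ Q := hg i (Set.mem_univ i)
  have h1 : (⟨g i, hi⟩ : Q) ^ (2 ^ n) = 1 := by
    rw [← hn]
    exact pow_card_eq_one'
  exact congrArg Subtype.val h1

/-! ### The group `E` -/

/-- The group `(Q₈)^m ⋊ S`. -/
def EE {x y : F} (h : x ^ 2 + y ^ 2 = -1) (S : Subgroup (Equiv.Perm (Fin m))) :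
    Subgroup (Matrix.symplecticGroup (Fin m) F) :=
  (Subgroup.pi Set.univ (fun _ => Q8 h)).map (D m F) ⊔ S.map (P m F)

theorem isPGroup_EE [Finite F] {x y : F} (h : x ^ 2 + y ^ 2 = -1) {S : Subgroup (Equiv.Perm (Fin m))}
    (hS : IsPGroup 2 S) : IsPGroup 2 (EE h S) := by
  apply IsPGroup.to_sup_of_normal_left'
  · exact (isPGroup_pi (isPGroup_Q8 h)).map _
  · exact hS.map _
  · rintro _ ⟨σ, -, rfl⟩
    rw [Subgroup.mem_normalizer_iff]
    have key : ∀ (σ : Equiv.Perm (Fin m)) (g : G), g ∈ (Subgroup.pi Set.univ (fun _ => Q8 h)).map (D m F) →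
        P m F σ * g * (P m F σ)⁻¹ ∈ (Subgroup.pi Set.univ (fun _ => Q8 h)).map (D m F) := by
      rintro σ _ ⟨M, hM, rfl⟩
      rw [P_conj]
      exact ⟨_, fun i _ => hM _ (Set.mem_univ _), rfl⟩
    intro g
    refine ⟨key σ g, fun hg => ?_⟩
    have h1 := key σ⁻¹ _ hg
    rw [map_inv, inv_inv] at h1
    have e : (P m F σ)⁻¹ * (P m F σ * g * (P m F σ)⁻¹) * P m F σ = g := by group
    rwa [e] at h1

/-! ### Elements which commute with `E` modulo `± 1` -/

theorem single_inl (i : Fin m) (g : SL2) (v : V) : (D m F (Pi.mulSingle i g) • v) (Sum.inl i) =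
    g 0 0 * v (Sum.inl i) + g 0 1 * v (Sum.inr i) := by
  rw [D_inl, Pi.mulSingle_eq_same]

theorem single_inr (i : Fin m) (g : SL2) (v : V) : (D m F (Pi.mulSingle i g) • v) (Sum.inr i) =
    g 1 0 * v (Sum.inl i) + g 1 1 * v (Sum.inr i) := by
  rw [D_inr, Pi.mulSingle_eq_same]

theorem single_inl_ne {i j : Fin m} (hij : j ≠ i) (g : SL2) (v : V) :
    (D m F (Pi.mulSingle i g) • v) (Sum.inl j) = v (Sum.inl j) := by
  rw [D_inl, Pi.mulSingle_eq_of_ne hij]
  simp

theorem single_inr_ne {i j : Fin m} (hij : j ≠ i) (g : SL2) (v : V) :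
    (D m F (Pi.mulSingle i g) • v) (Sum.inr j) = v (Sum.inr j) := by
  rw [D_inr, Pi.mulSingle_eq_of_ne hij]
  simp

/-- supported on the `i`-th plane -/
def On (i : Fin m) (v : V) : Prop := ∀ j, j ≠ i → v (Sum.inl j) = 0 ∧ v (Sum.inr j) = 0

/-- zero on the `i`-th plane -/
def Off (i : Fin m) (v : V) : Prop := v (Sum.inl i) = 0 ∧ v (Sum.inr i) = 0

theorem on_iff (h2 : (2 : F) ≠ 0) (i : Fin m) (v : V) :
    D m F (Pi.mulSingle i (-1)) • v = -v ↔ On i v := by
  have hh : ∀ a : F, a = -a → a = 0 := by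
    intro a ha
    have : 2 * a = 0 := by linear_combination ha
    rcases mul_eq_zero.1 this with h | h
    · exact absurd h h2
    · exact h
  constructor
  · intro h j hj
    constructor
    · have := congrFun h (Sum.inl j)
      rw [single_inl_ne hj] at this
      exact hh _ this
    · have := congrFun h (Sum.inr j)
      rw [single_inr_ne hj] at this
      exact hh _ this
  · intro h
    funext x
    rcases x with j | j
    · by_cases hj : j = i
      · subst hj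
        rw [single_inl]
        simp
      · rw [single_inl_ne hj, Pi.neg_apply, (h j hj).1, neg_zero]
    · by_cases hj : j = i
      · subst hj
        rw [single_inr]
        simp
      · rw [single_inr_ne hj, Pi.neg_apply, (h j hj).2, neg_zero]

theorem off_iff (h2 : (2 : F) ≠ 0) (i : Fin m) (v : V) :
    D m F (Pi.mulSingle i (-1)) • v = v ↔ Off i v := by
  have hh : ∀ a : F, -a = a → a = 0 := by
    intro a ha
    have : 2 * a = 0 := by linear_combination -ha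
    rcases mul_eq_zero.1 this with h | h
    · exact absurd h h2
    · exact h
  constructor
  · intro h
    constructor
    · have := congrFun h (Sum.inl i)
      rw [single_inl] at this
      apply hh
      simpa using this
    · have := congrFun h (Sum.inr i)
      rw [single_inr] at this
      apply hh
      simpa only [_root_.Fin.isValue, _root_.Matrix.SpecialLinearGroup.coe_neg, _root_.Matrix.SpecialLinearGroup.coe_one, _root_.Matrix.neg_apply, _root_.ne_eq, _root_.one_ne_zero, _root_.not_false_eq_true, _root_.Matrix.one_apply_ne, _root_.neg_zero, _root_.MulZeroClass.zero_mul, _root_.Matrix.one_apply_eq, _root_.neg_mul, _root_.one_mul, _root_.zero_add] using this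
  · intro h
    funext x
    rcases x with j | j
    · by_cases hj : j = i
      · subst hj
        rw [single_inl, h.1, h.2]
        simp
      · rw [single_inl_ne hj]
    · by_cases hj : j = i
      · subst hj
        rw [single_inr, h.1, h.2]
        simp only [_root_.Fin.isValue, _root_.Matrix.SpecialLinearGroup.coe_neg, _root_.Matrix.SpecialLinearGroup.coe_one, _root_.Matrix.neg_apply, _root_.ne_eq, _root_.one_ne_zero, _root_.not_false_eq_true, _root_.Matrix.one_apply_ne, _root_.neg_zero, _root_.MulZeroClass.mul_zero, _root_.Matrix.one_apply_eq, _root_.add_zero]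
      · rw [single_inr_ne hj]

/-- blocks on plane `i` fix the vectors which vanish there -/
theorem single_of_off (i : Fin m) (g : SL2) {v : V} (h : Off i v) :
    D m F (Pi.mulSingle i g) • v = v := by
  funext x
  rcases x with j | j
  · by_cases hj : j = i
    · subst hj
      rw [single_inl, h.1, h.2]
      simp
    · rw [single_inl_ne hj]
  · by_cases hj : j = i
    · subst hj
      rw [single_inr, h.1, h.2]
      simp
    · rw [single_inr_ne hj]

/-- `A` commutes with `x` modulo `± 1` -/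
def Cm (A x : G) : Prop := ∃ b : F, b * b = 1 ∧ ∀ v : V, x • (A • v) = b • (A • (x • v))

theorem cm_iff {A x : G} : (QuotientGroup.mk x : PSp m F) * QuotientGroup.mk A =
    QuotientGroup.mk A * QuotientGroup.mk x ↔ Cm A x := by
  rw [← QuotientGroup.mk_mul, ← QuotientGroup.mk_mul, eq_comm, mk_eq_mk_iff]
  simp only [mul_smul]
  exact Iff.rfl

section Key

variable {x y : F} {h : x ^ 2 + y ^ 2 = -1} {A : Matrix.symplecticGroup (Fin m) F} {i : Fin m}

theorem comm_z (hJ : Cm A (D m F (Pi.mulSingle i (jM F)))) (hK : Cm A (D m F (Pi.mulSingle i (kM h)))) (w : V) :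
    D m F (Pi.mulSingle i (-1)) • (A • w) = A • (D m F (Pi.mulSingle i (-1)) • w) := by
  obtain ⟨b, hb, hJ⟩ := hJ
  obtain ⟨c, hc, hK⟩ := hK
  set J := D m F (Pi.mulSingle i (jM F)) with hJd
  set K := D m F (Pi.mulSingle i (kM h)) with hKd
  set z := D m F (Pi.mulSingle i (-1)) with hz
  have e : K * J = z * (J * K) := by
    rw [hJd, hKd, hz, ← map_mul, ← map_mul, ← map_mul, ← Pi.mulSingle_mul, ← Pi.mulSingle_mul,
      ← Pi.mulSingle_mul, kM_jM, neg_one_mul]
  obtain ⟨v, rfl⟩ : ∃ v : V, w = (J * K) • v := ⟨(J * K)⁻¹ • w, (smul_inv_smul _ _).symm⟩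
  have e1 : (J * K) • (A • v) = (b * c) • (A • ((J * K) • v)) := by
    rw [mul_smul J K, hK, smul_smul', hJ, smul_smul c b, mul_smul J K, mul_comm c b]
  have e2 : (K * J) • (A • v) = (b * c) • (A • ((K * J) • v)) := by
    rw [mul_smul K J, hJ, smul_smul', hK, smul_smul b c, mul_smul K J]
  have e3 : A • ((J * K) • v) = (b * c) • ((J * K) • (A • v)) := by
    rw [e1, smul_smul (b * c) (b * c), mul_mul_mul_comm, hb, hc, one_mul, one_smul]
  rw [e3, smul_smul', ← mul_smul z (J * K), ← mul_smul z (J * K), ← e, e2, smul_smul (b * c) (b * c),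
    mul_mul_mul_comm, hb, hc, one_mul, one_smul]

theorem on_smul (h2 : (2 : F) ≠ 0) (hJ : Cm A (D m F (Pi.mulSingle i (jM F))))
    (hK : Cm A (D m F (Pi.mulSingle i (kM h)))) {v : V} (hv : On i v) : On i (A • v) := by
  rw [← on_iff h2] at hv ⊢
  rw [comm_z hJ hK, hv, smul_neg']

theorem off_smul (h2 : (2 : F) ≠ 0) (hJ : Cm A (D m F (Pi.mulSingle i (jM F))))
    (hK : Cm A (D m F (Pi.mulSingle i (kM h)))) {v : V} (hv : Off i v) : Off i (A • v) := by
  rw [← off_iff h2] at hv ⊢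
  rw [comm_z hJ hK, hv]

theorem off_E {i j : Fin m} (hij : j ≠ i) : Off i (E F j) := by
  refine ⟨?_, E_inr _ _⟩
  rw [E_inl, if_neg hij.symm]

theorem on_E (i : Fin m) : On i (E F i) := by
  intro j hj
  refine ⟨?_, E_inr _ _⟩
  rw [E_inl, if_neg hj]

/-- `A` commutes with the blocks on plane `i`. -/
theorem cm_exact (hm : 2 ≤ m) (h2 : (2 : F) ≠ 0) (hJ : Cm A (D m F (Pi.mulSingle i (jM F))))
    (hK : Cm A (D m F (Pi.mulSingle i (kM h)))) {g : SL2} (hg : Cm A (D m F (Pi.mulSingle i g))) (v : V) :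
    D m F (Pi.mulSingle i g) • (A • v) = A • (D m F (Pi.mulSingle i g) • v) := by
  obtain ⟨b, hb, hg⟩ := hg
  have : Nontrivial (Fin m) := Fin.nontrivial_iff_two_le.2 hm
  obtain ⟨j, hj⟩ := exists_ne i
  have h1 := hg (E F j)
  have h3 : Off i (A • E F j) := off_smul (h := h) h2 hJ hK (off_E hj)
  rw [single_of_off i g (off_E hj), single_of_off i g h3] at h1
  have hb1 : b = 1 := by
    by_contra hb1
    have h4 : (b - 1) • (A • E F j) = 0 := by rw [sub_smul, ← h1, one_smul, sub_self]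
    rcases smul_eq_zero.1 h4 with h5 | h5
    · exact hb1 (sub_eq_zero.1 h5)
    · exact smul_ne_zero' A (E_ne_zero j) h5
  rw [hg v, hb1, one_smul]

/-- `A` is a scalar on every plane. -/
theorem scalar_E (hm : 2 ≤ m) (h2 : (2 : F) ≠ 0) (hJ : Cm A (D m F (Pi.mulSingle i (jM F))))
    (hK : Cm A (D m F (Pi.mulSingle i (kM h)))) :
    ∃ a : F, a * a = 1 ∧ A • E F i = a • E F i ∧ A • E' F i = a • E' F i := by
  have hJe := cm_exact (h := h) hm h2 hJ hK hJ
  have hKe := cm_exact (h := h) hm h2 hJ hK hK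
  have hon : On i (A • E F i) := on_smul (h := h) h2 hJ hK (on_E i)
  set w := A • E F i with hw
  have ew : w = w (Sum.inl i) • E F i + w (Sum.inr i) • E' F i := by
    funext t
    rcases t with j | j
    · rw [Pi.add_apply, Pi.smul_apply, Pi.smul_apply, E_inl, E'_inl]
      by_cases hj : j = i
      · subst hj; simp
      · rw [if_neg hj, (hon j hj).1]; simp
    · rw [Pi.add_apply, Pi.smul_apply, Pi.smul_apply, E_inr, E'_inr]
      by_cases hj : j = i
      · subst hj; simp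
      · rw [if_neg hj, (hon j hj).2]; simp
  have eJE : D m F (Pi.mulSingle i (jM F)) • E F i = E' F i := by
    funext t
    rcases t with j | j
    · by_cases hj : j = i
      · subst hj
        rw [single_inl, E_inl, E_inr, E'_inl, coe_jM]; simp
      · rw [single_inl_ne hj, E_inl, E'_inl, if_neg hj]
    · by_cases hj : j = i
      · subst hj
        rw [single_inr, E_inl, E_inr, E'_inr, coe_jM]; simp
      · rw [single_inr_ne hj, E_inr, E'_inr, if_neg hj]
  have eKE : D m F (Pi.mulSingle i (kM h)) • E F i = x • E F i + y • E' F i := by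
    funext t
    rcases t with j | j
    · rw [Pi.add_apply, Pi.smul_apply, Pi.smul_apply]
      by_cases hj : j = i
      · subst hj
        rw [single_inl, E_inl, E_inr, E'_inl, coe_kM]; simp
      · rw [single_inl_ne hj, E_inl, E'_inl, if_neg hj]; simp
    · rw [Pi.add_apply, Pi.smul_apply, Pi.smul_apply]
      by_cases hj : j = i
      · subst hj
        rw [single_inr, E_inl, E_inr, E'_inr, coe_kM]; simp
      · rw [single_inr_ne hj, E_inr, E'_inr, if_neg hj]; simp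
  have hu : A • E' F i = D m F (Pi.mulSingle i (jM F)) • w := by
    rw [← eJE, hJe]
  have hk := hKe (E F i)
  rw [eKE, smul_add', smul_smul', smul_smul', hu, ← hw] at hk
  set a := w (Sum.inl i) with ha
  set c := w (Sum.inr i) with hc
  have k1 := congrFun hk (Sum.inl i)
  have k2 := congrFun hk (Sum.inr i)
  rw [Pi.add_apply, Pi.smul_apply, Pi.smul_apply, single_inl, single_inl, coe_jM, coe_kM, ← ha, ← hc] at k1
  rw [Pi.add_apply, Pi.smul_apply, Pi.smul_apply, single_inr, single_inr, coe_jM, coe_kM, ← ha, ← hc] at k2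
  simp only [_root_.Fin.isValue, _root_.Matrix.of_apply, _root_.Matrix.cons_val', _root_.Matrix.cons_val_zero, _root_.Matrix.cons_val_fin_one, _root_.Matrix.cons_val_one, _root_.smul_eq_mul, _root_.MulZeroClass.zero_mul, _root_.neg_mul, _root_.one_mul, _root_.zero_add, _root_.mul_neg, _root_.add_right_inj, _root_.add_zero] at k1 k2
  have c1 : 2 * (y * c) = 0 := by linear_combination k1
  have c2 : 2 * (x * c) = 0 := by linear_combination -k2
  have hc0 : c = 0 := by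
    by_contra hcne
    have hy : y = 0 := by
      rcases mul_eq_zero.1 c1 with h3 | h3
      · exact absurd h3 h2
      · rcases mul_eq_zero.1 h3 with h4 | h4
        · exact h4
        · exact absurd h4 hcne
    have hx : x = 0 := by
      rcases mul_eq_zero.1 c2 with h3 | h3
      · exact absurd h3 h2
      · rcases mul_eq_zero.1 h3 with h4 | h4
        · exact h4
        · exact absurd h4 hcne
    rw [hx, hy] at h
    have : (1 : F) = 0 := by linear_combination h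
    exact one_ne_zero this
  have hwa : w = a • E F i := by rw [ew, hc0, zero_smul, add_zero]
  have hua : A • E' F i = a • E' F i := by
    rw [hu, hwa, smul_smul', eJE]
  refine ⟨a, ?_, hwa, hua⟩
  have hf := form_smul A (E F i) (E' F i)
  rw [← hw, hwa, hua, sympForm_smul_left, sympForm_smul_right, form_E_left, E'_inr, if_pos rfl] at hf
  linear_combination -hf

theorem diag (hm : 2 ≤ m) (h2 : (2 : F) ≠ 0) {A : G} (hJ : ∀ i, Cm A (D m F (Pi.mulSingle i (jM F))))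
    (hK : ∀ i, Cm A (D m F (Pi.mulSingle i (kM h)))) :
    ∃ a : Fin m → F, (∀ i, a i * a i = 1) ∧
      ∀ (v : V) (i : Fin m), (A • v) (Sum.inl i) = a i * v (Sum.inl i) ∧
        (A • v) (Sum.inr i) = a i * v (Sum.inr i) := by
  have hh : ∀ i, ∃ a : F, a * a = 1 ∧ A • E F i = a • E F i ∧ A • E' F i = a • E' F i := fun i =>
    scalar_E (h := h) hm h2 (hJ i) (hK i)
  choose a ha1 ha2 ha3 using hh
  refine ⟨a, ha1, fun v i => ?_⟩
  set v' : V := v - v (Sum.inl i) • E F i - v (Sum.inr i) • E' F i with hv'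
  have hoff : Off i v' := by
    constructor
    · rw [hv', Pi.sub_apply, Pi.sub_apply, Pi.smul_apply, Pi.smul_apply, E_inl, E'_inl, if_pos rfl]
      simp
    · rw [hv', Pi.sub_apply, Pi.sub_apply, Pi.smul_apply, Pi.smul_apply, E_inr, E'_inr, if_pos rfl]
      simp
  have hoff' : Off i (A • v') := off_smul (h := h) h2 (hJ i) (hK i) hoff
  have ev : v = v' + v (Sum.inl i) • E F i + v (Sum.inr i) • E' F i := by
    rw [hv']; abel
  have eA : A • v = A • v' + (v (Sum.inl i) * a i) • E F i + (v (Sum.inr i) * a i) • E' F i := by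
    conv_lhs => rw [ev]
    rw [smul_add', smul_add', smul_smul', smul_smul', ha2, ha3, smul_smul, smul_smul]
  rw [eA]
  simp only [Pi.add_apply, Pi.smul_apply, E_inl, E'_inl, E_inr, E'_inr, if_true, hoff'.1, hoff'.2]
  constructor
  · simp [mul_comm]
  · simp [mul_comm]

end Key

/-! ### The signs are semiinvariant -/

theorem perm_sign {A : G} {a : Fin m → F}
    (ha : ∀ (v : V) (i : Fin m), (A • v) (Sum.inl i) = a i * v (Sum.inl i) ∧
        (A • v) (Sum.inr i) = a i * v (Sum.inr i)) {σ : Equiv.Perm (Fin m)} (hσ : Cm A (P m F σ)) :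
    ∃ b : F, b * b = 1 ∧ ∀ i, a (σ⁻¹ i) = b * a i := by
  obtain ⟨b, hb, h⟩ := hσ
  refine ⟨b, hb, fun i => ?_⟩
  have h1 := congrFun (h (E F (σ⁻¹ i))) (Sum.inl i)
  rw [P_inl, (ha _ _).1, E_inl, if_pos rfl, Pi.smul_apply, (ha _ _).1, P_inl, E_inl, if_pos rfl, smul_eq_mul] at h1
  linear_combination h1

open Classical in
/-- the planes on which `A` is the identity -/
noncomputable def T (a : Fin m → F) : Finset (Fin m) := Finset.univ.filter (fun i => a i = 1)

theorem mem_T {a : Fin m → F} {i : Fin m} : i ∈ T a ↔ a i = 1 := by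
  classical
  rw [T, Finset.mem_filter]
  exact ⟨fun h => h.2, fun h => ⟨Finset.mem_univ _, h⟩⟩

theorem sign_cases {b : F} (hb : b * b = 1) : b = 1 ∨ b = -1 := by
  have : (b - 1) * (b + 1) = 0 := by linear_combination hb
  rcases mul_eq_zero.1 this with h | h
  · exact Or.inl (sub_eq_zero.1 h)
  · exact Or.inr (eq_neg_of_add_eq_zero_left h)

theorem semi_T (h2 : (2 : F) ≠ 0) {a : Fin m → F} (ha : ∀ i, a i * a i = 1) {σ : Equiv.Perm (Fin m)} {b : F}
    (hb : b * b = 1) (h : ∀ i, a (σ⁻¹ i) = b * a i) : Semi σ (T a) := by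
  have h11 : (1 : F) ≠ -1 := by
    intro h3
    apply h2
    linear_combination h3
  rcases sign_cases hb with rfl | rfl
  · left
    ext i
    rw [Finset.mem_map_equiv, mem_T, mem_T]
    have := h i
    rw [one_mul] at this
    rw [← this]
    exact Iff.rfl
  · right
    ext i
    rw [Finset.mem_map_equiv, Finset.mem_compl, mem_T, mem_T]
    have h3 : a (σ.symm i) = -1 * a i := h i
    rw [h3]
    rcases sign_cases (ha i) with h4 | h4
    · rw [h4]
      simp only [not_true_eq_false, iff_false, mul_one]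
      exact h11.symm
    · rw [h4]
      simp [h11.symm]

/-! ### Fixed vectors -/

theorem card_fix [Finite F] {A : G} {a : Fin m → F}
    (ha : ∀ (v : V) (i : Fin m), (A • v) (Sum.inl i) = a i * v (Sum.inl i) ∧
        (A • v) (Sum.inr i) = a i * v (Sum.inr i)) :
    Nat.card {v : V // A • v = v} = Nat.card F ^ ((T a).card + (T a).card) := by
  classical
  let c : Fin m ⊕ Fin m → F := Sum.elim a a
  have hc : ∀ (v : V) x, (A • v) x = c x * v x := by
    intro v x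
    rcases x with i | i
    · exact (ha v i).1
    · exact (ha v i).2
  let e : {v : V // A • v = v} ≃ ({x // c x = 1} → F) :=
    { toFun := fun v x => v.1 x.1
      invFun := fun w => ⟨fun x => if hx : c x = 1 then w ⟨x, hx⟩ else 0, by
        funext x
        rw [hc]
        by_cases hx : c x = 1
        · rw [dif_pos hx, hx, one_mul]
        · rw [dif_neg hx, mul_zero]⟩
      left_inv := by
        rintro ⟨v, hv⟩
        apply Subtype.ext
        funext x
        by_cases hx : c x = 1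
        · simp only [dif_pos hx]
        · simp only [dif_neg hx]
          have h1 := congrFun hv x
          rw [hc] at h1
          have h3 : (c x - 1) * v x = 0 := by linear_combination h1
          rcases mul_eq_zero.1 h3 with h4 | h4
          · exact absurd (sub_eq_zero.1 h4) hx
          · exact h4.symm
      right_inv := by
        intro w
        funext x
        simp only [dif_pos x.2] }
  have e2 : {x // c x = 1} ≃ {i // i ∈ T a} ⊕ {i // i ∈ T a} :=
    Equiv.subtypeSum.trans (Equiv.sumCongr (Equiv.subtypeEquivRight fun i => mem_T.symm)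
      (Equiv.subtypeEquivRight fun i => mem_T.symm))
  rw [Nat.card_congr e, Nat.card_fun, Nat.card_congr e2, Nat.card_sum]
  simp only [_root_.Nat.card_eq_fintype_card, _root_.Fintype.card_coe]

/-! ### The invariant -/

/-- the numbers of fixed vectors of the preimages -/
def inv (m : ℕ) (F : Type*) [Field F] (u : PSp m F) : Set ℕ :=
  {k | ∃ A : Matrix.symplecticGroup (Fin m) F, (QuotientGroup.mk A : PSp m F) = u ∧
    Nat.card {v : Fin m ⊕ Fin m → F // A • v = v} = k}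

theorem card_conj (g : semiSim m F) (A : G) :
    Nat.card {v : V // conjHom m F g A • v = v} = Nat.card {v : V // A • v = v} := by
  have h : ∀ (B : G) (v : V), B • v = rho m F B v := fun B v => rfl
  symm
  apply Nat.card_congr
  refine (g.1).subtypeEquiv fun v => ?_
  rw [h, h, rho_conjHom, Equiv.Perm.mul_apply, Equiv.Perm.mul_apply, perm_inv_apply_self]
  exact (g.1).injective.eq_iff.symm

theorem inv_le [Finite F] (hm : 2 ≤ m) (h2 : (2 : F) ≠ 0) (α : MulAut (PSp m F)) (u : PSp m F) :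
    inv m F u ⊆ inv m F (α u) := by
  obtain ⟨g, hg⟩ := exists_semi hm α (Cfsg.Agent.ClassicalGeometry.SympAutRecog.recog_odd hm h2 α)
  rintro k ⟨A, rfl, hk⟩
  refine ⟨conjHom m F g A, ?_, ?_⟩
  · rw [← hg, Psi_mk]
  · rw [card_conj, hk]

theorem inv_eq [Finite F] (hm : 2 ≤ m) (h2 : (2 : F) ≠ 0) (α : MulAut (PSp m F)) (u : PSp m F) :
    inv m F (α u) = inv m F u := by
  apply Set.Subset.antisymm
  · have h := inv_le hm h2 α⁻¹ (α u)
    rwa [MulAut.inv_apply_self] at h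
  · exact inv_le hm h2 α u

/-! ### The theorem -/

theorem exists_sum_sq [Finite F] : ∃ x y : F, x ^ 2 + y ^ 2 = -1 := by
  obtain ⟨p, hp⟩ := CharP.exists F
  have hpp : Fact p.Prime := ⟨CharP.char_is_prime F p⟩
  obtain ⟨a, b, hab⟩ := CharP.sq_add_sq F p (-1)
  exact ⟨a, b, by rw [hab]; simp⟩

/-- **(ZS) for `PSp_2m(q)`, `q` odd, `m ≥ 2`.** -/
theorem noCenMove [Finite F] (hm : 2 ≤ m) (h2 : (2 : F) ≠ 0) : NoCenMove (PSp m F) := by
  have : Fact (Nat.Prime 2) := ⟨Nat.prime_two⟩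
  obtain ⟨x, y, h⟩ := exists_sum_sq (F := F)
  let S : Sylow 2 (Equiv.Perm (Fin m)) := default
  have hfin : Finite (PSp m F) := by
    have : Finite G := Subtype.finite
    exact Quotient.finite _
  refine noCenMove_of_inv (inv m F) (fun τ u _ => inv_eq hm h2 τ u)
    ((EE h (S : Subgroup (Equiv.Perm (Fin m)))).map (QuotientGroup.mk' _)) ((isPGroup_EE h S.isPGroup').map _) ?_
  intro u v hu hv _ _ huv _ _
  have key : ∀ A : G, (∀ t ∈ (EE h (S : Subgroup (Equiv.Perm (Fin m)))).map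
      (QuotientGroup.mk' (Subgroup.center G)), t * (QuotientGroup.mk A : PSp m F) = QuotientGroup.mk A * t) →
      ∃ a : Fin m → F, (∀ i, a i * a i = 1) ∧
        (∀ (v : V) (i : Fin m), (A • v) (Sum.inl i) = a i * v (Sum.inl i) ∧
        (A • v) (Sum.inr i) = a i * v (Sum.inr i)) ∧ ∀ σ ∈ S, Semi σ (T a) := by
    intro A hA
    have hcm : ∀ t ∈ EE h (S : Subgroup (Equiv.Perm (Fin m))), Cm A t := fun t ht =>
      cm_iff.1 (hA _ ⟨t, ht, rfl⟩)
    have hq : ∀ (g : SL2) (i : Fin m), g ∈ Q8 h → Cm A (D m F (Pi.mulSingle i g)) := by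
      intro g i hg
      apply hcm
      apply Subgroup.mem_sup_left
      refine ⟨_, ?_, rfl⟩
      intro j _
      by_cases hj : j = i
      · subst hj
        rw [Pi.mulSingle_eq_same]
        exact hg
      · rw [Pi.mulSingle_eq_of_ne hj]
        exact Subgroup.one_mem _
    obtain ⟨a, ha1, ha2⟩ := diag (h := h) hm h2
      (fun i => hq _ i (Subgroup.mem_sup_left (Subgroup.mem_zpowers _)))
      (fun i => hq _ i (Subgroup.mem_sup_right (Subgroup.mem_zpowers _)))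
    refine ⟨a, ha1, ha2, fun σ hσ => ?_⟩
    obtain ⟨b, hb, hb2⟩ := perm_sign ha2 (hcm _ (Subgroup.mem_sup_right ⟨σ, hσ, rfl⟩))
    exact semi_T h2 ha1 hb hb2
  obtain ⟨A, rfl⟩ := QuotientGroup.mk_surjective u
  have h3 : Nat.card {v : V // A • v = v} ∈ inv m F v := by
    rw [← huv]
    exact ⟨A, rfl, rfl⟩
  obtain ⟨B, rfl, hB⟩ := h3
  obtain ⟨a, ha1, ha2, ha3⟩ := key A hu
  obtain ⟨b, hb1, hb2, hb3⟩ := key B hv
  rw [card_fix ha2, card_fix hb2] at hB
  have hc : (T a).card = (T b).card := by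
    have h4 := Nat.pow_right_injective (Finite.one_lt_card (α := F)) hB
    have h5 : (T b).card + (T b).card = (T a).card + (T a).card := h4
    omega
  rw [mk_eq_mk_iff]
  rcases eq_or_eq_compl S ha3 hb3 hc with h4 | h4
  · refine ⟨1, one_mul 1, fun v => ?_⟩
    have hab : a = b := by
      funext i
      have h5 : i ∈ T a ↔ i ∈ T b := by rw [h4]
      rw [mem_T, mem_T] at h5
      rcases sign_cases (ha1 i) with h6 | h6
      · rw [h6, h5.1 h6]
      · rcases sign_cases (hb1 i) with h7 | h7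
        · rw [h7, h5.2 h7]
        · rw [h6, h7]
    funext t
    rw [one_smul]
    rcases t with i | i
    · rw [(ha2 _ _).1, (hb2 _ _).1, hab]
    · rw [(ha2 _ _).2, (hb2 _ _).2, hab]
  · refine ⟨-1, by ring, fun v => ?_⟩
    have hab : ∀ i, b i = - a i := by
      intro i
      have h5 : i ∈ T a ↔ ¬ i ∈ T b := by rw [h4, Finset.mem_compl]
      rw [mem_T, mem_T] at h5
      rcases sign_cases (hb1 i) with h7 | h7
      · rcases sign_cases (ha1 i) with h6 | h6
        · exact absurd h7 (h5.1 h6)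
        · rw [h6, h7, neg_neg]
      · have h8 : a i = 1 := by
          apply h5.2
          rw [h7]
          intro h9
          apply h2
          linear_combination -h9
        rw [h7, h8]
    funext t
    rw [Pi.smul_apply]
    rcases t with i | i
    · rw [(ha2 _ _).1, (hb2 _ _).1, hab, smul_eq_mul]
      ring
    · rw [(ha2 _ _).2, (hb2 _ _).2, hab, smul_eq_mul]
      ring

end Cfsg.Agent.Omega.Lie.CenSymp

end

section


/-!
# The row `PSp_2m(q)`, `q` odd, of `KFacts.RowsZS`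
-/

set_option autoImplicit false

namespace Cfsg.Agent.Omega.Lie.CenSympRow

open Cfsg Cfsg.Agent.Omega.Lie.CenTwo Cfsg.Agent.Omega.KFacts

universe u

theorem psp (K : Type u) [Group K] (h : OddChar @IsPSpChar K) : NoCenMove K := by
  obtain ⟨p, hp, hp2, F, _, _, _, m, hm, -, ⟨e⟩⟩ := h
  have h2 : (2 : F) ≠ 0 := by
    intro h0
    have h1 : ((2 : ℕ) : F) = 0 := by exact_mod_cast h0
    rw [CharP.cast_eq_zero_iff F p] at h1
    exact hp2 ((Nat.prime_dvd_prime_iff_eq hp Nat.prime_two).1 h1)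
  have : Finite (PSp m F) := by
    have : Finite (Matrix.symplecticGroup (Fin m) F) := Subtype.finite
    exact Quotient.finite _
  have : Finite K := Finite.of_equiv _ e.symm.toEquiv
  exact (CenSymp.noCenMove hm h2).map e.symm

/-- the field `psp` of `KFacts.RowsZS` -/
theorem row (K : Type u) [Group K] (h : OddChar @IsPSpChar K ∧ ¬ IsLieTypeChar 2 K) : NoCenMove K := psp K h.1

end Cfsg.Agent.Omega.Lie.CenSympRow

end
end

-- part: Mrg/Omega/KFactsZSLie
section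
/-!
# The rows of `(ZS)` of Lie type in odd characteristic (collected by helper844)

`psl` helper584, `psp` helper155, `psu` helper138, `omOdd`, `omPlus`, `omMinus` helper676, `chev`, `twisted` helper679.
-/

set_option autoImplicit false

namespace Cfsg.Agent.Omega.KFacts

open Cfsg Cfsg.Agent.Omega.Lie.CenTwo

universe u

theorem zs_psp : ZSRow.{u} fun K _ => OddChar @IsPSpChar K ∧ ¬ IsLieTypeChar 2 K :=
  fun K _ h => Cfsg.Agent.Omega.Lie.CenSympRow.row K h

theorem zs_omOdd : ZSRow.{u} fun K _ => OddChar @IsPOmegaOddChar K := by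
  intro K _ h
  obtain ⟨p, -, -, hK⟩ := h
  exact Cfsg.Agent.Omega.Lie.CenOrth.of_isPOmegaOddChar hK

theorem zs_omPlus : ZSRow.{u} fun K _ => OddChar @IsPOmegaPlusChar K := by
  intro K _ h
  obtain ⟨p, -, hp2, hK⟩ := h
  exact Cfsg.Agent.Omega.Lie.CenOrth.of_isPOmegaPlusChar hp2 hK

theorem zs_omMinus : ZSRow.{u} fun K _ => OddChar @IsPOmegaMinusChar K := by
  intro K _ h
  obtain ⟨p, -, hp2, hK⟩ := h
  exact Cfsg.Agent.Omega.Lie.CenOrth.of_isPOmegaMinusChar hp2 hK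

theorem zs_chev : ZSRow.{u} fun K _ => OddChar @IsExceptionalChevChar K ∧ ¬ IsLieTypeChar 2 K := by
  intro K _ h
  obtain ⟨⟨p, hp, hp2, hK⟩, -⟩ := h
  have : Fact p.Prime := ⟨hp⟩
  exact Cfsg.Agent.Omega.Lie.CenTwist.noCenMove_exc hp2 hK

theorem zs_twisted : ZSRow.{u} fun K _ => OddChar @IsTwistedE6D4Char K := by
  intro K _ h
  obtain ⟨p, hp, hp2, hK⟩ := h
  have : Fact p.Prime := ⟨hp⟩
  exact Cfsg.Agent.Omega.Lie.CenTwist.noCenMove_twisted hp2 hK

end Cfsg.Agent.Omega.KFacts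
end

-- part: Mrg/Omega/Lie/KRowsPlug
section
-- merged: Cfsg.Agent.Omega.Lie.Cen.OfSheet
section

/-!
# (ZS) from the fact sheets of the ODD half
-/

set_option autoImplicit false

namespace Cfsg.Agent.Omega.Lie.Cen.OfSheet

open Cfsg Cfsg.Agent.Omega.Lie.CenTwo Cfsg.Agent.OddHalf.D4

/-- the field `z1` of the sheet of D4 -/
theorem cenTwo {X : Type*} [Group X] (h : Spor.Sheet X) : CenTwo.CenTwo X := by
  obtain ⟨S⟩ : Nonempty (Sylow 2 X) := inferInstance
  by_cases hz : ∃ a ∈ S, a * a = 1 ∧ a ≠ 1 ∧ ∀ s ∈ S, s * a = a * s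
  · obtain ⟨a, ha, haa, ha1, hac⟩ := hz
    refine ⟨S, a, fun u hu hc huu => ?_⟩
    by_cases hu1 : u = 1
    · exact Or.inl hu1
    · exact Or.inr (h.z1 S u hu huu hu1 hc a ha haa ha1 hac)
  · refine ⟨S, 1, fun u hu hc huu => ?_⟩
    by_contra hne
    exact hz ⟨u, hu, huu, fun h1 => hne (Or.inl h1), hc⟩

/-- the field `z1` of the sheet of D4 -/
theorem noCenMove {X : Type*} [Group X] [Finite X] (h : Spor.Sheet X) : NoCenMove X := (cenTwo h).noCenMove

end Cfsg.Agent.Omega.Lie.Cen.OfSheet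

end

-- merged: Cfsg.Agent.Mrg.Omega.Lie.Cen.Sheets
section

section


/-!
# (ZS), sporadic rows from the fact sheets of the ODD half (helper844)

The sheets of D8 (`syl : Z(S) = ⟨z⟩`) and of D4 (`z1`) give `CenTwo`, hence `NoCenMove`: the rows `m11`, `on`, `hn`, `th`,
`m`, `ru`, `fi24`, `co2`, `j4` of `KFacts.RowsZS`.
-/

set_option autoImplicit false

namespace Cfsg.Agent.Omega.Lie.Cen.Sheets

open Cfsg Cfsg.Agent.Omega.Lie.CenTwo

/-- the field `syl` of the sheets of D8 -/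
theorem cenTwo_of_syl {X : Type*} [Group X] {z : X} (h : ∃ S : Sylow 2 X, z ∈ S ∧ (∀ x ∈ S, x * z = z * x) ∧
    ∀ y ∈ S, (∀ x ∈ S, x * y = y * x) → y = 1 ∨ y = z) : CenTwo X := by
  obtain ⟨S, -, -, h⟩ := h
  exact ⟨S, z, fun u hu hc _ => h u hu hc⟩

variable {X : Type*} [Group X] [Finite X]

theorem m11 (h : Spor.IsoM11 X) : NoCenMove X := OfSheet.noCenMove (OddHalf.D4.Spor.M11.sheet h)

theorem on (h : Spor.IsoON X) : NoCenMove X := OfSheet.noCenMove (OddHalf.D4.Spor.ON.sheet h)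

theorem hn (h : Spor.IsoHN X) : NoCenMove X := by
  obtain ⟨e⟩ := h
  exact OfSheet.noCenMove (OddHalf.D4.Spor.HN.sheet_of_equiv e)

theorem th (h : Spor.IsoTh X) : NoCenMove X := OfSheet.noCenMove (OddHalf.D4.Spor.ThSheet.sheet_of_iso h)

theorem m (h : Spor.IsoM X) : NoCenMove X := OfSheet.noCenMove (OddHalf.D4.Spor.MonsterFinal.sheet h)

theorem ru (h : Spor.IsoRu X) : NoCenMove X := OfSheet.noCenMove (OddHalf.D4.Spor.Ru.sheet h)

theorem fi24 (h : Spor.IsoFi24' X) : NoCenMove X := by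
  obtain ⟨e⟩ := h
  have : Finite Spor.Fi24' := Finite.of_equiv X e.toEquiv
  have h1 : CenTwo Spor.Fi24' := cenTwo_of_syl KFacts.FiTF.sheetE.syl
  exact h1.noCenMove.map e.symm

theorem co2 (h : Spor.IsoCo2 X) : NoCenMove X := by
  obtain ⟨z, P, R, h1, -⟩ := OddHalf.D8.RowCo2.facts X inferInstance h
  exact (cenTwo_of_syl h1.syl).noCenMove

theorem j4 (h : Spor.IsoJ4 X) : NoCenMove X := by
  obtain ⟨z, P, R, h1⟩ := KFacts.J4.SheetJ4.exists_sheet h
  exact (cenTwo_of_syl h1.syl).noCenMove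

end Cfsg.Agent.Omega.Lie.Cen.Sheets

end

section


/-!
# (ZS), the row of the Tits group

The centre of a Sylow 2-subgroup of `²F₄(2)'` has order 2: among the 4096 elements of the unipotent group of `²F₄(2)`
only `1` and `y₃²` commute with `y₀, y₄, y₆, y₁y₃, y₁y₅`.
-/

set_option autoImplicit false

namespace Cfsg.Agent.Omega.Lie.Cen.Tits

open Cfsg Cfsg.Agent.Omega.Lie.CenTwo
open Cfsg.Agent.ChevalleyStructure.Tits.Pack Cfsg.Agent.ChevalleyStructure.Tits.Data
  Cfsg.Agent.ChevalleyStructure.Tits.Sat Cfsg.Agent.ChevalleyStructure.Tits.Final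
  Cfsg.Agent.ChevalleyStructure.Tits.Mat Cfsg.Agent.ChevalleyStructure.Tits.Order
  Cfsg.Agent.ChevalleyStructure.Tits.Main

open scoped MatrixGroups

/-! ### the check -/

/-- the packed matrices differ (and are small) -/
def dif (A B : ℕ) : Bool := Nat.blt A (2 ^ 2704) && Nat.blt B (2 ^ 2704) && !(Nat.beq A B)

/-- `P` does not commute with `g` -/
def nc (P g : ℕ) : Bool := dif (mulP P g) (mulP g P)

/-- the words of the five elements -/
def gs : List (List ℕ) := [[0], [1, 3], [1, 5], [4], [6]]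

/-- the check of an element -/
def f (P : ℕ) : Bool :=
  (gs.any fun g => nc P (evalW g)) || Nat.beq P oneP || Nat.beq P (evalW [3, 3])

/-- all products of powers of `y_{8-n}, …, y₇`, multiplied by `P` -/
def tree : ℕ → ℕ → Bool
  | 0, P => f P
  | n + 1, P => (List.range (od (7 - n))).all fun a => tree n (mulP P (evalW (List.replicate a (7 - n))))

theorem tree_ok : tree 8 oneP = true := by decide +kernel

/-! ### soundness -/

theorem toMat_inj {a b : ℕ} (ha : a < 2 ^ 2704) (hb : b < 2 ^ 2704) (h : toMat a = toMat b) : a = b := by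
  apply Nat.eq_of_testBit_eq
  intro p
  by_cases hp : p < 2704
  · have hix : ∀ i < 52, ∃ r : I52, ix r = i := by
      intro i hi
      by_cases h4 : i < 4
      · exact ⟨Sum.inl ⟨i, h4⟩, rfl⟩
      · refine ⟨Sum.inr ⟨i - 4, by omega⟩, ?_⟩
        rw [ix_inr]
        show 4 + (i - 4) = i
        omega
    obtain ⟨r, hr⟩ := hix (p % 52) (Nat.mod_lt _ (by norm_num))
    obtain ⟨c, hc⟩ := hix (p / 52) (by omega)
    have h1 := congrFun (congrFun h r) c
    rw [toMat_apply, toMat_apply, hr, hc, Nat.div_add_mod] at h1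
    revert h1
    cases a.testBit p <;> cases b.testBit p <;> simp only [bz, _root_.Cfsg.Agent.ChevalleyStructure.Tits.Pack.bz, _root_.Bool.false_eq_true, ↓ _root_.reduceIte, _root_.imp_self, _root_.zero_ne_one, _root_.one_ne_zero, _root_.Bool.true_eq_false]
  · have h52 : 2 ^ 2704 ≤ 2 ^ p := Nat.pow_le_pow_right (by norm_num) (by omega)
    rw [Nat.testBit_lt_two_pow (lt_of_lt_of_le ha h52), Nat.testBit_lt_two_pow (lt_of_lt_of_le hb h52)]

theorem ne_of_nc {P g : ℕ} (h : nc P g = true) : toMat P * toMat g ≠ toMat g * toMat P := by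
  unfold nc dif at h
  rw [Bool.and_eq_true, Bool.and_eq_true, Nat.blt_eq, Nat.blt_eq, Bool.not_eq_true'] at h
  intro h2
  rw [← toMat_mulP, ← toMat_mulP] at h2
  have h3 := h.2
  rw [toMat_inj h.1.1 h.1.2 h2, Nat.beq_refl] at h3
  exact Bool.noConfusion h3

/-- the words of `gs` as elements -/
theorem eq_of_f {P : ℕ} (h : f P = true) (hc : ∀ g ∈ gs, toMat P * toMat (evalW g) = toMat (evalW g) * toMat P) :
    toMat P = 1 ∨ toMat P = toMat (evalW [3, 3]) := by
  unfold f at h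
  rw [Bool.or_eq_true, Bool.or_eq_true, List.any_eq_true] at h
  rcases h with (⟨g, hg, h⟩ | h) | h
  · exact absurd (hc g hg) (ne_of_nc h)
  · left
    rw [Nat.eq_of_beq_eq_true h, toMat_oneP]
  · right
    rw [Nat.eq_of_beq_eq_true h]

theorem tree_sound : ∀ n ≤ 8, ∀ P, tree n P = true → ∀ u ∈ V yG (8 - n),
    ∃ P', toMat P' = toMat P * ((u : GL I52 (ZMod 2)) : Matrix I52 I52 (ZMod 2)) ∧ f P' = true := by
  intro n
  induction n with
  | zero =>
    intro _ P h u hu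
    rw [Nat.sub_zero, V_eight, Subgroup.mem_bot] at hu
    subst hu
    exact ⟨P, by simp, h⟩
  | succ n ih =>
    intro hn P h u hu
    have hk : 8 - (n + 1) < 8 := by omega
    have e1 : 8 - (n + 1) = 7 - n := by omega
    have e2 : 7 - n + 1 = 8 - n := by omega
    rw [e1] at hu hk
    rw [V_succ yG hk] at hu
    obtain ⟨x, hx, k, hkk, rfl⟩ := mem_sup_fac (V_norm Sat_yG hk) u hu
    rw [e2] at hkk
    have hfin : IsOfFinOrder (yG (7 - n)) := isOfFinOrder_iff_pow_eq_one.mpr ⟨_, od_pos _, pow_od Sat_yG hk⟩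
    rw [← hfin.mem_powers_iff_mem_zpowers, hfin.mem_powers_iff_mem_range_orderOf, Finset.mem_image] at hx
    obtain ⟨a, ha, rfl⟩ := hx
    rw [Finset.mem_range] at ha
    have hle : orderOf (yG (7 - n)) ≤ od (7 - n) :=
      Nat.le_of_dvd (od_pos _) (orderOf_dvd_of_pow_eq_one (pow_od Sat_yG hk))
    unfold tree at h
    rw [List.all_eq_true] at h
    obtain ⟨P', h1, h2⟩ := ih (by omega) _ (h a (List.mem_range.2 (lt_of_lt_of_le ha hle))) k hkk
    refine ⟨P', ?_, h2⟩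
    rw [h1, toMat_mulP, toMat_evalW, ← coe_word _ (by
      intro i hi
      rw [List.eq_of_mem_replicate hi]
      omega), Units.val_mul, Matrix.mul_assoc]
    rw [List.map_replicate, List.prod_replicate]

/-- the elements of `V` which commute with the five elements -/
theorem cen_V {u : GL I52 (ZMod 2)} (hu : u ∈ V yG 0)
    (hc : ∀ g ∈ gs, u * (g.map yG).prod = (g.map yG).prod * u) : u = 1 ∨ u = yG 3 * yG 3 := by
  obtain ⟨P, h1, h2⟩ := tree_sound 8 le_rfl _ tree_ok u (by simpa using hu)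
  rw [toMat_oneP, Matrix.one_mul] at h1
  have hlt : ∀ g ∈ gs, ∀ i ∈ g, i < 12 := by decide
  rcases eq_of_f h2 (by
    intro g hg
    rw [h1, toMat_evalW, ← coe_word _ (hlt g hg), ← Units.val_mul, ← Units.val_mul, hc g hg]) with h | h
  · left
    rw [h1] at h
    exact Units.ext h
  · right
    rw [h1, toMat_evalW, ← coe_word _ (by simp)] at h
    rw [Units.ext h]
    simp

/-! ### the Sylow subgroup of the commutator subgroup -/

theorem index_two : (commutator H0).index = 2 := H0_result.1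

theorem mm (a b : H0) : a * b ∈ commutator H0 ↔ (a ∈ commutator H0 ↔ b ∈ commutator H0) :=
  Subgroup.mul_mem_iff_of_index_two index_two

theorem sq_mem (g : H0) : g * g ∈ commutator H0 := (mm g g).2 Iff.rfl

theorem cc {n x z : H0} (h : n * x = z * n) : x ∈ commutator H0 ↔ z ∈ commutator H0 := by
  have e : z = n * x * n⁻¹ := by rw [h]; group
  rw [e, mm, mm, inv_mem_iff]
  exact (by intro a b; (clear * -; tauto) : ∀ a b : Prop, b ↔ ((a ↔ b) ↔ a)) _ _

theorem relH {p : List ℕ × List ℕ} (h1 : chk p = true) (h2 : ∀ i ∈ p.1, i < 10) (h3 : ∀ i ∈ p.2, i < 10) :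
    (p.1.map yH).prod = (p.2.map yH).prod := by
  apply Subtype.ext
  rw [coe_list _ h2, coe_list _ h3]
  exact rel_of_chk h1 (fun i hi => by have := h2 i hi; omega) (fun i hi => by have := h3 i hi; omega)

theorem c91 : yH 1 ∈ commutator H0 ↔ yH 5 ∈ commutator H0 := by
  have h := relH (p := ([9, 1], [5, 9])) (by decide +kernel) (by decide) (by decide)
  simp only [List.map_cons, List.map_nil, List.prod_cons, List.prod_nil, mul_one] at h
  exact cc h

theorem c83 : yH 3 ∈ commutator H0 ↔ yH 5 ∈ commutator H0 := by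
  have h := relH (p := ([8, 3], [5, 8])) (by decide +kernel) (by decide) (by decide)
  simp only [List.map_cons, List.map_nil, List.prod_cons, List.prod_nil, mul_one] at h
  exact cc h

theorem m6 : yH 6 ∈ commutator H0 := by
  have h := relH (p := ([6], [1, 7, 1, 7, 1, 7, 7, 7, 1, 7, 7, 7])) (by decide +kernel) (by decide) (by decide)
  simp only [List.map_cons, List.map_nil, List.prod_cons, List.prod_nil, mul_one] at h
  have e : yH 6 = (yH 1 * yH 7) * (yH 1 * yH 7) * ((yH 1 * yH 7 * yH 7 * yH 7) * (yH 1 * yH 7 * yH 7 * yH 7)) := by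
    rw [h]; simp only [mul_assoc]
  rw [e]
  exact mul_mem (sq_mem _) (sq_mem _)

theorem m0 : yH 0 ∈ commutator H0 := by
  have h := relH (p := ([9, 0], [6, 9])) (by decide +kernel) (by decide) (by decide)
  simp only [List.map_cons, List.map_nil, List.prod_cons, List.prod_nil, mul_one] at h
  exact (cc h).2 m6

theorem m2 : yH 2 ∈ commutator H0 := by
  have h := relH (p := ([2], [0, 1, 3, 4, 0, 1, 3, 4])) (by decide +kernel) (by decide) (by decide)
  simp only [List.map_cons, List.map_nil, List.prod_cons, List.prod_nil, mul_one] at h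
  have e : yH 2 = (yH 0 * yH 1 * yH 3 * yH 4) * (yH 0 * yH 1 * yH 3 * yH 4) := by
    rw [h]; simp only [mul_assoc]
  rw [e]
  exact sq_mem _

theorem m4 : yH 4 ∈ commutator H0 := by
  have h := relH (p := ([9, 2], [4, 9])) (by decide +kernel) (by decide) (by decide)
  simp only [List.map_cons, List.map_nil, List.prod_cons, List.prod_nil, mul_one] at h
  exact (cc h).1 m2

theorem m_gs : ∀ g ∈ gs, (g.map yH).prod ∈ commutator H0 := by
  intro g hg
  simp only [gs, List.mem_cons, List.not_mem_nil, or_false] at hg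
  rcases hg with rfl | rfl | rfl | rfl | rfl
  · simpa only [_root_.List.map_cons, _root_.List.map_nil, _root_.List.prod_cons, _root_.List.prod_nil, _root_.mul_one] using m0
  · simp only [List.map_cons, List.map_nil, List.prod_cons, List.prod_nil, mul_one]
    exact (mm _ _).2 (c91.trans c83.symm)
  · simp only [List.map_cons, List.map_nil, List.prod_cons, List.prod_nil, mul_one]
    exact (mm _ _).2 c91
  · simpa using m4
  · simpa using m6

theorem V_gs : ∀ g ∈ gs, (g.map yH).prod ∈ V yH 0 := by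
  intro g hg
  have hlt : ∀ g ∈ gs, ∀ i ∈ g, i < 8 := by decide
  exact _root_.Cfsg.Agent.ChevalleyStructure.Tits.Sat.list_prod_mem yH g fun i hi => mem_V yH (Nat.zero_le _) (hlt g hg i hi)

theorem cenTwo_abs (T : Subgroup H0) (hidx : T.index = 2) (hcT : Nat.card T = 2 ^ 11 * 3 ^ 3 * 5 ^ 2 * 13)
    (hm : ∀ g ∈ gs, (g.map yH).prod ∈ T) (hsq : yH 3 * yH 3 ∈ T) (hn : T.Normal) : CenTwo.CenTwo T := by
  have : Fact (Nat.Prime 2) := ⟨Nat.prime_two⟩
  set W : Subgroup T := (V yH 0).subgroupOf T with hW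
  have hcV : Nat.card (V yH 0) = 4096 := card_V_yH
  -- the order of `W`
  have hcW : 2048 ≤ Nat.card W := by
    have h1 : Nat.card W = Nat.card (T ⊓ V yH 0 : Subgroup H0) := by
      rw [hW, inf_comm, ← Subgroup.subgroupOf_map_subtype]
      exact (Nat.card_congr (((V yH 0).subgroupOf T).equivMapOfInjective T.subtype T.subtype_injective).toEquiv)
    have h2 : Nat.card (T ⊓ V yH 0 : Subgroup H0) * T.relIndex (V yH 0) = Nat.card (V yH 0) := by
      have h5 : Nat.card (T.subgroupOf (V yH 0)) * (T.subgroupOf (V yH 0)).index = Nat.card (V yH 0) :=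
        Subgroup.card_mul_index _
      have h6 : Nat.card (T.subgroupOf (V yH 0)) = Nat.card (T ⊓ V yH 0 : Subgroup H0) := by
        rw [← Subgroup.subgroupOf_map_subtype]
        exact (Nat.card_congr ((T.subgroupOf (V yH 0)).equivMapOfInjective (V yH 0).subtype
          (V yH 0).subtype_injective).toEquiv)
      rw [← h6]
      exact h5
    have h3 : T.relIndex (V yH 0) ∣ 2 := by
      have := Subgroup.relIndex_dvd_index_of_normal T (V yH 0)
      rwa [hidx] at this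
    have h4 := Nat.le_of_dvd (by norm_num) h3
    rw [h1]
    rw [hcV] at h2
    nlinarith only [h2, h4]
  have hpW : IsPGroup 2 W := by
    have h1 : IsPGroup 2 (V yH 0) := IsPGroup.of_card (n := 12) (by rw [hcV]; norm_num)
    exact h1.comap_of_injective T.subtype T.subtype_injective
  obtain ⟨S, hS⟩ := hpW.exists_le_sylow
  have hcS : Nat.card S = 2048 := by
    rw [S.card_eq_multiplicity, hcT]
    have e : (2 ^ 11 * 3 ^ 3 * 5 ^ 2 * 13 : ℕ).factorization 2 = 11 := by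
      rw [show (2 ^ 11 * 3 ^ 3 * 5 ^ 2 * 13 : ℕ) = 2 ^ 11 * 8775 by norm_num,
        Nat.factorization_mul (by norm_num) (by norm_num), Finsupp.add_apply,
        Nat.Prime.factorization_pow Nat.prime_two, Nat.factorization_eq_zero_of_not_dvd (by norm_num)]
      simp
    rw [e]; norm_num
  have hWS : W = S := by
    refine Subgroup.eq_of_le_of_card_ge hS ?_
    show Nat.card S ≤ _
    rw [hcS]; exact hcW
  refine ⟨S, ⟨yH 3 * yH 3, hsq⟩, ?_⟩
  rintro ⟨u, huT⟩ hu hc _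
  have huS : (⟨u, huT⟩ : T) ∈ W := by rw [hWS]; exact hu
  have huV : u ∈ V yH 0 := huS
  have hmS : ∀ x : H0, x ∈ V yH 0 → ∀ hx : x ∈ T, (⟨x, hx⟩ : T) ∈ S := by
    intro x hx hxT
    have : (⟨x, hxT⟩ : T) ∈ W := hx
    rw [hWS] at this
    exact this
  have key : ((u : H0) : GL I52 (ZMod 2)) = 1 ∨ ((u : H0) : GL I52 (ZMod 2)) = yG 3 * yG 3 := by
    apply cen_V
    · rw [← map_V]
      exact ⟨u, huV, rfl⟩
    · intro g hg
      have h1 := hc _ (hmS _ (V_gs g hg) (hm g hg))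
      have h2 : (g.map yH).prod * u = u * (g.map yH).prod := by
        have h3 := Subtype.ext_iff.1 h1
        rw [Subgroup.coe_mul, Subgroup.coe_mul] at h3
        exact h3
      have hlt : ∀ g ∈ gs, ∀ i ∈ g, i < 10 := by decide +kernel
      rw [← coe_list g (hlt g hg), ← Subgroup.coe_mul, ← Subgroup.coe_mul, h2]
  rcases key with h | h
  · left
    apply Subtype.ext
    exact Subtype.ext h
  · right
    apply Subtype.ext
    apply Subtype.ext
    show (u : GL I52 (ZMod 2)) = ((yH 3 * yH 3 : H0) : GL I52 (ZMod 2))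
    rw [h, Subgroup.coe_mul, coe_yH (by norm_num)]

theorem cenTwo_H0 : CenTwo.CenTwo (commutator H0) :=
  cenTwo_abs (commutator H0) index_two H0_result.2.2.2 m_gs (sq_mem _) inferInstance

theorem of_iso {Y : Type*} [Group Y] [Finite Y] (h : CenTwo.CenTwo Y) {X : Type*} [Group X]
    (e : Nonempty (X ≃* Y)) : NoCenMove X := by
  obtain ⟨e⟩ := e
  have : Finite X := Finite.of_equiv Y e.symm.toEquiv
  exact h.noCenMove.map e.symm

theorem cenTwo_aux (K : Subgroup (GL I52 (ZMod 2))) (hK : K = H0) : CenTwo.CenTwo (commutator K) := by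
  subst hK
  exact cenTwo_H0

theorem finite_aux (K : Subgroup (GL I52 (ZMod 2))) : Finite (commutator K) := by
  have : Finite K := Subgroup.instFiniteSubtypeMem K
  exact Subgroup.instFiniteSubtypeMem _

theorem finite_tits : Finite Cfsg.Lie.TitsGroup := finite_aux (Cfsg.Lie.twistedF4 (ZMod 2) 1)

/-- The centre of a Sylow 2-subgroup of the Tits group has at most one involution. -/
theorem cenTwo_tits : CenTwo.CenTwo Cfsg.Lie.TitsGroup := cenTwo_aux (Cfsg.Lie.twistedF4 (ZMod 2) 1) T0_eq_H0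

end Cfsg.Agent.Omega.Lie.Cen.Tits

namespace Cfsg.Agent.Omega.Lie.Cen

open Cfsg Cfsg.Agent.Omega.Lie.CenTwo

/-- **(ZS), the Tits group** -/
theorem tits {X : Type*} [Group X] (h : Cfsg.Lie.IsoTits X) : NoCenMove X := by
  have hf := Tits.finite_tits
  exact Tits.of_iso Tits.cenTwo_tits h

end Cfsg.Agent.Omega.Lie.Cen

end

section


/-!
# (ZS), the row `HS` (helper484)
-/

set_option autoImplicit false

namespace Cfsg.Agent.Omega.Lie.Cen

open Cfsg Cfsg.Agent.Omega.Lie.CenTwo Cfsg.Agent.KFacts.HS Cfsg.Agent.KFacts.HS.Cent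
open Cfsg.Agent.HN Cfsg.Agent.HN.Pres Cfsg.Agent.HN.HS100 Cfsg.Agent.HN.H0Basic
open Cfsg.Agent.HN.P1408 hiding U
open Cfsg.Agent.HN.XMat Cfsg.Agent.HN.WMask

theorem sg_sq (e : Bool) : sg e * sg e = 1 := by
  rw [sg_mul]; cases e <;> rfl

theorem b_ne : (b : H0) ≠ 1 := by
  intro h
  have h1 : sg true = sg false := h
  exact absurd (sg_inj h1) (by decide)

theorem b_ne_τ : (b : H0) ≠ τ := by
  intro h
  apply bτ_ne
  rw [h, τ_mul_τ]

theorem cenTwo_hs {L : Type*} [Group L] [Finite L] (D : Cfsg.Agent.KFacts.HS.Mod L) : CenTwo.CenTwo L := by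
  have hE : IsPGroup 2 ((Rt.subgroupOf K).map D.π) := by
    apply IsPGroup.map
    intro x
    refine ⟨2, Subtype.ext (Subtype.ext ?_)⟩
    obtain ⟨m, hm, -, e, he⟩ := mem_Rt.1 (Subgroup.mem_subgroupOf.1 x.2)
    show ((x : K) : H0) ^ (2 ^ 2) = 1
    rw [he]
    obtain ⟨e1, h1⟩ := R_sq m
    calc (R m * sg e) ^ (2 ^ 2) = (R m * (sg e * R m) * sg e) * (R m * (sg e * R m) * sg e) := by
          rw [show (2 : ℕ) ^ 2 = 4 by norm_num, pow_succ, pow_succ, pow_succ, pow_one]; group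
      _ = ((R m * R m) * (sg e * sg e)) * ((R m * R m) * (sg e * sg e)) := by rw [R_sg]; group
      _ = 1 := by rw [h1, sg_sq, mul_one, sg_sq]
  refine cenTwo_of_centralizer hE (z := D.π ⟨b, b_mem_K⟩) ?_
  intro u hu huu
  obtain ⟨h, rfl⟩ := D.surj u
  have key : ∀ r ∈ Rt, (h : H0) * r * (h : H0)⁻¹ = r ∨ (h : H0) * r * (h : H0)⁻¹ = r * τ := by
    intro r hr
    have hrK : r ∈ K := hr.2
    have h1 := hu (D.π ⟨r, hrK⟩) ⟨⟨r, hrK⟩, hr, rfl⟩
    rw [← map_mul, ← map_mul, eq_comm, D.eq_iff] at h1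
    rcases h1 with h1 | h1
    · left
      have h2 : (h : H0) * r = r * h := h1
      rw [h2]; group
    · right
      have h2 : (h : H0) * r = r * h * τ := h1
      rw [h2, mul_assoc (r * (h : H0)), ← τ_comm]
      group
  have hU := key U U_mem_Rt
  have hb : (h : H0) * b = b * h := by
    rw [← mul_inv_eq_iff_eq_mul]
    have e : (h : H0) * b * (h : H0)⁻¹ = ((h : H0) * U * (h : H0)⁻¹) * ((h : H0) * U * (h : H0)⁻¹) := by
      rw [← U_sq]; group
    rw [e]
    rcases hU with h1 | h1 <;> rw [h1]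
    · exact U_sq
    · calc U * τ * (U * τ) = U * (τ * U) * τ := by group
        _ = U * (U * τ) * τ := by rw [← τ_comm]
        _ = (U * U) * (τ * τ) := by group
        _ = b := by rw [τ_mul_τ, mul_one, U_sq]
  have huu' : (h : H0) * h = 1 ∨ (h : H0) * h = τ := by
    rw [← map_mul] at huu
    exact (D.ker _).1 huu
  have hUU : ∀ e : Bool, U * sg e * (U * sg e) = b := by
    intro e
    have h1 : sg e * U = U * sg e := R_sg 28 e
    calc U * sg e * (U * sg e) = U * (sg e * U) * sg e := by group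
      _ = (U * U) * (sg e * sg e) := by rw [h1]; group
      _ = b := by rw [sg_sq, mul_one, U_sq]
  have hbad : (h : H0) * h ≠ b := by
    intro h1
    rcases huu' with h2 | h2
    · exact b_ne (h1.symm.trans h2)
    · exact b_ne_τ (h1.symm.trans h2)
  have fin : ∀ e : Bool, (h : H0) = sg e ∨ (h : H0) = sg e * τ → D.π h = 1 ∨ D.π h = D.π ⟨b, b_mem_K⟩ := by
    intro e he
    cases e
    · left
      rw [← map_one D.π, D.eq_iff]
      exact he
    · right
      rw [D.eq_iff]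
      exact he
  obtain ⟨e, h1 | h1 | h1 | h1⟩ := fixR hb key
  · exact fin e (Or.inl h1)
  · exact fin e (Or.inr (by rw [h1, τ_comm]))
  · exact absurd (by rw [h1]; exact hUU e) hbad
  · refine absurd ?_ hbad
    rw [h1]
    calc U * τ * sg e * (U * τ * sg e) = U * (τ * (sg e * U)) * τ * sg e := by group
      _ = U * ((sg e * U) * τ) * τ * sg e := by rw [τ_comm (sg e * U)]
      _ = U * sg e * (U * (τ * τ) * sg e) := by group
      _ = b := by rw [τ_mul_τ, mul_one, hUU e]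

theorem hs {X : Type*} [Group X] (h : Spor.IsoHS X) : NoCenMove X := by
  obtain ⟨D⟩ := exists_mod h
  have hf : Finite X := Nat.finite_of_card_ne_zero (by rw [Cfsg.Agent.KFacts.HS.card h]; norm_num)
  exact (cenTwo_hs D).noCenMove

end Cfsg.Agent.Omega.Lie.Cen

end

end

-- merged: Cfsg.Agent.Mrg.Omega.Lie.Cen.J2
section

section


/-!
# (ZS), the row `J2` (helper484)
-/

set_option autoImplicit false

namespace Cfsg.Agent.Omega.Lie.Cen

open Cfsg Cfsg.Agent.Omega.Lie.CenTwo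

theorem finite_j2 : Finite Spor.J2 := Nat.finite_of_card_ne_zero (by
  rw [Cfsg.Agent.J2Sylow.SporSylow.card_J2]; norm_num)

theorem cenTwo_j2 : CenTwo.CenTwo Spor.J2 := by
  obtain ⟨S⟩ : Nonempty (Sylow 2 Spor.J2) := inferInstance
  obtain ⟨f⟩ := J2Sylow.SporSylow.exists_equiv S
  exact cenTwo_of_typeJTwo f

theorem j2 {X : Type*} [Group X] (h : Spor.IsoJ2 X) : NoCenMove X :=
  have := finite_j2
  noCenMove_of_iso cenTwo_j2 h

end Cfsg.Agent.Omega.Lie.Cen

end

section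


/-!
# (ZS), the row `J3` (helper484)
-/

set_option autoImplicit false

namespace Cfsg.Agent.Omega.Lie.Cen

open Cfsg Cfsg.Agent.Omega.Lie.CenTwo

theorem j3 {X : Type*} [Group X] (h : Spor.IsoJ3 X) : NoCenMove X := by
  obtain ⟨F, _, _, ω, hF, hω, h⟩ := h
  have H := Cfsg.Agent.J3.Core.good_of_card hF hω
  have hc := Cfsg.Agent.J3.Simple.card_J3 hF H
  have hfin : Finite (Cfsg.Spor.J3 F ω) := Nat.finite_of_card_ne_zero (by rw [hc]; norm_num)
  obtain ⟨S⟩ : Nonempty (Sylow 2 (Cfsg.Spor.J3 F ω)) := inferInstance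
  obtain ⟨f⟩ := Schreier.JThreeSylow.exists_equiv hF H S
  exact noCenMove_of_iso (cenTwo_of_typeJTwo f) h

end Cfsg.Agent.Omega.Lie.Cen

end

end

-- merged: Cfsg.Agent.Mrg.Omega.Lie.Cen.Co3
section

/-!
# (ZS), the row `Co3` (helper484)
-/

set_option autoImplicit false

namespace Cfsg.Agent.Omega.Lie.Cen

open Cfsg Cfsg.Agent.Omega.Lie.CenTwo Cfsg.Agent.SporRec.Co3.Chain

theorem map_G3 : G3.map Co0.subtype = Spor.Co3 := by
  ext g
  constructor
  · rintro ⟨x, hx, rfl⟩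
    exact ⟨x.2, hx⟩
  · rintro ⟨h1, h2⟩
    exact ⟨⟨g, h1⟩, h2, rfl⟩

theorem co3 {X : Type*} [Group X] (h : Spor.IsoCo3 X) : NoCenMove X := by
  have hf := KFacts.Co3.Syl.finite_G3
  obtain ⟨S, -, -, hS⟩ := KFacts.Co3.Syl.syl
  have h1 : CenTwo.CenTwo G3 := ⟨S, _, fun u hu hc _ => hS u hu hc⟩
  obtain ⟨e⟩ := h
  exact noCenMove_of_iso h1 ⟨e.trans ((Subgroup.equivMapOfInjective G3 Co0.subtype Subtype.val_injective).trans
    (MulEquiv.subgroupCongr map_G3)).symm⟩

end Cfsg.Agent.Omega.Lie.Cen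

end

-- merged: Cfsg.Agent.Mrg.Omega.Lie.CenCover
section

/-!
# `CenTwo` for the double covers of `A_n`, for groups with involution centraliser `2.A_n` (helper484)

* `not_cen_of_conj`: `z` a central involution, `u` conjugate to `u z`: then `u` does not centralise a Sylow
  2-subgroup;
* `cenTwo_of_cover`: double covers of `A_n`;
* `cenTwo_of_mt`: groups of type `MT n` (`McL`, `Ly`).
-/

set_option autoImplicit false
set_option linter.dupNamespace false

namespace Cfsg.Agent.Omega.Lie.CenTwo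

open Subgroup Cfsg.Agent.SporRec.TwoAn Cfsg.Agent.TypeM.Two

/-- an element conjugate to its product with a central involution does not centralise a Sylow 2-subgroup -/
theorem not_cen_of_conj {C : Type*} [Group C] [Finite C] {z u w : C} (hz : ∀ x : C, x * z = z * x) (hzz : z * z = 1)
    (hz1 : z ≠ 1) (hw : w * u * w⁻¹ = u * z) (S : Sylow 2 C) (hS : ∀ x ∈ S, x * u = u * x) : False := by
  have : Fact (Nat.Prime 2) := ⟨Nat.prime_two⟩
  -- `N` = the centraliser of `u` modulo `z`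
  let N : Subgroup C :=
    { carrier := {x | x * u * x⁻¹ = u ∨ x * u * x⁻¹ = u * z}
      one_mem' := Or.inl (by group)
      mul_mem' := by
        intro x y hx hy
        have e : x * y * u * (x * y)⁻¹ = x * (y * u * y⁻¹) * x⁻¹ := by group
        show x * y * u * (x * y)⁻¹ = u ∨ x * y * u * (x * y)⁻¹ = u * z
        rw [e]
        have hxz : x * z * x⁻¹ = z := by rw [hz x]; group
        rcases hy with hy | hy <;> rw [hy]
        · exact hx
        · have e2 : x * (u * z) * x⁻¹ = (x * u * x⁻¹) * (x * z * x⁻¹) := by group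
          rw [e2, hxz]
          rcases hx with hx | hx <;> rw [hx]
          · right; rfl
          · left; rw [mul_assoc, hzz, mul_one]
      inv_mem' := by
        intro x hx
        show x⁻¹ * u * x⁻¹⁻¹ = u ∨ x⁻¹ * u * x⁻¹⁻¹ = u * z
        rcases hx with hx | hx
        · left
          calc x⁻¹ * u * x⁻¹⁻¹ = x⁻¹ * (x * u * x⁻¹) * x⁻¹⁻¹ := by rw [hx]
            _ = u := by group
        · right
          have h1 : x * (u * z) * x⁻¹ = u := by
            calc x * (u * z) * x⁻¹ = (x * u * x⁻¹) * (x * z * x⁻¹) := by group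
              _ = u * z * z := by rw [hx, hz x]; group
              _ = u := by rw [mul_assoc, hzz, mul_one]
          calc x⁻¹ * u * x⁻¹⁻¹ = x⁻¹ * (x * (u * z) * x⁻¹) * x⁻¹⁻¹ := by rw [h1]
            _ = u * z := by group }
  have hmem : ∀ x, x ∈ N ↔ x * u * x⁻¹ = u ∨ x * u * x⁻¹ = u * z := fun x => Iff.rfl
  have huz : u * z ≠ u := fun h => hz1 (mul_eq_left.1 h)
  have hcen : ∀ x, x ∈ centralizer ({u} : Set C) ↔ x * u * x⁻¹ = u := by
    intro x
    rw [mem_centralizer_singleton_iff, mul_inv_eq_iff_eq_mul]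
  have hle : centralizer ({u} : Set C) ≤ N := fun x hx => Or.inl ((hcen x).1 hx)
  have hrel : (centralizer ({u} : Set C)).relIndex N = 2 := by
    rw [relIndex, index_eq_two_iff]
    refine ⟨⟨w, Or.inr hw⟩, ?_⟩
    rintro ⟨b, hb⟩
    rw [mem_subgroupOf, mem_subgroupOf]
    show Xor (b * w ∈ centralizer ({u} : Set C)) (b ∈ centralizer ({u} : Set C))
    rw [hcen, hcen]
    have e : b * w * u * (b * w)⁻¹ = (b * u * b⁻¹) * z := by
      calc b * w * u * (b * w)⁻¹ = b * (w * u * w⁻¹) * b⁻¹ := by group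
        _ = b * u * (z * b⁻¹) := by rw [hw]; group
        _ = b * u * (b⁻¹ * z) := by rw [hz b⁻¹]
        _ = _ := by group
    rw [e]
    rcases (hmem b).1 hb with h | h
    · rw [h]
      exact Or.inr ⟨rfl, huz⟩
    · rw [h]
      refine Or.inl ⟨by rw [mul_assoc, hzz, mul_one], huz⟩
  have h1 : (S : Subgroup C) ≤ centralizer ({u} : Set C) := fun x hx =>
    mem_centralizer_singleton_iff.2 (hS x hx)
  have h2 : (centralizer ({u} : Set C)).index ∣ (S : Subgroup C).index := index_dvd_of_le h1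
  have h3 : (centralizer ({u} : Set C)).relIndex N * N.index = (centralizer ({u} : Set C)).index :=
    relIndex_mul_index hle
  rw [hrel] at h3
  have h4 : ¬ 2 ∣ (S : Subgroup C).index := S.not_dvd_index
  exact h4 ((Dvd.intro _ h3).trans h2)

/-- the double covers of the alternating groups -/
theorem cenTwo_of_cover {n : ℕ} {C : Type*} [Group C] [Finite C] (K : Cover (Fin n) C) : CenTwo C := by
  obtain ⟨S⟩ : Nonempty (Sylow 2 C) := inferInstance
  refine ⟨S, K.z, ?_⟩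
  intro u _ hc huu
  by_contra hne
  have h1 : K.π u ≠ 1 := fun h => hne ((K.ker u).1 h)
  have h2 : K.π u * K.π u = 1 := by rw [← map_mul, huu, map_one]
  obtain ⟨w, hw⟩ := K.exists_conj_mul_z h2 h1
  exact not_cen_of_conj (fun x => K.z_comm x) K.z_mul_z K.z_ne hw S hc

/-- with one class of involutions the centraliser of an involution has odd index -/
theorem odd_index_of_one {X : Type*} [Group X] [Finite X] {t : X} (htt : t * t = 1) (ht1 : t ≠ 1)
    (one : ∀ s : X, s * s = 1 → s ≠ 1 → ∃ g, g * t * g⁻¹ = s) : ¬ 2 ∣ (centralizer ({t} : Set X)).index := by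
  have : Fact (Nat.Prime 2) := ⟨Nat.prime_two⟩
  obtain ⟨S⟩ : Nonempty (Sylow 2 X) := inferInstance
  have hcard : 2 ∣ Nat.card X := by
    have h1 : orderOf t = 2 := orderOf_eq_prime (by rw [pow_two, htt]) ht1
    rw [← h1]; exact _root_.orderOf_dvd_natCard t
  -- the Sylow subgroup is not trivial
  have hS : (S : Subgroup X) ≠ ⊥ := by
    intro h
    have h2 := S.not_dvd_index
    rw [show ((S : Subgroup X)).index = Nat.card X by rw [h, index_bot]] at h2
    exact h2 hcard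
  obtain ⟨y, hy, hy1⟩ := (nontrivial_iff_exists_ne_one _).1 ((nontrivial_iff_ne_bot _).2 hS)
  obtain ⟨u, hu, hu1, huu, hc⟩ := exists_central (S := (S : Subgroup X)) S.isPGroup' le_rfl
    (fun g hg y hy => mul_mem (mul_mem hg hy) (inv_mem hg)) hy hy1
  obtain ⟨g, hg⟩ := one u huu hu1
  have h1 : (S : Subgroup X) ≤ centralizer ({u} : Set X) := fun x hx => mem_centralizer_singleton_iff.2 (hc x hx)
  have h2 : ¬ 2 ∣ (centralizer ({u} : Set X)).index := fun h => S.not_dvd_index (h.trans (index_dvd_of_le h1))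
  have h3 : (centralizer ({u} : Set X)).index = (centralizer ({t} : Set X)).index := by
    have e : centralizer ({u} : Set X) = (centralizer ({t} : Set X)).map (MulAut.conj g).toMonoidHom := by
      ext x
      rw [mem_centralizer_singleton_iff]
      constructor
      · intro hx
        refine ⟨g⁻¹ * x * g, mem_centralizer_singleton_iff.2 ?_, ?_⟩
        · rw [← hg] at hx
          calc g⁻¹ * x * g * t = g⁻¹ * (x * (g * t * g⁻¹)) * g := by group
            _ = g⁻¹ * (g * t * g⁻¹ * x) * g := by rw [hx]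
            _ = _ := by group
        · show g * (g⁻¹ * x * g) * g⁻¹ = x
          group
      · rintro ⟨y, hy, rfl⟩
        have hy' := mem_centralizer_singleton_iff.1 hy
        show g * y * g⁻¹ * u = u * (g * y * g⁻¹)
        rw [← hg]
        calc g * y * g⁻¹ * (g * t * g⁻¹) = g * (y * t) * g⁻¹ := by group
          _ = g * (t * y) * g⁻¹ := by rw [hy']
          _ = _ := by group
    rw [e]
    exact index_map_equiv _ (MulAut.conj g)
  rwa [h3] at h2

/-- **groups with one class of involutions and involution centraliser `2.A_n`** -/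
theorem cenTwo_of_mt {n : ℕ} {X : Type*} [Group X] [Finite X] (L : MT n X) : CenTwo X :=
  cenTwo_of_subgroup (odd_index_of_one L.t_mul_t L.t_ne L.one) (cenTwo_of_cover L.K)

end Cfsg.Agent.Omega.Lie.CenTwo

end

-- merged: Cfsg.Agent.Mrg.Omega.Lie.Cen.McL
section

section


/-!
# (ZS), the row `McL` (helper484)
-/

set_option autoImplicit false

namespace Cfsg.Agent.Omega.Lie.Cen

open Cfsg Cfsg.Agent.Omega.Lie.CenTwo

theorem mcL {X : Type*} [Group X] (h : Spor.IsoMcL X) : NoCenMove X := by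
  obtain ⟨hf, -, -, ⟨L⟩⟩ := TypeM.FactsMcL.facts h
  exact (cenTwo_of_mt L).noCenMove

end Cfsg.Agent.Omega.Lie.Cen

end

section


/-!
# (ZS), the row `Ly` (helper484)
-/

set_option autoImplicit false

namespace Cfsg.Agent.Omega.Lie.Cen

open Cfsg Cfsg.Agent.Omega.Lie.CenTwo

theorem ly {X : Type*} [Group X] (h : Spor.IsoLy X) : NoCenMove X := by
  obtain ⟨hf, -, -, ⟨L⟩⟩ := TypeM.FactsLy.facts h
  exact (cenTwo_of_mt L).noCenMove

end Cfsg.Agent.Omega.Lie.Cen

end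

end

-- merged: Cfsg.Agent.Omega.Lie.Cen.Suz
section

/-!
# (ZS), the row `Suz` (helper415)
-/

set_option autoImplicit false

namespace Cfsg.Agent.Omega.Lie.Cen

open Cfsg Cfsg.Agent.Omega.Lie.CenTwo

theorem suz {X : Type*} [Group X] (h : Spor.IsoSuz X) : NoCenMove X := by
  have : Finite Cfsg.Spor.Suz := OddHalf.D4.Spor.Suz.fin
  have hX := OfSheet.noCenMove OddHalf.D4.Spor.Suz.sheet
  obtain ⟨e⟩ := h
  have : Finite X := Finite.of_equiv Cfsg.Spor.Suz e.symm.toEquiv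
  exact NoCenMove.map e.symm hX

end Cfsg.Agent.Omega.Lie.Cen

end

-- merged: Cfsg.Agent.Mrg.Omega.Lie.Cen.He
section

/-!
# (ZS), the row `He` (helper484)
-/

set_option autoImplicit false

namespace Cfsg.Agent.Omega.Lie.Cen

open Cfsg Cfsg.Agent.Omega.Lie.CenTwo Cfsg.Agent.KFacts.He.Hyp Cfsg.Agent.SporadicRecognition.HeldModel
open Cfsg.Agent.KFacts.TwoSix.SheetDef Cfsg.Agent.KFacts.TwoSix.Sheet

theorem cenTwo_he : CenTwo.CenTwo Spor.He := by
  have := finHe
  have hs := sheet_of hyp.inj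
  refine cenTwo_of_centralizer (E := im iota QQ) (IsPGroup.of_card (n := 7) (by rw [hs.cardR]; norm_num))
    (z := iota zC) ?_
  intro u hu _
  refine hs.cR u ?_ fun r hr => (hu r hr).symm
  rw [hyp.range, Subgroup.mem_centralizer_singleton_iff]
  have h1 := hu _ (hs.h1.ER hs.h1.zE)
  rw [hyp.map_zz] at h1
  exact h1.symm

theorem he {X : Type*} [Group X] (h : Spor.IsoHe X) : NoCenMove X :=
  have := finHe
  noCenMove_of_iso cenTwo_he h

end Cfsg.Agent.Omega.Lie.Cen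

end

-- merged: Cfsg.Agent.Mrg.Omega.Lie.Cen.B
section

/-!
# (ZS), the row `B` (helper918)
-/

set_option autoImplicit false

namespace Cfsg.Agent.Omega.Lie.Cen

open Cfsg Cfsg.Agent.Omega.Lie.CenTwo Cfsg.Agent.BabyM Cfsg.Agent.BabyM.Model Cfsg.Agent.BabyU.ClosLane

theorem cenTwo_b : CenTwo.CenTwo Inst.M.G :=
  have := A.finite_G
  cenTwo_of_large (KFacts.Baby.Inst.large A)

theorem b {X : Type*} [Group X] (h : Spor.IsoB X) : NoCenMove X := by
  obtain ⟨e⟩ := KFacts.Baby.RowB.exists_iso h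
  have := A.finite_G
  exact noCenMove_of_iso cenTwo_b ⟨e.symm⟩

end Cfsg.Agent.Omega.Lie.Cen

end

-- merged: Cfsg.Agent.Mrg.Omega.KFactsZSDone
section

/-!
# `(ZS)`: all the rows (collected by helper844)

`rowsZS : RowsZS` (without hypotheses), `zs_known`: a finite known simple group, not of prime order, is of Lie type in
characteristic 2, or has `NoCenMove`, or is `L₂(r)` (`r ≡ 3, 5 mod 8`, `r ≥ 11`), `J₁` or `²G₂(r)`; `zs_cover`: the same for
components.

Rows: `psl` helper584, `psp` helper155, `psu` helper138, `om*` helper676, `chev` `twisted` helper679, `tits` helper74,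
`m12 m22 m23 m24 j2 j3 co3 mcl hs he ly` helper484, `suz` helper415, `co1` helper856, `fi22 fi23 b` helper918, the others
from the sheets of the ODD half (helper844).
-/

set_option autoImplicit false

namespace Cfsg.Agent.Omega.KFacts

open Subgroup Cfsg Cfsg.Agent.Omega.Lie.CenTwo

universe u

/-- **The rows of `(ZS)`.** -/
theorem rowsZS : RowsZS.{u} where
  psl := zs_psl
  psp := zs_psp
  psu := zs_psu
  omOdd := zs_omOdd
  omPlus := zs_omPlus
  omMinus := zs_omMinus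
  chev := zs_chev
  twisted := zs_twisted
  tits := fun _ _ _ h => Lie.Cen.tits h
  m11 := fun _ _ _ h => Lie.Cen.Sheets.m11 h
  m12 := fun _ _ _ h => Lie.Cen.m12 h
  m22 := fun _ _ _ h => Lie.Cen.m22 h
  m23 := fun _ _ _ h => Lie.Cen.m23 h
  m24 := fun _ _ _ h => Lie.Cen.m24 h
  j2 := fun _ _ _ h => Lie.Cen.j2 h
  j3 := fun _ _ _ h => Lie.Cen.j3 h
  j4 := fun _ _ _ h => Lie.Cen.Sheets.j4 h
  co1 := fun _ _ _ h => Lie.Cen.co1 h
  co2 := fun _ _ _ h => Lie.Cen.Sheets.co2 h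
  co3 := fun _ _ _ h => Lie.Cen.co3 h
  mcl := fun _ _ _ h => Lie.Cen.mcL h
  hs := fun _ _ _ h => Lie.Cen.hs h
  suz := fun _ _ _ h => Lie.Cen.suz h
  he := fun _ _ _ h => Lie.Cen.he h
  ru := fun _ _ _ h => Lie.Cen.Sheets.ru h
  on := fun _ _ _ h => Lie.Cen.Sheets.on h
  ly := fun _ _ _ h => Lie.Cen.ly h
  fi22 := fun _ _ _ h => Lie.Cen.fi22 h
  fi23 := fun _ _ _ h => Lie.Cen.fi23 h
  fi24 := fun _ _ _ h => Lie.Cen.Sheets.fi24 h
  hn := fun _ _ _ h => Lie.Cen.Sheets.hn h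
  th := fun _ _ _ h => Lie.Cen.Sheets.th h
  b := fun _ _ _ h => Lie.Cen.b h
  m := fun _ _ _ h => Lie.Cen.Sheets.m h

/-- **(ZS)** for the known simple groups. -/
theorem zs_known {K : Type u} [Group K] [Finite K] (h : IsKnownSimple' K) (hc : ¬ IsPrimeCyclic K) :
    IsLieTypeChar 2 K ∨ NoCenMove K ∨ OutZS K := rowsZS.main h hc

end Cfsg.Agent.Omega.KFacts

end

-- merged: Cfsg.Agent.Mrg.Omega.Lie.KRowsPlug
section

section


/-!
# NODE LIE: the K-facts `LayerMain.KRows`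

`walterThm` (Walter's theorem, S0506), `oddOrd` (the odd order theorem, S0205), `kRows` : `KRows` from the table of the
outer automorphism groups (helper898, helper126).
-/

set_option autoImplicit false

namespace Cfsg.Agent.Omega.Lie.KRowsPlug

open Cfsg Cfsg.Agent.Omega.KFacts

universe u

/-- Walter's theorem (S0506), centraliser form. -/
theorem walterThm : InvFiveAll.WalterThm.{u} := fun L _ _ hs hna S hS =>
  Cfsg.Agent.Walter.Main.wType_of_step Cfsg.Agent.Walter.StepAll.step L hs hna S hS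

/-- The odd order theorem (S0205). -/
theorem oddOrd : LayerMain.OddOrd.{u} := fun _ _ _ h => Cfsg.Agent.S0205.result h

/-- **The K-facts of the component theorem of NODE LIE**, from the outer automorphism groups. -/
theorem kRows (out : ∀ (L : Type u) [Group L] [Finite L], IsLieTypeChar 2 L ∨ OutZS L → OutT.OutNil L) :
    LayerMain.KRows.{u} where
  zs := KFacts.rowsZS
  walter := walterThm
  odd := oddOrd
  out := out

end Cfsg.Agent.Omega.Lie.KRowsPlug

end

section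


/-!
# NODE LIE: the component theorem in `H = N(R i)/O₂(N(R i))`, over `BTC V R`

For a component `K ≤ H⁰` of `H`, `K / Z(K)` known, with `[K, A] ≠ 1`: `hyp`: `CompB.Hyp` holds and `K / Z(K)` is of Lie
type in characteristic 2.  `perf`: hence `IIa4.Perf`.
-/

set_option autoImplicit false
set_option linter.unusedSectionVars false

namespace Cfsg.Agent.Omega.Lie.LayerMain

open Subgroup Cfsg Cfsg.Agent.Omega.BTwo Cfsg.Agent.Omega.Lie Cfsg.Agent.Omega.Lie.Quot
open Cfsg.Agent.Omega.Lie.CompB Cfsg.Agent.Omega.Lie.CompT Cfsg.Agent.Omega.Lie.Layer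
open Cfsg.Agent.Omega.Lie.OutT Cfsg.Agent.Omega.Lie.InvFiveAll Cfsg.Agent.Omega.KFacts
open Cfsg.Agent.Transfer.FusionBasic

universe u v w

variable {G : Type u} [Group G] [Finite G] {ι : Type w} {V : Subgroup G} {R : ι → Subgroup G} {F : Type v} [Field F]
  [Finite F] [CharP F 2] {i j : ι} {vv : F → F → G} {t : F → G} {w1 w2 : F → G}

/-- (T2): the exceptional case is impossible. -/
theorem three_false (b : BTC V R) (c : Coord V R i j vv w1 w2) (τ : TorD V R i j vv t)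
    (hF : 4 ≤ Nat.card F) (S₁ : Sylow 2 G) (hV : (S₁ : Subgroup G) ≤ normalizer (V : Set G))
    (hR : (S₁ : Subgroup G) ≤ normalizer (R i : Set G)) {K : Subgroup (HQ (R i))} (hK : IsComponent K)
    (hK0 : K ≤ H0 R i) (h2 : 2 ∣ Nat.card K) (h3 : Three (AA V R i j) (TT τ) K (SS R i S₁ ⊓ K))
    (h5 : InvFive.InvFive K) : False := by
  have sit := ExoBT.sit b.toBT τ (CrdOf.crd c) S₁ c.ne hF hV hR
  have hO := pCore_HQ (R i)
  have hsyl := sit.sylK hK.1 hK0
  have hfM : Finite (CubQ.MM b.toBT i) := by unfold CubQ.MM; infer_instance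
  refine TwoMain.three_false (CubQ.cub b hF c τ) (CubQ.card_eV b.toBT c τ) sit.scal.sq hK.2 (fun z hz hc hz2 => ?_)
    (fun a ha x hx => (mem_normalizer_iff.1 (sit.A_le hO hK hK0 h2 ha) x).1 hx) sit.syl.isPGroup
    (fun Q hQK hQ2 hSQ => ?_) h3 h5
  · exact LQ.eq_one_of_sq_odd (ExoComp.Sit.zodd hO hK z hz hc) hz2
  · rw [hsyl.2.2 Q hSQ hQK hQ2]
    exact inf_le_left

/-- [O(H⁰), A] = 1 -/
theorem oddC (b : BTC V R) (c : Coord V R i j vv w1 w2) (τ : TorD V R i j vv t) (hF : 4 ≤ Nat.card F) :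
    OddC V R i j := by
  intro N hN hN0 hnil hodd x hx a ha
  have h1 : normalizer (N : Set (HQ (R i))) = ⊤ := Subgroup.normalizer_eq_top _
  have := hnil
  exact OddAll.centralizes b c τ hF hN0 hodd inferInstance (h1 ▸ le_top) (h1 ▸ le_top) x hx a ha

/-- **The components `K` with `[K, A] ≠ 1`**: `CompB.Hyp` (so `T` normalises `K`, `A` is inner on `K`), and `K / Z(K)` is
of Lie type in characteristic 2. -/
theorem hyp (KR : KRows.{u}) (b : BTC V R) (c : Coord V R i j vv w1 w2) (τ : TorD V R i j vv t)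
    (hF : 4 ≤ Nat.card F) (S₁ : Sylow 2 G) (hV : (S₁ : Subgroup G) ≤ normalizer (V : Set G))
    (hR : (S₁ : Subgroup G) ≤ normalizer (R i : Set G)) {K : Subgroup (HQ (R i))} (hK : IsComponent K)
    (hK0 : K ≤ H0 R i) (hk : IsKnownSimple' (K ⧸ center K)) (hne : ∃ a ∈ AA V R i j, ∃ k ∈ K, a * k ≠ k * a) :
    Hyp (SS R i S₁) (AA V R i j) (TT τ) K ∧ IsLieTypeChar 2 (K ⧸ center K) :=
  hyp_bt KR b.toBT (CrdOf.crd c) τ c.ne hF S₁ hV hR hK hK0 hk hne
    (fun h h5 => three_false b c τ hF S₁ hV hR hK hK0 (two_dvd KR.odd hK.2) h h5)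
    (fun h hZ => LQRows.false_of_outZS_real b hF c τ h hK.2 hne hZ)

end Cfsg.Agent.Omega.Lie.LayerMain

end

section


/-!
# NODE LIE, LAYER: `LayP` (`Node/LeafA4.lean`) from the K-facts `KRows`
-/

set_option autoImplicit false
set_option linter.unusedSectionVars false

namespace Cfsg.Agent.Omega.Lie.LayerSit

open Subgroup Cfsg Cfsg.Agent.ZN Cfsg.Agent.Omega.NatPair Cfsg.Agent.Omega.BTwo
open Cfsg.Agent.Omega.Frame Cfsg.Agent.Omega.FrameFF Cfsg.Agent.Omega.Lie Cfsg.Agent.Omega.Lie.Quot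
open Cfsg.Agent.Omega.IIa4 Cfsg.Agent.Omega.Lie.LayerMain

universe u

variable {G : Type u} [Group G] [Finite G] {S : Sylow 2 G} {P : Subgroup G} {g : G} {F : Type} [Field F]
  [Finite F] [CharP F 2] {M : NatMod F (zl (S : Subgroup G) P)}

theorem normalizer_ne_top (h : Sit S P g M) (i : Pt M) : normalizer (pt M i : Set G) ≠ ⊤ := by
  intro h1
  have hs := h.ctx.simple
  have h2 : (pt M i).Normal := normalizer_eq_top_iff.mp h1
  have h3 : pt M i = ⊤ := h2.eq_bot_or_eq_top.resolve_left (h.bt.R_ne i)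
  have h4 : zl (S : Subgroup G) P = ⊤ := top_le_iff.1 (h3 ▸ h.bt.R_le i)
  exact h.ctx.nonComm ⟨⟨fun a b => h.bt.V_comm a (h4 ▸ mem_top a) b (h4 ▸ mem_top b)⟩⟩

/-- the components of `N(R i)/O₂(N(R i))` are known -/
theorem known (h : Sit S P g M) (i : Pt M) (K : Subgroup (HQ (pt M i))) (hK : IsComponent K) :
    IsKnownSimple' (K ⧸ center K) :=
  LayerKnown.known h.ctx.kproper (normalizer_ne_top h i) hK.2

/-- **LAYER at every pair of points.** -/
theorem layAll (KR : KRows.{u}) (h : Sit S P g M) : LayAll (zl (S : Subgroup G) P) (pt M) F := by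
  intro i j hij v w1 w2 t c τ S₁ hV hR
  refine ⟨oddC h.btc c τ h.four, fun K hK => ?_, fun K hK => ?_⟩
  · exact (hyp KR h.btc c τ h.four S₁ hV hR hK.1 hK.2.1 (known h i K hK.1) hK.2.2).1
  · exact (hyp KR h.btc c τ h.four S₁ hV hR hK.1 hK.2.1 (known h i K hK.1) hK.2.2).2

/-- **LAYER**, the interface of `Node/LeafA4.lean`, for every class. -/
theorem layP {K : Cls.{u}} (KR : KRows.{u}) : LayP K := fun _ _ _ _ _ _ _ _ _ _ _ _ h => layAll KR h

end Cfsg.Agent.Omega.Lie.LayerSit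

end

section


/-!
# The leaf II.a, `q ≥ 4`: current state (assembler helper978)

`leafA4_main` : `LeafA4 K` from S1143, S1144, the K-facts `LayerMain.KRows`, `SEP K`, `LieBNP K`
(`Node/LeafA4.lean`); the parts `LayP` (helper287), `TIRP` (helper450) and `AllP` are plugged in.
-/

set_option autoImplicit false

namespace Cfsg.Agent.Omega.IIa4

open Cfsg.Agent.Omega.Frame Cfsg.Agent.Omega.FrameFF

universe u

theorem leafA4_main {K : Cls.{u}} (h43 : Exits.St1143.{u}) (h44 : Exits.St1144.{u})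
    (hK : Lie.LayerMain.KRows.{u}) (hse : SEP K) (hbn : LieBNP K) : LeafA4 K :=
  leafA4_of h43 h44 (Lie.LayerSit.layP hK) hse tirp hbn

end Cfsg.Agent.Omega.IIa4

end

section


/-!
# THEOREM D, LEMMA C, (L8) (bb OMEGA #15015, #15752) for the real module `M = W i / R i`

`FQ` = `FMod` together with the action of `H = HQ (R i) = N(R i)/O₂(N(R i))`.

* `FQ.bas` : `LemC.Bas` for `H⁰ = C(R i)/O₂`, `A = U j O₂/O₂`, `e₀ = p (v 0 1)`, `D̄ = D/R i`;
* `FQ.torB`, `FQ.tor` : the torus data `LemC.TorB`, `ThmD.Tor`;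
* `FQ.fix` : a component of `H⁰` centralised by `A` fixes `e₀`;
* `normal_of_lay` : the product of the moved components is normal in `H` ((L8)).
-/

set_option autoImplicit false
set_option linter.unusedSectionVars false

namespace Cfsg.Agent.Omega.Lie.BasOf

open Subgroup Cfsg Cfsg.Agent.Omega.BTwo Cfsg.Agent.Omega.Lie Cfsg.Agent.Omega.Lie.Quot Cfsg.Agent.Omega.IIa4

universe u v w

section

variable {G : Type u} [Group G] {ι : Type w} {V : Subgroup G} {R : ι → Subgroup G} {i j : ι}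
variable {F : Type v} [Field F] [CharP F 2] {v : F → F → G} {w1 w2 : F → G}
variable {M B : Type u} [AddCommGroup M] [AddCommGroup B] [DistribMulAction (NR R i) M]
  [DistribMulAction (NR R i) B] [Module F M] [DistribMulAction (HQ (R i)) M] {p : G → M} {r : G → B}
  {f : M →+ M →+ B} {φ : M →ₗ[F] M →ₗ[F] F} {s : NR R i → (F ≃+* F)}

/-- the `F`-space `M = W i / R i` with the action of `H = N(R i)/O₂(N(R i))` -/
structure FQ (V : Subgroup G) (R : ι → Subgroup G) (i j : ι) (v : F → F → G) (w1 w2 : F → G)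
    (M B : Type u) [AddCommGroup M] [AddCommGroup B] [DistribMulAction (NR R i) M]
    [DistribMulAction (NR R i) B] [Module F M] [DistribMulAction (HQ (R i)) M] (p : G → M) (r : G → B)
    (f : M →+ M →+ B) (φ : M →ₗ[F] M →ₗ[F] F) (s : NR R i → (F ≃+* F)) : Prop
    extends FMod V R i j v w1 w2 M B p r f φ s where
  pr_smul : ∀ (g : NR R i) (m : M), pr (R i) g • m = g • m

end

section

variable {G : Type u} [Group G] {ι : Type w} {V : Subgroup G} {R : ι → Subgroup G} {i j : ι}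
variable {F : Type v} [Field F] [CharP F 2] {v : F → F → G} {w1 w2 : F → G}

/-- **existence of `FQ`** -/
theorem exists_FQ {M B : Type u} [AddCommGroup M] [AddCommGroup B] [DistribMulAction (NR R i) M]
    [DistribMulAction (NR R i) B] [Module F M] {p : G → M} {r : G → B}
    {f : M →+ M →+ B} {φ : M →ₗ[F] M →ₗ[F] F} {s : NR R i → (F ≃+* F)}
    (h : FMod V R i j v w1 w2 M B p r f φ s) :
    ∃ _ : DistribMulAction (HQ (R i)) M, FQ V R i j v w1 w2 M B p r f φ s := by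
  obtain ⟨act, hact⟩ := exists_quot_action (M := M) (pCore 2 ↥(normalizer (R i : Set G))) (by
    intro k hk a
    exact h.fr.Q_act h.bt (h := k) ⟨k, hk, rfl⟩ a)
  exact ⟨act, { h with pr_smul := hact }⟩

/-- the torus in `H` -/
noncomputable def tq {t : F → G} (τ : TorD V R i j v t) (a : F) : HQ (R i) :=
  open Classical in if ha : a ≠ 0 then pr (R i) (tT τ (Units.mk0 a ha)) else 1

theorem tq_of {t : F → G} (τ : TorD V R i j v t) {a : F} (ha : a ≠ 0) :
    tq τ a = pr (R i) (tT τ (Units.mk0 a ha)) := by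
  unfold tq
  rw [dif_pos ha]

theorem tq_eq {t : F → G} (τ : TorD V R i j v t) {a : F} (ha : a ≠ 0) :
    tq τ a = pr (R i) ⟨t a, τ.normR ha⟩ := tq_of τ ha

theorem tq_mem {t : F → G} (τ : TorD V R i j v t) {a : F} (ha : a ≠ 0) : tq τ a ∈ TT τ := by
  rw [mem_TT τ]
  exact ⟨a, ha, (tq_eq τ ha).symm⟩

end

namespace FQ

variable {G : Type u} [Group G] {ι : Type w} {V : Subgroup G} {R : ι → Subgroup G} {i j : ι}
variable {F : Type v} [Field F] [CharP F 2] {v : F → F → G} {w1 w2 : F → G}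
variable {M B : Type u} [AddCommGroup M] [AddCommGroup B] [DistribMulAction (NR R i) M]
  [DistribMulAction (NR R i) B] [Module F M] [DistribMulAction (HQ (R i)) M] {p : G → M} {r : G → B}
  {f : M →+ M →+ B} {φ : M →ₗ[F] M →ₗ[F] F} {s : NR R i → (F ≃+* F)}
variable (h : FQ V R i j v w1 w2 M B p r f φ s)
include h

theorem exists_A {a : HQ (R i)} (ha : a ∈ AA V R i j) : ∃ g : NR R i, (g : G) ∈ UU V R j ∧ pr (R i) g = a := by
  obtain ⟨u, hu, rfl⟩ := (mem_AA h.bt).1 ha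
  exact ⟨⟨u, U_le_N h.bt i j hu⟩, hu, rfl⟩

theorem lin_H0 {g : HQ (R i)} (hg : g ∈ H0 R i) (c : F) (x : M) : g • c • x = c • g • x := by
  obtain ⟨g, hg', rfl⟩ := ModQ.exists_H0 hg
  rw [h.pr_smul, h.pr_smul, h.lin_cen hg']

theorem phi_H0 {g : HQ (R i)} (hg : g ∈ H0 R i) (x y : M) : φ (g • x) (g • y) = φ x y := by
  obtain ⟨g, hg', rfl⟩ := ModQ.exists_H0 hg
  rw [h.pr_smul, h.pr_smul, h.phi_cen hg']

theorem normal_H0 : (H0 R i).Normal := by
  have _ := h
  have h1 : ((centralizer (R i : Set G)).subgroupOf (normalizer (R i : Set G))).Normal := by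
    refine ⟨fun x hx g => ?_⟩
    rw [mem_subgroupOf, mem_centralizer_iff] at hx ⊢
    intro z hz
    have h2 : (g : G)⁻¹ * z * g ∈ R i := conj_inv_mem_of_normalizer g.2 hz
    have h3 := hx _ h2
    change z * ((g : G) * x * (g : G)⁻¹) = (g : G) * x * (g : G)⁻¹ * z
    calc z * ((g : G) * x * (g : G)⁻¹) = g * ((g : G)⁻¹ * z * g * x) * (g : G)⁻¹ := by group
      _ = g * (x * ((g : G)⁻¹ * z * g)) * (g : G)⁻¹ := by rw [h3]
      _ = (g : G) * x * (g : G)⁻¹ * z := by group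
  exact h1.map (pr (R i)) (pr_surjective (R i))

theorem ne_zero_of_map (g : NR R i) {c : F} (hc : c ≠ 0) : s g c ≠ 0 := by
  have _ := h
  exact (map_ne_zero_iff _ (s g).injective).2 hc

theorem sg_zero (g : NR R i) : h.fr.sg h.co h.bt g 0 = 0 := h.fr.sg_zero h.co h.bt g

/-- a line normalised: `h` normalises `V` -/
theorem mem_NV [Finite G] {n : NR R i} {c : F} (hc : pr (R i) n • p (v 0 1) = c • p (v 0 1)) :
    (n : G) ∈ normalizer (V : Set G) := by
  have hVW := V_le_WW V (R i)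
  refine mem_normalizer_of_conj fun z hz => ?_
  have h1 : p z ∈ h.fr.sb V := h.fr.p_mem (hVW hz) hz
  obtain ⟨γ, hγ⟩ := h.mem_V.1 h1
  have h2 : n • p z ∈ h.fr.sb V := by
    rw [← hγ, h.semi, ← h.pr_smul, hc, smul_smul]
    exact h.mem_V.2 ⟨_, rfl⟩
  rw [h.fr.p_act n z (hVW hz)] at h2
  exact (h.fr.p_mem_iff (conj_mem_of_normalizer (normalizer_le_WW V (R i) n.2) (hVW hz)) (h.bt.R_le i)).1 h2

theorem line_of_NV {n : NR R i} (hn : (n : G) ∈ normalizer (V : Set G)) :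
    ∃ c : F, pr (R i) n • p (v 0 1) = c • p (v 0 1) := by
  have h1 : n • p (v 0 1) ∈ h.fr.sb V := h.fr.sb_smul hn (h.mem_V.2 ⟨1, one_smul _ _⟩)
  obtain ⟨c, hc⟩ := h.mem_V.1 h1
  exact ⟨c, by rw [h.pr_smul, hc]⟩

section eig

variable [Finite G] [Finite F] {t : F → G} (τ : TorD V R i j v t) {N : Type u}
  [AddCommGroup N] [Module F N] {P1 P2 : G → N} (y : YPair V R i j w1 w2 N P1 P2)

/-- `D̄` as a subspace -/
def D : Submodule F M where
  carrier := h.fr.sb (DD V R)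
  zero_mem' := zero_mem _
  add_mem' := fun ha hb => add_mem ha hb
  smul_mem' := fun c _ hx => h.D_smul τ y hx c

theorem mem_D' (x : M) : x ∈ h.D τ y ↔ x ∈ h.fr.sb (DD V R) := Iff.rfl

theorem notU {x : M} (hx : φ x (p (v 0 1)) ≠ 0) : x ∉ h.fr.sb (UU V R i) := fun h1 => hx (h.mem_U.1 h1)

/-- **the module data** -/
theorem bas : LemC.Bas (H0 R i) (AA V R i j) (p (v 0 1)) (h.D τ y) φ where
  normal := h.normal_H0
  A_le := ModQ.A_le_H0 h.bt j
  lin := fun g hg => h.lin_H0 hg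
  semi := fun g => by
    obtain ⟨g, rfl⟩ := pr_surjective (R i) g
    exact ⟨s g, fun c hc => h.ne_zero_of_map g hc, fun c x => by rw [h.pr_smul, h.pr_smul, h.semi]⟩
  refl := fun x z e => by rw [h.phi_symm]; exact e
  nd := ⟨fun x hx => h.ext (a' := 0) fun z => by rw [hx, map_zero, LinearMap.zero_apply],
    fun x hx => h.ext (a' := 0) fun z => by rw [h.phi_symm, hx, map_zero, LinearMap.zero_apply]⟩
  BE := fun g hg x z => h.phi_H0 hg x z
  BH := fun g x z e => by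
    obtain ⟨g, rfl⟩ := pr_surjective (R i) g
    rw [h.pr_smul, h.pr_smul, h.phi_act, e, h.sg_zero]
  ne := h.e_ne
  A2 := fun a ha x hx => by
    obtain ⟨a, ha', rfl⟩ := h.exists_A ha
    rw [h.pr_smul]
    exact h.fr.A_U h.bt ha' (h.mem_U.2 hx)
  A3 := fun a ha x hx => by
    obtain ⟨a, ha', rfl⟩ := h.exists_A ha
    rw [h.pr_smul, Submodule.mem_span_singleton]
    exact h.mem_V.1 (h.fr.A_D h.bt ha' hx)
  A4 := fun a ha => by
    obtain ⟨a, ha', rfl⟩ := h.exists_A ha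
    rw [h.pr_smul]
    exact h.fr.cen_e h.bt (UU_le_cen j ha') (h.mem_V.2 ⟨1, one_smul _ _⟩)
  ker0 := fun x hx hA => by
    rw [Submodule.mem_span_singleton]
    refine h.mem_V.1 (h.fr.C_A_D h.btc h.co.ne hx fun a ha => ?_)
    have := hA (pr (R i) a) ((mem_AA h.bt).2 ⟨a, ha, rfl⟩)
    rwa [h.pr_smul] at this
  inj := fun m hm a ha hD => by
    obtain ⟨a, ha', rfl⟩ := h.exists_A ha
    rw [h.pr_smul] at hD
    have h1 := h.fr.A_inj h.bt h.co.ne ha' (h.notU hm) hD
    exact (pr_eq_one a.2).2 ((U_inf_Q h.bt h.co.ne ha').2 h1)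
  surj := fun m hm x hx => by
    obtain ⟨a, ha, hD⟩ := h.fr.A_surj h.bt h.co.ne (h.notU hm) (h.mem_U.2 hx)
    refine ⟨pr (R i) a, (mem_AA h.bt).2 ⟨a, ha, rfl⟩, ?_⟩
    rw [h.pr_smul, h.mem_D']
    have h1 := neg_mem hD
    have e : -(a • m - m - x) = x - (a • m - m) := by abel
    rwa [e] at h1
  span := fun L hL => by
    let L₀ : AddSubgroup M := AddSubgroup.closure {x | ∃ g : HQ (R i), ∃ c : F, x = c • g • p (v 0 1)}
    have h1 : L₀ = ⊤ := by
      apply h.fr.gen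
      · intro g x hx
        induction hx using AddSubgroup.closure_induction with
        | mem x hx =>
          obtain ⟨k, c, rfl⟩ := hx
          refine AddSubgroup.subset_closure ⟨pr (R i) g * k, s g c, ?_⟩
          rw [h.semi, mul_smul, h.pr_smul]
        | zero => rw [smul_zero]; exact zero_mem _
        | add x z _ _ hx hz => rw [smul_add]; exact add_mem hx hz
        | neg x _ hx => rw [smul_neg]; exact neg_mem hx
      · intro x hx
        obtain ⟨γ, rfl⟩ := h.mem_V.1 hx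
        exact AddSubgroup.subset_closure ⟨1, γ, by rw [one_smul]⟩
    have h2 : L₀ ≤ L.toAddSubgroup := by
      rw [AddSubgroup.closure_le]
      rintro _ ⟨g, c, rfl⟩
      exact L.smul_mem c (hL g)
    rw [eq_top_iff]
    intro x _
    exact h2 (h1 ▸ AddSubgroup.mem_top x)

end eig

section torus

variable [Finite G] [Finite F] {t : F → G} {τ : TorD V R i j v t} {N : Type u}
  [AddCommGroup N] [Module F N] {P1 P2 : G → N} {y : YPair V R i j w1 w2 N P1 P2} {n : N →ₗ[F] M}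
  {sf : N →ₗ[F] N →ₗ[F] M} {q : N → N →ₗ[F] F} (E : Eig h.toFMod τ y n sf q)
include E

/-- the torus on `e^⊥` -/
theorem T_perp (a : Fˣ) {x : M} (hx : φ x (p (v 0 1)) = 0) : tT τ a • x - (a : F) • x ∈ h.fr.sb (DD V R) := by
  obtain ⟨γ, d, hd, g, rfl⟩ := (E.mem_U x).1 hx
  have h1 : tT τ a • (γ • p (v 0 1) + d + n g) - (a : F) • (γ • p (v 0 1) + d + n g) =
      (γ * (a : F)⁻¹ - a * γ) • p (v 0 1) + ((1 : F) - a) • d := by
    rw [smul_add, smul_add, h.T_smul_e τ, hd a, E.n_mem g a, smul_add, smul_add, smul_smul, sub_smul, sub_smul,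
      one_smul]
    abel
  rw [h1]
  exact (E.mem_D _).2 ⟨_, _, (h.M0 τ).smul_mem _ hd, rfl⟩

/-- **the torus data of LEMMA C** -/
theorem torB : LemC.TorB (AA V R i j) (tq τ) (p (v 0 1)) (h.D τ y) φ where
  lin := fun a ha c x => by rw [tq_of τ ha, h.pr_smul, h.pr_smul, h.T_lin τ]
  e := fun a ha => by rw [tq_of τ ha, h.pr_smul, h.T_e τ]; rfl
  P := fun a ha x hx => by
    rw [tq_of τ ha, h.pr_smul]
    exact h.T_perp E (Units.mk0 a ha) hx
  D := fun a ha x hx => by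
    rw [tq_of τ ha, h.pr_smul, Submodule.mem_span_singleton]
    exact h.mem_V.1 (h.fr.X_D h.bt (h := tT τ (Units.mk0 a ha)) (τ.memX a ha) hx)
  form := fun a ha x z => by
    rw [tq_of τ ha, h.pr_smul, h.pr_smul, h.phi_T τ]; rfl
  norm := fun a ha => by
    have h1 : ∀ x ∈ TT τ, ∀ a ∈ AA V R i j, x * a * x⁻¹ ∈ AA V R i j := fun x hx a ha => TA_mem h.bt τ hx ha
    exact mem_normalizer_of_conj fun x hx => h1 _ (tq_mem τ ha) x hx

end torus

section sylow

variable [Finite G] [Finite F] {t : F → G} (τ : TorD V R i j v t) {N : Type u}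
  [AddCommGroup N] [Module F N] {P1 P2 : G → N} (y : YPair V R i j w1 w2 N P1 P2)

include y in
/-- the torus under `N(V) ∩ N(R i)` -/
theorem conj_tq {n : NR R i} (hn : (n : G) ∈ normalizer (V : Set G)) {a : F} (ha : a ≠ 0) :
    ∃ b, b ≠ 0 ∧ ∃ a' ∈ AA V R i j, pr (R i) n * tq τ a * (pr (R i) n)⁻¹ = tq τ b * a' := by
  have b := h.bt
  have c := h.co
  obtain ⟨M', _, _, p1, p2, y'⟩ := c.exists_yMod b
  obtain ⟨x, hx⟩ : ∃ x, x = (n : G) * t a * (n : G)⁻¹ := ⟨_, rfl⟩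
  have hxX : x ∈ XX V R := by
    rw [hx]
    exact conj_mem_of_normalizer (b.NV_le_NX hn) (τ.memX a ha)
  have hxR : x ∈ normalizer (R i : Set G) := by
    rw [hx]
    exact mul_mem (mul_mem n.2 (τ.normR ha)) (inv_mem n.2)
  obtain ⟨k, hk⟩ := b.perm x (b.X_le_NV hxX) j
  have hki : k ≠ i := by
    rintro rfl
    exact c.ne (b.R_index (cj_injective ((cj_eq_self_iff.2 hxR).trans hk.symm)))
  obtain ⟨w, hw, ew⟩ := b.trans i hki c.ne.symm
  have hX' : w * x ∈ XX V R := mul_mem (W_le_X V R i hw) hxX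
  have hR' : w * x ∈ normalizer (R i : Set G) := mul_mem (b.W_le_N i hw) hxR
  have hj' : w * x ∈ normalizer (R j : Set G) := by
    rw [← cj_eq_self_iff, cj_mul, hk, ew]
  obtain ⟨β, hβ, hact, -, -⟩ := SQEnd.Tor.exists_tor y' b c hX' hR' hj'
  have hY : (t β)⁻¹ * (w * x) ∈ YY V R := by
    rw [← y.cen_X_V c h.btc, mem_inf]
    refine ⟨mul_mem (inv_mem (τ.memX β hβ)) hX', ?_⟩
    rw [mem_centralizer_iff]
    intro z hz
    obtain ⟨e, f, rfl⟩ := (c.mem_V z).1 hz
    have h1 := τ.act β e f hβ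
    have h2 := hact e f
    calc v e f * ((t β)⁻¹ * (w * x))
        = (t β)⁻¹ * (t β * v e f * (t β)⁻¹) * (w * x) := by group
      _ = (t β)⁻¹ * (w * x * v e f * (w * x)⁻¹) * (w * x) := by rw [h1, h2]
      _ = (t β)⁻¹ * (w * x) * v e f := by group
  obtain ⟨u1, hu1, u2, hu2, e⟩ := b.exists_mul_Y c.ne hY
  have hu1N : u1 ∈ normalizer (R i : Set G) := b.W_le_N i (UU_le_WW i hu1)
  have hu2N : u2 ∈ normalizer (R i : Set G) := U_le_N b i j hu2
  have hwN : w ∈ normalizer (R i : Set G) := b.W_le_N i hw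
  refine ⟨β, hβ, pr (R i) ⟨u2, hu2N⟩, (mem_AA b).2 ⟨u2, hu2, rfl⟩, ?_⟩
  have e1 : pr (R i) ⟨w, hwN⟩ = 1 := (pr_eq_one hwN).2 (b.W_le_Q i hw)
  have e2 : pr (R i) ⟨u1, hu1N⟩ = 1 := (pr_eq_one hu1N).2 (b.W_le_Q i (UU_le_WW i hu1))
  have e3 : (⟨w, hwN⟩ : NR R i) * (n * ⟨t a, τ.normR ha⟩ * n⁻¹) =
      ⟨t β, τ.normR hβ⟩ * (⟨u1, hu1N⟩ * ⟨u2, hu2N⟩) := by
    apply Subtype.ext
    change w * ((n : G) * t a * (n : G)⁻¹) = t β * (u1 * u2)
    rw [← hx, ← e, mul_inv_cancel_left]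
  have e4 := congrArg (pr (R i)) e3
  rw [map_mul, map_mul, map_mul, map_mul, map_mul, map_inv, e1, e2, one_mul, one_mul] at e4
  rw [tq_eq τ ha, tq_eq τ hβ]
  exact e4

/-- `SS = S ∩ H⁰` -/
theorem SS_eq (S₁ : Sylow 2 G) (hR : (S₁ : Subgroup G) ≤ normalizer (R i : Set G)) :
    SS R i S₁ = im (R i) S₁ ⊓ H0 R i :=
  im_inf (QQ_le_sylow S₁ hR) (Q_le_C h.bt i)

/-- a 2-element of `H⁰` normalising the line of `e₀` fixes `e₀` -/
theorem fix_of_two {g : HQ (R i)} (hg : g ∈ H0 R i) {k : ℕ} (hk : g ^ 2 ^ k = 1) {c : F}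
    (hc : g • p (v 0 1) = c • p (v 0 1)) : g • p (v 0 1) = p (v 0 1) := by
  have h3 : ∀ m : ℕ, g ^ m • p (v 0 1) = c ^ m • p (v 0 1) := by
    intro m
    induction m with
    | zero => rw [pow_zero, pow_zero, one_smul, one_smul]
    | succ m ih => rw [pow_succ', mul_smul, ih, h.lin_H0 hg, hc, smul_smul, pow_succ]
  have h4 := h3 (2 ^ k)
  rw [hk, one_smul] at h4
  have h5 : c ^ 2 ^ k = 1 := by
    have h6 : (c ^ 2 ^ k - 1) • p (v 0 1) = 0 := by rw [sub_smul, one_smul, ← h4, sub_self]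
    exact sub_eq_zero.1 (h.e_smul_eq_zero h6)
  have h6 : (c - 1) ^ 2 ^ k = 0 := by rw [sub_pow_char_pow, h5, one_pow, sub_self]
  have h7 : c = 1 := sub_eq_zero.1 (pow_eq_zero_iff (by positivity) |>.1 h6)
  rw [hc, h7, one_smul]

end sylow

section tor

variable [Finite G] [Finite F] {t : F → G} {τ : TorD V R i j v t} {N : Type u}
  [AddCommGroup N] [Module F N] {P1 P2 : G → N} {y : YPair V R i j w1 w2 N P1 P2} {n : N →ₗ[F] M}
  {sf : N →ₗ[F] N →ₗ[F] M} {q : N → N →ₗ[F] F} (E : Eig h.toFMod τ y n sf q)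
include E

/-- **the torus data of THEOREM D** -/
theorem tor (S₁ : Sylow 2 G) (hV : (S₁ : Subgroup G) ≤ normalizer (V : Set G))
    (hR : (S₁ : Subgroup G) ≤ normalizer (R i : Set G)) {S : Sylow 2 (HQ (R i))}
    (hS : (S : Subgroup (HQ (R i))) = im (R i) S₁) {K : Subgroup (HQ (R i))} (hK : K.Normal) (hK0 : K ≤ H0 R i) :
    ThmD.Tor (S : Subgroup (HQ (R i))) K (AA V R i j) (tq τ) (p (v 0 1)) (h.D τ y) φ := by
  have hSK : ((S : Subgroup (HQ (R i))) ⊓ K) = SS R i S₁ ⊓ K := by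
    rw [h.SS_eq S₁ hR, hS, inf_assoc, inf_eq_right.2 hK0]
  have B := h.torB E
  have hline : ∀ s ∈ (S : Subgroup (HQ (R i))), ∃ c : F, s • p (v 0 1) = c • p (v 0 1) := by
    intro s hs
    rw [hS] at hs
    obtain ⟨g, hg, hgS, rfl⟩ := mem_im.1 hs
    exact h.line_of_NV (n := ⟨g, hg⟩) (hV hgS)
  exact
    { lin := B.lin
      norm := fun a ha => by
        rw [hSK]
        refine mem_normalizer_of_conj fun x hx => ?_
        exact mem_inf.2 ⟨TS_mem h.bt τ (CrdOf.crd h.co) S₁ hV hR (tq_mem τ ha) hx.1, hK.conj_mem x hx.2 _⟩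
      e := B.e
      P := B.P
      comm := fun a b ha hb => T_comm τ (tq_mem τ ha) (tq_mem τ hb)
      N := fun g hg a ha => by
        obtain ⟨g, rfl⟩ := pr_surjective (R i) g
        obtain ⟨c, hc⟩ := hg
        exact h.conj_tq τ y (h.mem_NV hc) ha
      Se := hline
      SEe := fun s hs => by
        obtain ⟨c, hc⟩ := hline s hs.1
        obtain ⟨k, hk⟩ := S.isPGroup' ⟨s, hs.1⟩
        exact h.fix_of_two (hK0 hs.2) (congrArg Subtype.val hk) hc
      AS := by
        refine (A_le_S h.bt S₁ i j hV).trans ?_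
        rw [h.SS_eq S₁ hR, hS]
        exact inf_le_left }

end tor

section lay

variable [Finite G] [Finite F] {t : F → G} {τ : TorD V R i j v t} {N : Type u}
  [AddCommGroup N] [Module F N] {P1 P2 : G → N} {y : YPair V R i j w1 w2 N P1 P2} {n : N →ₗ[F] M}
  {sf : N →ₗ[F] N →ₗ[F] M} {q : N → N →ₗ[F] F} (E : Eig h.toFMod τ y n sf q)
  (S₁ : Sylow 2 G) (hV : (S₁ : Subgroup G) ≤ normalizer (V : Set G))
  (hR : (S₁ : Subgroup G) ≤ normalizer (R i : Set G))
include E hV hR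

/-- **LEMMA C** for components: a component `K ≤ H⁰` of even order centralised by `A ≠ 1` fixes `e₀` -/
theorem fix_comp (hA1 : ∃ a ∈ AA V R i j, a ≠ 1) {K : Subgroup (HQ (R i))} (hK : IsComponent K)
    (hK0 : K ≤ H0 R i) (h2 : 2 ∣ Nat.card K) (hc : ∀ k ∈ K, ∀ a ∈ AA V R i j, a * k = k * a) :
    ∀ k ∈ K, k • p (v 0 1) = p (v 0 1) := by
  have b := h.bt
  have C := CrdOf.crd h.co
  refine (h.bas τ y).fixes (h.torB E) h.four hK0 hc hA1 (S' := SS R i S₁ ⊓ K) inf_le_right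
    ((S_isPGroup S₁).to_le inf_le_left) ?_ ?_
  · intro a ha x hx
    exact ST_mem b τ C S₁ h.co.ne hV hR (tq_mem τ ha) hx.1
  · intro L hLK hL hSL
    have hn : (L.subgroupOf K).Normal := by
      refine ⟨fun x hx g => ?_⟩
      exact mem_subgroupOf.2 (hL g g.2 x (mem_subgroupOf.1 hx))
    rcases SignalizersComponents.Components.quasisimple_normal hK.2 _ hn with h1 | h1
    · intro x hx
      have h2 : (⟨x, hx⟩ : K) ∈ L.subgroupOf K := by rw [h1]; trivial
      exact mem_subgroupOf.1 h2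
    · exfalso
      apply S_inf_ne_bot b τ C S₁ hR hK hK0 h2
      rw [eq_bot_iff]
      intro x hx
      rw [mem_bot]
      refine S_inf_cen b τ C S₁ hK hx fun z hz => ?_
      have h3 : (⟨x, hx.2⟩ : K) ∈ center K := h1 (mem_subgroupOf.2 (hSL hx))
      exact (congrArg Subtype.val (mem_center_iff.1 h3 ⟨z, hz⟩)).symm

/-- **(L8)**: the moved components are permuted by `H` -/
theorem mcomp_conj (l : Lay V R i j (TT τ) (SS R i S₁)) (g : HQ (R i)) {K : Subgroup (HQ (R i))}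
    (hK : MComp V R i j K) : MComp V R i j (K.map (MulAut.conj g).toMonoidHom) := by
  have b := h.bt
  have hne : ∀ K : Subgroup (HQ (R i)), MComp V R i j K → ∃ a ∈ AA V R i j, a ∈ K ∧ a ≠ 1 := by
    intro K hK
    obtain ⟨x, hx⟩ := ne_bot_iff_exists_ne_one.1 ((l.hyp K hK).inf_ne_bot hK.2.2)
    exact ⟨x, x.2.1, x.2.2, fun h0 => hx (Subtype.ext h0)⟩
  have hself : ∀ (g : HQ (R i)) (K : Subgroup (HQ (R i))), (∀ x ∈ K, g * x * g⁻¹ ∈ K) →
      (∀ x ∈ K, g⁻¹ * x * g ∈ K) → K.map (MulAut.conj g).toMonoidHom = K := by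
    intro g K h1 h2
    apply le_antisymm
    · rintro _ ⟨x, hx, rfl⟩
      exact h1 x hx
    · intro x hx
      refine ⟨g⁻¹ * x * g, h2 x hx, ?_⟩
      change g * (g⁻¹ * x * g) * g⁻¹ = x
      group
  refine (h.bas τ y).stable (h.torB E) h.four (Λ := {K | MComp V R i j K}) hne ?_ ?_ ?_ g K hK
  · intro g K hK
    have hc : IsComponent (K.map (MulAut.conj g).toMonoidHom) :=
      SignalizersComponents.Components.isComponent_conj g hK.1
    have h0 : K.map (MulAut.conj g).toMonoidHom ≤ H0 R i := by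
      rintro _ ⟨x, hx, rfl⟩
      exact h.normal_H0.conj_mem x (hK.2.1 hx) g
    by_cases hm : ∃ a ∈ AA V R i j, ∃ k ∈ K.map (MulAut.conj g).toMonoidHom, a * k ≠ k * a
    · exact Or.inl ⟨hc, h0, hm⟩
    · right
      push Not at hm
      obtain ⟨a, ha, haK, ha1⟩ := hne K hK
      have h2 : 2 ∣ Nat.card K := by
        have h3 : orderOf (⟨a, haK⟩ : K) = 2 := by
          refine orderOf_eq_prime ?_ fun h4 => ha1 (congrArg Subtype.val h4)
          rw [pow_two]
          exact Subtype.ext (A_sq b h.co.ne ha)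
        have h4 := _root_.orderOf_dvd_natCard (⟨a, haK⟩ : K)
        rwa [h3] at h4
      have h3 : Nat.card (K.map (MulAut.conj g).toMonoidHom) = Nat.card K :=
        Nat.card_congr (K.equivMapOfInjective _ (MulAut.conj g).injective).symm.toEquiv
      intro k hk
      exact h.fix_comp E S₁ hV hR ⟨a, ha, ha1⟩ hc h0 (h3 ▸ h2) (fun k hk a ha => hm a ha k hk) _
        ⟨k, hk, rfl⟩
  · intro a ha K hK
    have h1 := (l.hyp K hK).AK
    have h2 : K.map (MulAut.conj a).toMonoidHom = K :=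
      hself a K (h1 a ha) fun x hx => by
        have := h1 a⁻¹ (inv_mem ha) x hx
        rwa [inv_inv] at this
    rw [h2]
    exact hK
  · intro a ha K hK
    have h1 := (l.hyp K hK).TK
    have ht := tq_mem τ ha
    refine ⟨?_, ?_⟩
    · rw [hself (tq τ a) K (h1 _ ht) fun x hx => by
        have := h1 _ (inv_mem ht) x hx
        rwa [inv_inv] at this]
      exact hK
    · rw [hself (tq τ a)⁻¹ K (h1 _ (inv_mem ht)) fun x hx => by
        rw [inv_inv]
        exact h1 _ ht x hx]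
      exact hK

omit E in
omit h hV hR in
/-- `1 ≠ A ∩ K` for the moved components -/
theorem _root_.Cfsg.Agent.Omega.Lie.BasOf.exists_inf {T S : Subgroup (HQ (R i))} (l : Lay V R i j T S) {K : Subgroup (HQ (R i))}
    (hK : MComp V R i j K) : ∃ a ∈ AA V R i j, a ∈ K ∧ a ≠ 1 := by
  obtain ⟨x, hx⟩ := ne_bot_iff_exists_ne_one.1 ((l.hyp K hK).inf_ne_bot hK.2.2)
  exact ⟨x, x.2.1, x.2.2, fun h0 => hx (Subtype.ext h0)⟩

/-- **(L8)**: the product `E` of the moved components is normal -/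
theorem normal_EE (l : Lay V R i j (TT τ) (SS R i S₁)) :
    (⨆ K ∈ {K : Subgroup (HQ (R i)) | MComp V R i j K}, K).Normal := by
  refine ⟨fun x hx g => ?_⟩
  have h1 : (⨆ K ∈ {K : Subgroup (HQ (R i)) | MComp V R i j K}, K) ≤
      (⨆ K ∈ {K : Subgroup (HQ (R i)) | MComp V R i j K}, K).comap (MulAut.conj g).toMonoidHom := by
    refine iSup₂_le fun K hK => ?_
    rw [← map_le_iff_le_comap]
    exact le_iSup₂ (f := fun (K : Subgroup (HQ (R i))) (_ : K ∈ {K : Subgroup (HQ (R i)) | MComp V R i j K}) => K)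
      _ (h.mcomp_conj E S₁ hV hR l g hK)
  exact h1 hx

end lay

section thmD

variable [Finite G] [Finite F] {t : F → G} {τ : TorD V R i j v t} {N : Type u}
  [AddCommGroup N] [Module F N] {P1 P2 : G → N} {y : YPair V R i j w1 w2 N P1 P2} {n : N →ₗ[F] M}
  {sf : N →ₗ[F] N →ₗ[F] M} {q : N → N →ₗ[F] F} (E : Eig h.toFMod τ y n sf q)
  (S₁ : Sylow 2 G) (hV : (S₁ : Subgroup G) ≤ normalizer (V : Set G))
  (hR : (S₁ : Subgroup G) ≤ normalizer (R i : Set G)) (l : Lay V R i j (TT τ) (SS R i S₁))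
include E hV hR l

/-- the data of THEOREM D -/
theorem dat (hA1 : ∃ a ∈ AA V R i j, a ≠ 1) :
    ThmD.Dat (⨆ K ∈ {K : Subgroup (HQ (R i)) | MComp V R i j K}, K) (AA V R i j) (p (v 0 1)) (h.D τ y) φ := by
  refine (h.bas τ y).dat (h.normal_EE E S₁ hV hR l) (iSup₂_le fun K hK => hK.2.1) ?_ hA1 ?_
  · exact (l.A_le h.bt h.co.ne).trans (iSup₂_mono fun K _ => inf_le_right)
  · intro L hAL hL
    refine iSup₂_le fun K hK => ?_
    have hKE : K ≤ ⨆ K ∈ {K : Subgroup (HQ (R i)) | MComp V R i j K}, K :=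
      le_iSup₂ (f := fun (K : Subgroup (HQ (R i))) (_ : K ∈ {K : Subgroup (HQ (R i)) | MComp V R i j K}) => K) K hK
    have hn : ((L ⊓ K).subgroupOf K).Normal := by
      refine ⟨fun x hx g => ?_⟩
      exact mem_subgroupOf.2 ⟨hL g (hKE g.2) x (mem_subgroupOf.1 hx).1, K.mul_mem (K.mul_mem g.2 x.2) (K.inv_mem g.2)⟩
    rcases SignalizersComponents.Components.quasisimple_normal hK.1.2 _ hn with h1 | h1
    · intro x hx
      have h2 : (⟨x, hx⟩ : K) ∈ (L ⊓ K).subgroupOf K := by rw [h1]; trivial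
      exact (mem_subgroupOf.1 h2).1
    · exfalso
      obtain ⟨a, ha, haK, ha1⟩ := exists_inf l hK
      apply ha1
      refine center_eq_one (pCore_HQ (R i)) hK.1 haK (fun z hz => ?_) (A_sq h.bt h.co.ne ha)
      have h2 : (⟨a, haK⟩ : K) ∈ center K := h1 (mem_subgroupOf.2 ⟨hAL ha, haK⟩)
      exact (congrArg Subtype.val (mem_center_iff.1 h2 ⟨z, hz⟩)).symm

omit E hV hR l in
theorem finite_M : Finite M :=
  Finite.of_surjective (fun x : WW V (R i) => p x) fun a => by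
    obtain ⟨x, hx, rfl⟩ := h.fr.p_surj a
    exact ⟨⟨x, hx⟩, rfl⟩

end thmD

end FQ

/-- **(L8)** from the structures: the product of the moved components is normal in `H` -/
theorem normal_of_lay {G : Type u} [Group G] [Finite G] {ι : Type w} {V : Subgroup G} {R : ι → Subgroup G} {i j : ι}
    {F : Type v} [Field F] [Finite F] [CharP F 2] {v : F → F → G} {w1 w2 : F → G} {t : F → G} (b : BTC V R)
    (c : Coord V R i j v w1 w2) (τ : TorD V R i j v t) (hF : ∃ a : F, a ≠ 0 ∧ a ≠ 1)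
    (hC : centralizer (WW V (R i) : Set G) ≤ R i) (S₁ : Sylow 2 G)
    (hV : (S₁ : Subgroup G) ≤ normalizer (V : Set G)) (hR : (S₁ : Subgroup G) ≤ normalizer (R i : Set G))
    (l : Lay V R i j (TT τ) (SS R i S₁)) :
    (⨆ K ∈ {K : Subgroup (HQ (R i)) | MComp V R i j K}, K).Normal := by
  obtain ⟨M, B, _, _, _, _, _, p, r, f, φ, s, hM⟩ := b.exists_fMod c hF hC
  obtain ⟨N, _, _, P1, P2, y⟩ := c.exists_yPair b.toBT
  obtain ⟨n, sf, q, E⟩ := hM.exists_eig τ y
  obtain ⟨_, h⟩ := exists_FQ hM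
  exact h.normal_EE (E : Eig h.toFMod τ y n sf q) S₁ hV hR l

end Cfsg.Agent.Omega.Lie.BasOf

end

section


/-!
# NODE LIE, LEMMA CEN (#14596): `C_M(S_E) = e`

Abstract: a group `H` acts on an additive group `M`, `e ≤ M`, `cl P e = ⟨e^P⟩`.

* `Rk e Sm X Xm Sr` (one rank one group `⟨X, Xm⟩`): `Sm = Sr Xm`, `X` normalises `Sr` and `⟨e^Xm⟩`;
  `Rk.of_fix` (`X`, `Xm` fix `e`), `Rk.of_quad` (`(1+a)(1+b) M ≤ e` for some `a ≠ b` in `X`, rank one Bruhat
  relations);
* `cl_inv`: `⟨e^Sm⟩` is invariant under all `X`'s, so `⟨e^E⟩ = ⟨e^Sm⟩` for `E = ⟨Sm, X's⟩`;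
* `cen_inj`, `cen_eq`: if `M = ⟨e^Sm⟩` and the form is nondegenerate, then `C_M(Sm) ∩ e^⊥ = 0` and
  `C_M(S) = e` for a conjugate `S` of `Sm` fixing `e`.
-/

set_option autoImplicit false
set_option linter.unusedSectionVars false

namespace Cfsg.Agent.Omega.Lie.SE

open Subgroup Cfsg.Agent.Omega.BTwo Cfsg.Agent.Omega.Lie.Quot Cfsg.Agent.Omega.Lie.LemN
open scoped Pointwise

universe u v w

section abs

variable {H : Type v} {M : Type u} [Group H] [AddCommGroup M] [DistribMulAction H M]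

/-- `⟨e^P⟩` -/
def cl (P : Subgroup H) (e : AddSubgroup M) : AddSubgroup M := ⨆ g : P, (g : H) • e

theorem smul_le_cl {P : Subgroup H} {e : AddSubgroup M} {g : H} (hg : g ∈ P) : g • e ≤ cl P e :=
  le_iSup (fun g : P => (g : H) • e) ⟨g, hg⟩

theorem le_cl (P : Subgroup H) (e : AddSubgroup M) : e ≤ cl P e := by
  have := smul_le_cl (e := e) (one_mem P)
  rwa [one_smul] at this

theorem cl_le {P : Subgroup H} {e Y : AddSubgroup M} (h : ∀ g ∈ P, g • e ≤ Y) : cl P e ≤ Y :=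
  iSup_le fun g => h g g.2

theorem smul_mono {h : H} {X Y : AddSubgroup M} (hXY : X ≤ Y) : h • X ≤ h • Y :=
  AddSubgroup.pointwise_smul_le_pointwise_smul_iff.2 hXY

theorem smul_le_iff {h : H} {X Y : AddSubgroup M} : h • X ≤ Y ↔ X ≤ h⁻¹ • Y := by
  constructor
  · intro hX x hx
    have := hX (AddSubgroup.smul_mem_pointwise_smul x h X hx)
    have h2 := AddSubgroup.smul_mem_pointwise_smul _ h⁻¹ Y this
    rwa [inv_smul_smul] at h2
  · rintro hX _ ⟨x, hx, rfl⟩
    have h2 := AddSubgroup.smul_mem_pointwise_smul _ h _ (hX hx)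
    rw [smul_inv_smul] at h2
    exact h2

theorem smul_iSup_le {ι : Type*} {h : H} {X : ι → AddSubgroup M} {Y : AddSubgroup M} (hX : ∀ i, h • X i ≤ Y) :
    h • (⨆ i, X i) ≤ Y := by
  rw [smul_le_iff]
  exact iSup_le fun i => smul_le_iff.1 (hX i)

theorem smul_cl_le {P : Subgroup H} {e Y : AddSubgroup M} {h : H} (hh : ∀ g ∈ P, h • g • e ≤ Y) :
    h • cl P e ≤ Y := smul_iSup_le fun g => hh g g.2

/-- one rank one group `⟨X, Xm⟩`, with `Sm = Sr Xm` -/
structure Rk (e : AddSubgroup M) (Sm X Xm Sr : Subgroup H) : Prop where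
  Xm_le : Xm ≤ Sm
  Sr_le : Sr ≤ Sm
  fact : ∀ g ∈ Sm, ∃ s ∈ Sr, ∃ x ∈ Xm, g = s * x
  norm : ∀ a ∈ X, ∀ s ∈ Sr, a * s * a⁻¹ ∈ Sr
  inv : ∀ a ∈ X, a • cl Xm e ≤ cl Xm e

variable {e : AddSubgroup M} {Sm X Xm Sr : Subgroup H}

/-- the case where the rank one group fixes `e` -/
theorem inv_of_fix (hX : ∀ a ∈ X, a • e = e) (hXm : ∀ a ∈ Xm, a • e = e) : ∀ a ∈ X, a • cl Xm e ≤ cl Xm e := by
  intro a ha
  refine smul_cl_le fun g hg => ?_
  rw [hXm g hg, hX a ha]
  exact le_cl _ _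

/-- the case where the rank one group acts with `(1 + a)(1 + b) M ≤ e` -/
theorem inv_of_quad {n : H} (hX : ∀ a ∈ X, a • e = e)
    (h1 : ∀ a ∈ X, a ≠ 1 → ∃ x ∈ Xm, a • n • e = x • e)
    (h2 : ∀ x ∈ Xm, x ≠ 1 → ∃ a ∈ X, x • e = a • n • e)
    {a b : H} (ha : a ∈ X) (hb : b ∈ X) (ha1 : a ≠ 1) (hb1 : b ≠ 1) (hab : a * b ≠ 1)
    (hq : ∀ m : M, m + a • m + b • m + (a * b) • m ∈ e) : ∀ c ∈ X, c • cl Xm e ≤ cl Xm e := by
  have h3 : ∀ c ∈ X, c ≠ 1 → c • n • e ≤ cl Xm e := by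
    intro c hc hc1
    obtain ⟨x, hx, e1⟩ := h1 c hc hc1
    rw [e1]
    exact smul_le_cl hx
  have h4 : n • e ≤ cl Xm e := by
    intro y hy
    have k1 := h3 a ha ha1 (AddSubgroup.smul_mem_pointwise_smul y a _ hy)
    have k2 := h3 b hb hb1 (AddSubgroup.smul_mem_pointwise_smul y b _ hy)
    have k3 := h3 (a * b) (mul_mem ha hb) hab (AddSubgroup.smul_mem_pointwise_smul y (a * b) _ hy)
    have k4 := le_cl Xm e (hq y)
    have e1 : y = (y + a • y + b • y + (a * b) • y) - a • y - b • y - (a * b) • y := by abel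
    rw [e1]
    exact sub_mem (sub_mem (sub_mem k4 k1) k2) k3
  intro c hc
  refine smul_cl_le fun x hx => ?_
  by_cases hx1 : x = 1
  · rw [hx1, one_smul, hX c hc]
    exact le_cl _ _
  · obtain ⟨d, hd, e1⟩ := h2 x hx hx1
    rw [e1, smul_smul]
    by_cases hcd : c * d = 1
    · rw [hcd, one_smul]; exact h4
    · exact h3 _ (mul_mem hc hd) hcd

variable {B : Type*} [AddCommGroup B] {f : M →+ M →+ B}

/-- **(C2)** if `M = ⟨e^Sm⟩`, a vector fixed by `Sm` and perpendicular to `e` is 0 -/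
theorem cen_inj (hf : ∀ h ∈ Sm, ∀ x y : M, f (h • x) (h • y) = f x y) (hnd : ∀ x, (∀ y, f x y = 0) → x = 0)
    (hM : cl Sm e = ⊤) {x : M} (hx : ∀ h ∈ Sm, h • x = x) (he : ∀ y ∈ e, f x y = 0) : x = 0 := by
  apply hnd
  have h1 : cl Sm e ≤ (f x).ker := by
    refine cl_le fun g hg => ?_
    rintro _ ⟨y, hy, rfl⟩
    change f x (g • y) = 0
    have h2 := hf g hg x y
    rw [hx g hg] at h2
    rw [h2]
    exact he y hy
  intro y
  exact h1 (hM ▸ AddSubgroup.mem_top y)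

/-- the fixed points -/
def fix (P : Subgroup H) : AddSubgroup M where
  carrier := {x | ∀ h ∈ P, h • x = x}
  zero_mem' := fun h _ => smul_zero h
  add_mem' := by
    intro x y hx hy h hh
    rw [smul_add, hx h hh, hy h hh]
  neg_mem' := by
    intro x hx h hh
    rw [smul_neg, hx h hh]

theorem mem_fix {P : Subgroup H} {x : M} : x ∈ (fix P : AddSubgroup M) ↔ ∀ h ∈ P, h • x = x := Iff.rfl

theorem card_fix_conj {P : Subgroup H} (g : H) :
    Nat.card (fix (M := M) (P.map (MulAut.conj g).toMonoidHom)) = Nat.card (fix (M := M) P) := by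
  symm
  refine Nat.card_congr ⟨fun x => ⟨g • x, ?_⟩, fun x => ⟨g⁻¹ • x, ?_⟩, fun x => ?_, fun x => ?_⟩
  · rintro _ ⟨h, hh, rfl⟩
    change (g * h * g⁻¹) • g • (x : M) = g • (x : M)
    rw [smul_smul, inv_mul_cancel_right, mul_smul, x.2 h hh]
  · intro h hh
    have := x.2 (g * h * g⁻¹) ⟨h, hh, rfl⟩
    rw [mul_smul, mul_smul, ← eq_inv_smul_iff] at this
    exact this
  · apply Subtype.ext
    change g⁻¹ • g • (x : M) = x
    rw [inv_smul_smul]
  · apply Subtype.ext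
    change g • g⁻¹ • (x : M) = x
    rw [smul_inv_smul]

/-- **LEMMA CEN**: `C_M(S) = e` for a conjugate `S` of `Sm` which fixes `e` -/
theorem cen_eq [Finite M] (hf : ∀ h ∈ Sm, ∀ x y : M, f (h • x) (h • y) = f x y)
    (hnd : ∀ x, (∀ y, f x y = 0) → x = 0) (hM : cl Sm e = ⊤) {U : AddSubgroup M}
    (hU : ∀ x, x ∈ U ↔ ∀ y ∈ e, f x y = 0) (hidx : U.index ≤ Nat.card e) {g : H}
    (hS : ∀ h ∈ Sm.map (MulAut.conj g).toMonoidHom, ∀ y ∈ e, h • y = y) {x : M}
    (hx : ∀ h ∈ Sm.map (MulAut.conj g).toMonoidHom, h • x = x) : x ∈ e := by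
  have hbot : (fix Sm : AddSubgroup M) ⊓ U = ⊥ := by
    rw [eq_bot_iff]
    rintro y ⟨hy, hy'⟩
    exact AddSubgroup.mem_bot.2 (cen_inj hf hnd hM hy ((hU y).1 hy'))
  have h1 : Nat.card (fix (M := M) Sm) ≤ U.index := by
    have h2 : Function.Injective (fun y : fix (M := M) Sm => (QuotientAddGroup.mk (y : M) : M ⧸ U)) := by
      intro y z hyz
      have h3 : -(y : M) + z ∈ U := QuotientAddGroup.eq.1 hyz
      have h4 : -(y : M) + z ∈ (fix Sm : AddSubgroup M) ⊓ U := ⟨AddSubgroup.add_mem _ (AddSubgroup.neg_mem _ y.2) z.2, h3⟩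
      rw [hbot, AddSubgroup.mem_bot, neg_add_eq_zero] at h4
      exact Subtype.ext h4
    exact Nat.card_le_card_of_injective _ h2
  have h5 : e ≤ fix (M := M) (Sm.map (MulAut.conj g).toMonoidHom) := fun y hy h hh => hS h hh y hy
  have h6 : Nat.card (fix (M := M) (Sm.map (MulAut.conj g).toMonoidHom)) ≤ Nat.card e := by
    rw [card_fix_conj]
    exact h1.trans hidx
  have h7 : e = fix (M := M) (Sm.map (MulAut.conj g).toMonoidHom) :=
    by
    refine le_antisymm h5 ?_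
    intro y hy
    by_contra hne
    have h8 : (e : Set M) ⊂ (fix (M := M) (Sm.map (MulAut.conj g).toMonoidHom) : Set M) :=
      ⟨h5, fun hle => hne (hle hy)⟩
    have h9 := Set.ncard_lt_ncard h8 (Set.toFinite _)
    exact absurd h6 (not_le.2 h9)
  rw [h7]
  exact hx

/-! ### Rank one data in the group -/

/-- group theoretic data of a rank one group `⟨X, Xm⟩`: `N` is the stabiliser of `e`, `A`, `T` as in NODE LIE.
Either `X`, `Xm` fix `e`, or `X ≤ A` is moved by `T` and the rank one Bruhat relations hold (`n e = e'`). -/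
structure RkG (N A T Sm X Xm Sr : Subgroup H) : Prop where
  Xm_le : Xm ≤ Sm
  Sr_le : Sr ≤ Sm
  fact : ∀ g ∈ Sm, ∃ s ∈ Sr, ∃ x ∈ Xm, g = s * x
  norm : ∀ a ∈ X, ∀ s ∈ Sr, a * s * a⁻¹ ∈ Sr
  X_le : X ≤ N
  alt : Xm ≤ N ∨ (X ≤ A ∧ (∃ a ∈ X, ∃ t ∈ T, t * a * t⁻¹ ∈ X ∧ a ≠ 1 ∧ a * (t * a * t⁻¹) ≠ 1) ∧
    ∃ n : H, (∀ a ∈ X, a ≠ 1 → ∃ x ∈ Xm, x⁻¹ * a * n ∈ N) ∧ (∀ x ∈ Xm, x ≠ 1 → ∃ a ∈ X, x⁻¹ * a * n ∈ N))

theorem RkG.rk {N A T Sm X Xm Sr : Subgroup H} (r : RkG N A T Sm X Xm Sr) (hN : ∀ h ∈ N, h • e = e)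
    (hq : ∀ a ∈ A, ∀ t ∈ T, ∀ m : M, m + a • m + (t * a * t⁻¹) • m + (a * (t * a * t⁻¹)) • m ∈ e) :
    Rk e Sm X Xm Sr where
  Xm_le := r.Xm_le
  Sr_le := r.Sr_le
  fact := r.fact
  norm := r.norm
  inv := by
    have hX : ∀ a ∈ X, a • e = e := fun a ha => hN a (r.X_le ha)
    have key : ∀ {a x n : H}, x⁻¹ * a * n ∈ N → a • n • e = x • e := by
      intro a x n h
      have h1 := hN _ h
      rw [mul_assoc, mul_smul, inv_smul_eq_iff, mul_smul] at h1
      exact h1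
    rcases r.alt with h | ⟨hXA, ⟨a, ha, t, ht, hb, ha1, hab⟩, n, h1, h2⟩
    · exact inv_of_fix hX fun a ha => hN a (h ha)
    · refine inv_of_quad (n := n) hX (fun a ha ha1 => ?_) (fun x hx hx1 => ?_) ha hb ha1 ?_ hab
        (hq a (hXA ha) t ht)
      · obtain ⟨x, hx, h⟩ := h1 a ha ha1
        exact ⟨x, hx, key h⟩
      · obtain ⟨a, ha, h⟩ := h2 x hx hx1
        exact ⟨a, ha, (key h).symm⟩
      · intro h
        rw [mul_inv_eq_one, mul_eq_left] at h
        exact ha1 h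

end abs

/-! ### The real situation -/

section real

variable {G : Type u} [Group G] {ι : Type w} {V : Subgroup G} {R : ι → Subgroup G} {i : ι} {M B : Type u}
  [AddCommGroup M] [AddCommGroup B] [DistribMulAction (NR R i) M] [DistribMulAction (NR R i) B]
  [DistribMulAction (HQ (R i)) M] {p : G → M} {r : G → B} {f : M →+ M →+ B}

/-- the stabiliser of `e = V / R i` in `H` -/
def NE (V : Subgroup G) (R : ι → Subgroup G) (i : ι) : Subgroup (HQ (R i)) := im (R i) (normalizer (V : Set G))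

theorem NE_smul (m : ModQ V R i M B p r f) {h : HQ (R i)} (hh : h ∈ NE V R i) : h • m.sb V = m.sb V := by
  have key : ∀ h ∈ NE V R i, h • m.sb V ≤ m.sb V := by
    intro h hh
    obtain ⟨g, hg, hgV, rfl⟩ := mem_im.1 hh
    rintro _ ⟨y, hy, rfl⟩
    change pr (R i) ⟨g, hg⟩ • y ∈ m.sb V
    rw [m.pr_smul]
    exact m.toModFr.sb_smul (h := ⟨g, hg⟩) hgV hy
  refine le_antisymm (key h hh) ?_
  have := key h⁻¹ (inv_mem hh)
  rwa [smul_le_iff, inv_inv] at this

/-- `S = (S₁ ∩ C(R i)) / O₂(N(R i))` centralises `e` -/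
theorem fix_SS [Finite G] {F : Type v} [Field F] {j : ι} {vv : F → F → G} {w1 w2 : F → G} (b : BT V R)
    (m : ModQ V R i M B p r f) (C : Crd V R i j vv w1 w2) (S₁ : Sylow 2 G)
    (hV : (S₁ : Subgroup G) ≤ normalizer (V : Set G)) (hR : (S₁ : Subgroup G) ≤ normalizer (R i : Set G))
    {h : HQ (R i)} (hh : h ∈ SS R i S₁) {y : M} (hy : y ∈ m.sb V) : h • y = y := by
  obtain ⟨g, hg, hgS, rfl⟩ := mem_im.1 hh
  obtain ⟨y, hyV, hyW, rfl⟩ := hy
  rw [S_eq b C S₁ hV hR] at hgS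
  -- the elements which act trivially on `V / R i`
  let K : Subgroup G :=
    { carrier := {g | g ∈ normalizer (R i : Set G) ∧ ∀ v ∈ V, g * v * g⁻¹ * v⁻¹ ∈ R i}
      one_mem' := ⟨one_mem _, fun v _ => by rw [one_mul, inv_one, mul_one, mul_inv_cancel]; exact one_mem _⟩
      mul_mem' := by
        rintro a c ⟨ha, ha'⟩ ⟨hc, hc'⟩
        refine ⟨mul_mem ha hc, fun v hv => ?_⟩
        have h1 := conj_mem_of_normalizer ha (hc' v hv)
        have e : a * c * v * (a * c)⁻¹ * v⁻¹ = (a * (c * v * c⁻¹ * v⁻¹) * a⁻¹) * (a * v * a⁻¹ * v⁻¹) := by group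
        rw [e]
        exact mul_mem h1 (ha' v hv)
      inv_mem' := by
        rintro a ⟨ha, ha'⟩
        refine ⟨inv_mem ha, fun v hv => ?_⟩
        have h1 := conj_inv_mem_of_normalizer ha (ha' v hv)
        have h2 : a⁻¹ * v * a ∈ V := by
          have h3 : a⁻¹ * (a * v * a⁻¹ * v⁻¹)⁻¹ * a ∈ R i := conj_inv_mem_of_normalizer ha (inv_mem (ha' v hv))
          have e : a⁻¹ * v * a = (a⁻¹ * (a * v * a⁻¹ * v⁻¹)⁻¹ * a) * v := by group
          rw [e]
          exact mul_mem (b.R_le i h3) hv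
        have e : a⁻¹ * v * a⁻¹⁻¹ * v⁻¹ = a⁻¹ * (a * v * a⁻¹ * v⁻¹)⁻¹ * a := by group
        rw [e]
        exact conj_inv_mem_of_normalizer ha (inv_mem (ha' v hv)) }
  have hle : (S₁ : Subgroup G) ⊓ centralizer (V : Set G) ⊔ WW V (R i) ≤ K := by
    refine sup_le ?_ ?_
    · rintro x ⟨-, hx⟩
      refine ⟨b.cen_le_N i hx, fun v hv => ?_⟩
      rw [← mem_centralizer_iff.1 hx v hv, mul_inv_cancel_right, mul_inv_cancel]
      exact one_mem _
    · intro x hx
      have hxQ := b.W_le_Q i hx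
      exact ⟨b.Q_le i hxQ, fun v hv => b.QV i x hxQ v hv⟩
  have h1 := (hle hgS).2 y hyV
  rw [m.act hg hyW, m.p_eq_iff (conj_mem_of_normalizer (normalizer_le_WW V (R i) hg) hyW) hyW]
  exact h1

end real

end Cfsg.Agent.Omega.Lie.SE

end

end
end

private theorem dce_465de4945224 : _root_.True := by
  try have : _root_.True := by simp only [_root_.Cfsg.Agent.Omega.Lie.CenSymp.kM.congr_simp]
  try have : _root_.True := by simp only [_root_.Cfsg.Agent.Omega.Lie.CenLin.e3.eq_1]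
  try have : _root_.True := by simp only [_root_.Cfsg.Agent.Omega.Lie.CenLin.e4.eq_1]
  try have : _root_.True := by simp only [_root_.Cfsg.Agent.Omega.Lie.CenLin.e1.eq_1]
  try have : _root_.True := by simp only [_root_.Cfsg.Agent.Omega.Lie.CenSymp.T.eq_1]
  try have : _root_.True := by simp only [_root_.Cfsg.Agent.Omega.Lie.Cen.Tits.gs.eq_1]
  try have : _root_.True := by simp only [_root_.Cfsg.Agent.Omega.Lie.CenLin.bt.congr_simp]
  try have : _root_.True := by simp only [_root_.Cfsg.Agent.Omega.Lie.CenLin.e2.congr_simp]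
  try have : _root_.True := by simp only [_root_.Cfsg.Agent.Omega.Lie.CenLin.bl.congr_simp]
  try have : _root_.True := by simp only [_root_.Cfsg.Agent.Omega.Lie.CenLin.e2.eq_1]
  try have : _root_.True := by simp only [_root_.Cfsg.Agent.Omega.Lie.Cen.Tits.tree.eq_def]
  try have : _root_.True := by simp only [_root_.Cfsg.Agent.Omega.Lie.CenLin.e4.congr_simp]
  exact _root_.True.intro
end

-- part: Mrg/Omega/Node/SEPOf
section
prune_inst 0x43008000800020000180590b1001c42de000592004b04018ce10f420680ec602504ae61bce00513583a084400340040000000b0005000000420000041190180100010069108a10002000e000884000000000000000000000000000000000004000000000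
set_option linter.all false
open scoped Cfsg.Agent.FastGrp

-- merged: Cfsg.Agent.Mrg.Omega.Lie.Fix
section

/-!
# THEOREM FIX (#15651), final forms

`b : BTC V R`, `c : Coord V R i j ..`, `τ : TorD ..`, `4 ≤ |F|`, `C(W i) ≤ R i` (rad = 0), `A ≠ 1`;
`NE V R i` (Lie/SE.lean) `=` the image of `N(V)` in `H = N(R i) / O₂(N(R i))` `=` the stabiliser of `e` (`mem_NE`).

* `norm_of` (`G`-form of the abstract theorem): `t(a) ∈ Γ ≤ N(R i)`, `[V ^ g, U j] ≤ R i` for `g ∈ Γ`, and some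
  `Q ≤ Γ ⊓ N(V)` has odd index in `Γ`; then `Γ ≤ N(V)`;
* `gam`, `gam_orb` : `T ≤ Gam ≤ H`, `A` centralises `γ e` (`γ ∈ Gam`), and a subgroup of odd index of `Gam` is
  contained in `NE` / the orbit of `e` is odd; then `Gam ≤ NE`;
* `norm_le` : `A ≤ N ≤ H⁰`, `N ⊴ H`: `N_H(S ⊓ N) ≤ NE`;
* **`mul`** : `H = N NE`; `mulG` : `N(R i) = N (N(R i) ⊓ N(V))` for `U j ≤ N ≤ C(R i)`, `N ⊴ N(R i)`;
* `span`, `spanG` : `M = ⟨e ^ N⟩`, `W i = ⟨V ^ N⟩`.
-/

set_option autoImplicit false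
set_option linter.unusedSectionVars false

namespace Cfsg.Agent.Omega.Lie.Fix

open Subgroup Cfsg.Agent.Omega.BTwo Cfsg.Agent.Lib.SL2Mat Cfsg.Agent.Omega.Lie.Quot
open Cfsg.Agent.Omega.Lie.SE (NE cl)
open scoped Pointwise

universe u v w

variable {G : Type u} [Group G] {ι : Type w} {V : Subgroup G} {R : ι → Subgroup G} {i j : ι}

/-- an element acting trivially on `M` normalises `V` -/
theorem Q_le_NV [Finite G] (b : BT V R) (i : ι) : QQ (R i) ≤ normalizer (V : Set G) := by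
  obtain ⟨M, B, _, _, _, _, p, r, f, m⟩ := b.exists_mod i
  have hVW := V_le_WW V (R i)
  intro g hg
  obtain ⟨n, hn, rfl⟩ := hg
  refine mem_normalizer_of_conj fun x hx => ?_
  have h1 : n • p x ∈ m.sb V := by
    rw [m.Q_act b ⟨n, hn, rfl⟩]
    exact m.p_mem (hVW hx) hx
  rw [m.p_act n x (hVW hx)] at h1
  exact (m.p_mem_iff (conj_mem_of_normalizer (normalizer_le_WW V (R i) n.2) (hVW hx)) (b.R_le i)).1 h1

theorem pr_mem_NE [Finite G] (b : BT V R) {g : G} (hg : g ∈ normalizer (R i : Set G)) :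
    pr (R i) ⟨g, hg⟩ ∈ NE V R i ↔ g ∈ normalizer (V : Set G) := pr_mem_im_iff (Q_le_NV b i) hg

/-- `NE` is the stabiliser of `e` -/
theorem mem_NE [Finite G] (b : BT V R) {M B : Type u} [AddCommGroup M] [AddCommGroup B]
    [DistribMulAction (NR R i) M] [DistribMulAction (NR R i) B] [DistribMulAction (HQ (R i)) M]
    {p : G → M} {r : G → B} {f : M →+ M →+ B} (m : ModQ V R i M B p r f)
    {h : HQ (R i)} : h ∈ NE V R i ↔ ∀ x ∈ m.sb V, h • x ∈ m.sb V := by
  obtain ⟨n, hn, rfl⟩ := exists_pr h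
  have hVW := V_le_WW V (R i)
  rw [pr_mem_NE b]
  constructor
  · rintro hnV _ ⟨x, hx, hxW, rfl⟩
    rw [m.pr_smul, m.p_act ⟨n, hn⟩ x hxW]
    exact m.p_mem (conj_mem_of_normalizer (normalizer_le_WW V (R i) hn) hxW) (conj_mem_of_normalizer hnV hx)
  · intro hh
    refine mem_normalizer_of_conj fun v hv => ?_
    have h1 := hh (p v) (m.p_mem (hVW hv) hv)
    rw [m.pr_smul, m.p_act ⟨n, hn⟩ v (hVW hv)] at h1
    exact (m.p_mem_iff (conj_mem_of_normalizer (normalizer_le_WW V (R i) hn) (hVW hv)) (b.R_le i)).1 h1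

theorem mem_NE_iff_le [Finite G] (b : BT V R) {M B : Type u} [AddCommGroup M] [AddCommGroup B]
    [DistribMulAction (NR R i) M] [DistribMulAction (NR R i) B] [DistribMulAction (HQ (R i)) M]
    {p : G → M} {r : G → B} {f : M →+ M →+ B} (m : ModQ V R i M B p r f)
    {h : HQ (R i)} : h ∈ NE V R i ↔ h • m.sb V ≤ m.sb V := by
  rw [mem_NE b m]
  constructor
  · rintro h1 _ ⟨y, hy, rfl⟩
    exact h1 y hy
  · exact fun h1 x hx => h1 (AddSubgroup.smul_mem_pointwise_smul x h _ hx)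

variable {F : Type v} [Field F] {v : F → F → G} {w1 w2 t : F → G}
variable [Finite G] [Finite F] [CharP F 2]

/-- **THEOREM FIX**, abstract theorem in `G` -/
theorem norm_of (b : BTC V R) (c : Coord V R i j v w1 w2) (τ : TorD V R i j v t) (hq : 4 ≤ Nat.card F)
    (hC : centralizer (WW V (R i) : Set G) ≤ R i) (hA : ∃ u ∈ UU V R j, u ∉ DD V R)
    {Γ Q : Subgroup G} (hΓ : Γ ≤ normalizer (R i : Set G)) (hT : ∀ a : F, a ≠ 0 → t a ∈ Γ)
    (hfix : ∀ g ∈ Γ, ∀ u ∈ UU V R j, ∀ x ∈ V, u * (g * x * g⁻¹) * u⁻¹ * (g * x * g⁻¹)⁻¹ ∈ R i)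
    (hQΓ : Q ≤ Γ) (hQ : Q ≤ normalizer (V : Set G)) (hodd : Odd (Q.relIndex Γ)) :
    Γ ≤ normalizer (V : Set G) := by
  obtain ⟨M, B, _, _, _, _, _, p, r, f, φ, s, h⟩ := b.exists_fMod c (LemN.exists_ne hq) hC
  have hVW := V_le_WW V (R i)
  have hcW : ∀ {g x : G}, g ∈ normalizer (R i : Set G) → x ∈ WW V (R i) → g * x * g⁻¹ ∈ WW V (R i) :=
    fun hg hx => conj_mem_of_normalizer (normalizer_le_WW V (R i) hg) hx
  have hv : v 0 1 ∈ V := c.v_mem 0 1
  intro g hg
  have key := main' (h := h) (τ := τ) (Γ := Γ.subgroupOf (normalizer (R i : Set G)))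
    (fun a => mem_subgroupOf.2 (hT a a.ne_zero))
    (fun u hu k hk => ?_) hq hA (Q := Q.subgroupOf (normalizer (R i : Set G)))
    (fun x hx => hQΓ hx) (fun x hx => ?_) ?_ (g := ⟨g, hΓ hg⟩) (mem_subgroupOf.2 hg)
  · obtain ⟨c', hc'⟩ := key
    exact norm_V h hc'
  · rw [h.fr.p_act k _ (hVW hv), h.fr.p_act u _ (hcW k.2 (hVW hv)),
      h.fr.p_eq_iff (hcW u.2 (hcW k.2 (hVW hv))) (hcW k.2 (hVW hv))]
    exact hfix k (mem_subgroupOf.1 hk) u hu _ hv
  · have h1 : x • p (v 0 1) ∈ h.fr.sb V := by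
      rw [h.fr.p_act x _ (hVW hv)]
      exact h.fr.p_mem (hcW x.2 (hVW hv)) (conj_mem_of_normalizer (hQ (mem_subgroupOf.1 hx)) hv)
    obtain ⟨γ, hγ⟩ := h.mem_V.1 h1
    exact ⟨γ, hγ.symm⟩
  · rwa [relIndex_subgroupOf hΓ]

/-- **THEOREM FIX** for `T ≤ Gam ≤ H` -/
theorem gam (b : BTC V R) (c : Coord V R i j v w1 w2) (τ : TorD V R i j v t) (hq : 4 ≤ Nat.card F)
    (hC : centralizer (WW V (R i) : Set G) ≤ R i) (hA : ∃ a ∈ AA V R i j, a ≠ 1)
    {M B : Type u} [AddCommGroup M] [AddCommGroup B]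
    [DistribMulAction (NR R i) M] [DistribMulAction (NR R i) B] [DistribMulAction (HQ (R i)) M]
    {p : G → M} {r : G → B} {f : M →+ M →+ B} (m : ModQ V R i M B p r f)
    {Gam Q : Subgroup (HQ (R i))} (hT : TT τ ≤ Gam)
    (hfix : ∀ g ∈ Gam, ∀ a ∈ AA V R i j, ∀ x ∈ m.sb V, a • g • x = g • x)
    (hQΓ : Q ≤ Gam) (hQ : Q ≤ NE V R i) (hodd : Odd (Q.relIndex Gam)) : Gam ≤ NE V R i := by
  have hbt := b.toBT
  have hN : ∀ {X : Subgroup (HQ (R i))} {g : G} (hg : g ∈ normalizer (R i : Set G)),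
      g ∈ (X.comap (pr (R i))).map (normalizer (R i : Set G)).subtype ↔ pr (R i) ⟨g, hg⟩ ∈ X := by
    intro X g hg
    constructor
    · rintro ⟨x, hx, e⟩
      have : x = ⟨g, hg⟩ := Subtype.ext e
      rwa [← this]
    · exact fun hx => ⟨⟨g, hg⟩, hx, rfl⟩
  have hle : ∀ X : Subgroup (HQ (R i)), (X.comap (pr (R i))).map (normalizer (R i : Set G)).subtype ≤
      normalizer (R i : Set G) := fun X => map_subtype_le _
  have hVW := V_le_WW V (R i)
  have hcW : ∀ {g x : G}, g ∈ normalizer (R i : Set G) → x ∈ WW V (R i) → g * x * g⁻¹ ∈ WW V (R i) :=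
    fun hg hx => conj_mem_of_normalizer (normalizer_le_WW V (R i) hg) hx
  have hA' : ∃ u ∈ UU V R j, u ∉ DD V R := by
    obtain ⟨a, ha, ha1⟩ := hA
    obtain ⟨u, hu, rfl⟩ := QMod.exists_U hbt ha
    exact ⟨u, hu, QMod.notMem_D hbt c.ne hu ha1⟩
  have key := norm_of b c τ hq hC hA' (Γ := (Gam.comap (pr (R i))).map (normalizer (R i : Set G)).subtype)
    (Q := (Q.comap (pr (R i))).map (normalizer (R i : Set G)).subtype) (hle _)
    (fun a ha => (hN (τ.normR ha)).2 (hT ((mem_TT τ).2 ⟨a, ha, rfl⟩)))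
    (fun g hg u hu x hx => ?_) (map_mono (comap_mono hQΓ)) (fun g hg => ?_) ?_
  · intro y hy
    obtain ⟨g, hg, rfl⟩ := exists_pr y
    exact (pr_mem_NE hbt hg).2 (key ((hN hg).2 hy))
  · have hgN := hle _ hg
    have huN : u ∈ normalizer (R i : Set G) := U_le_N hbt i j hu
    have h1 := hfix _ ((hN hgN).1 hg) _ ((mem_AA hbt).2 ⟨u, hu, rfl⟩) (p x) (m.p_mem (hVW hx) hx)
    rw [m.pr_smul, m.pr_smul, m.p_act ⟨g, hgN⟩ x (hVW hx), m.p_act _ _ (hcW hgN (hVW hx)),
      m.p_eq_iff (hcW huN (hcW hgN (hVW hx))) (hcW hgN (hVW hx))] at h1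
    exact h1
  · have hgN := hle _ hg
    exact (pr_mem_NE hbt hgN).1 (hQ ((hN hgN).1 hg))
  · rw [relIndex_map_map_of_injective _ _ (normalizer (R i : Set G)).subtype_injective,
      relIndex_comap, map_comap_eq_self_of_surjective (pr_surjective _)]
    exact hodd

section N

variable (b : BTC V R) (c : Coord V R i j v w1 w2) (τ : TorD V R i j v t) (hq : 4 ≤ Nat.card F)
  (hC : centralizer (WW V (R i) : Set G) ≤ R i) (hA : ∃ a ∈ AA V R i j, a ≠ 1)
  (S₁ : Sylow 2 G) (hV : (S₁ : Subgroup G) ≤ normalizer (V : Set G))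
  (hR : (S₁ : Subgroup G) ≤ normalizer (R i : Set G))
  {N : Subgroup (HQ (R i))} (hN : N.Normal) (hAN : AA V R i j ≤ N)
include b c τ hq hC hA hV hR hN hAN

/-- **THEOREM FIX** for `Γ = N_H(S ⊓ N)` -/
theorem norm_le : normalizer ((SS R i S₁ ⊓ N : Subgroup (HQ (R i))) : Set (HQ (R i))) ≤ NE V R i := by
  have hbt := b.toBT
  have C := CrdOf.crd c
  obtain ⟨M, B, _, _, _, _, _, _, p, r, f, m'⟩ := QMod.exists_q hbt i
  have m : ModQ V R i M B p r f := ⟨m'.toModFr, m'.smul_M⟩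
  obtain ⟨P, hP⟩ := exists_sylow S₁ hR
  have hPS : (P : Subgroup (HQ (R i))) ⊓ H0 R i = SS R i S₁ := by
    rw [hP]
    exact (im_inf (QQ_le_sylow S₁ hR) (Q_le_C hbt i)).symm
  have hH0 : (H0 R i).Normal := QMod.H0_normal m' hbt
  have hPn : (P : Subgroup (HQ (R i))) ≤
      normalizer ((SS R i S₁ ⊓ N : Subgroup (HQ (R i))) : Set (HQ (R i))) := by
    intro x hx
    refine mem_normalizer_of_conj fun y hy => ?_
    obtain ⟨h1, h2⟩ := mem_inf.1 hy
    rw [← hPS] at h1 ⊢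
    exact mem_inf.2 ⟨mem_inf.2 ⟨mul_mem (mul_mem hx (mem_inf.1 h1).1) (inv_mem hx),
      hH0.conj_mem _ (mem_inf.1 h1).2 x⟩, hN.conj_mem _ h2 x⟩
  have hTn : TT τ ≤ normalizer ((SS R i S₁ ⊓ N : Subgroup (HQ (R i))) : Set (HQ (R i))) := by
    intro x hx
    refine mem_normalizer_of_conj fun y hy => ?_
    obtain ⟨h1, h2⟩ := mem_inf.1 hy
    exact mem_inf.2 ⟨TS_mem hbt τ C S₁ hV hR hx h1, hN.conj_mem _ h2 x⟩
  refine gam b c τ hq hC hA m (Q := (P : Subgroup (HQ (R i)))) hTn (fun g hg a ha x hx => ?_) hPn ?_ ?_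
  · have h1 : g⁻¹ * a * g ∈ SS R i S₁ ⊓ N := by
      have h2 := conj_mem_of_normalizer (inv_mem hg) (mem_inf.2 ⟨A_le_S hbt S₁ i j hV ha, hAN ha⟩)
      rwa [inv_inv] at h2
    have h2 := SE.fix_SS hbt m C S₁ hV hR (mem_inf.1 h1).1 hx
    calc a • g • x = g • (g⁻¹ * a * g) • x := by rw [← mul_smul, ← mul_smul]; congr 1; group
      _ = g • x := by rw [h2]
  · rw [hP]; exact im_mono hV
  · have hfact : Fact (Nat.Prime 2) := ⟨Nat.prime_two⟩
    have h1 : Odd (P : Subgroup (HQ (R i))).index := by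
      rw [← Nat.not_even_iff_odd, even_iff_two_dvd]
      exact P.not_dvd_index
    exact h1.of_dvd_nat (relIndex_dvd_index_of_le hPn)

variable (hN0 : N ≤ H0 R i)
include hN0

/-- **(L8)** : `H = N N_H(e)` -/
theorem mul (h : HQ (R i)) : ∃ n ∈ N, ∃ k ∈ NE V R i, h = n * k := by
  have hbt := b.toBT
  obtain ⟨P, hP⟩ := exists_P hbt S₁ hR
  have h1 := ThmD.frattini P N
  have h2 : (P : Subgroup (HQ (R i))) ⊓ N = SS R i S₁ ⊓ N := by
    rw [← hP, inf_assoc, inf_eq_right.2 hN0]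
  rw [h2] at h1
  have h3 : h ∈ normalizer ((SS R i S₁ ⊓ N : Subgroup (HQ (R i))) : Set (HQ (R i))) ⊔ N := by
    rw [h1]; exact mem_top _
  rw [sup_comm, mem_sup_of_normal_left] at h3
  obtain ⟨n, hn, k, hk, rfl⟩ := h3
  exact ⟨n, hn, k, norm_le b c τ hq hC hA S₁ hV hR hN hAN hk, rfl⟩

/-- **(L9)** : `M = ⟨e ^ N⟩` -/
theorem span {M B : Type u} [AddCommGroup M] [AddCommGroup B]
    [DistribMulAction (NR R i) M] [DistribMulAction (NR R i) B] [DistribMulAction (HQ (R i)) M]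
    {p : G → M} {r : G → B} {f : M →+ M →+ B} (m : ModQ V R i M B p r f) : cl N (m.sb V) = ⊤ := by
  refine m.toModFr.gen (fun x a ha => ?_) (SE.le_cl _ _)
  rw [← m.pr_smul]
  obtain ⟨n, hn, k, hk, e⟩ := mul b c τ hq hC hA S₁ hV hR hN hAN hN0 (pr (R i) x)
  have h1 : pr (R i) x • cl N (m.sb V) ≤ cl N (m.sb V) := by
    refine SE.smul_cl_le fun g hg => ?_
    have e2 : pr (R i) x * g = (n * (k * g * k⁻¹)) * k := by rw [e]; group
    rw [← mul_smul, e2, mul_smul, SE.NE_smul m hk]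
    exact SE.smul_le_cl (mul_mem hn (hN.conj_mem _ hg k))
  exact h1 (AddSubgroup.smul_mem_pointwise_smul a _ _ ha)

end N

section G

variable (b : BTC V R) (c : Coord V R i j v w1 w2) (τ : TorD V R i j v t) (hq : 4 ≤ Nat.card F)
  (hC : centralizer (WW V (R i) : Set G) ≤ R i) (hA : ∃ u ∈ UU V R j, u ∉ DD V R)
  (S₁ : Sylow 2 G) (hV : (S₁ : Subgroup G) ≤ normalizer (V : Set G))
  (hR : (S₁ : Subgroup G) ≤ normalizer (R i : Set G))
  {N : Subgroup G} (hN : normalizer (R i : Set G) ≤ normalizer (N : Set G)) (hU : UU V R j ≤ N)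
  (hN0 : N ≤ centralizer (R i : Set G))
include b c τ hq hC hA hV hR hN hU hN0

end G

end Cfsg.Agent.Omega.Lie.Fix

end

-- merged: Cfsg.Agent.Mrg.Omega.Lie.SEOpp
section

section


/-!
# NODE LIE, LEMMA CEN from the field `opp` of the K-side

* `OppM L SL e`: for some `w ∈ L`, every additive subgroup which contains `s w e`, `s ∈ SL`, contains `x e` for all `x ∈ L`;
* `OppM.of_opp`: from `Opp B S P` for a group `K ≤ H`, if `B` stabilises `e` and every panel has `Pan`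
  (`Pan.of_fix`, `Pan.of_mov`);
* `OppM.sup`, `OppM.biSup`: products of commuting subgroups;
* `OppM.le`: `⟨e^L⟩ ≤ w e + [⟨e^L⟩, SL]`;
* `OppM.cen`: `C_M(SL) = e`, if `M = ⟨e^L⟩` and the form is nondegenerate;
* `cenSE_of`: the statement for `M = W i / R i`.
-/

set_option autoImplicit false
set_option linter.unusedSectionVars false

namespace Cfsg.Agent.Omega.Lie.SE

open Subgroup Cfsg.Agent.Omega.BTwo Cfsg.Agent.Omega.Lie.Quot Cfsg.Agent.Omega.Lie.LemN Cfsg.Agent.Omega.Lie.End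
open scoped Pointwise

universe u v w

section abs

variable {H : Type v} {M : Type u} [Group H] [AddCommGroup M] [DistribMulAction H M]

/-- `x e`, `x ∈ L`, is in every subgroup containing the `s w e`, `s ∈ SL` -/
def OppM (L SL : Subgroup H) (e : AddSubgroup M) : Prop :=
  ∃ w ∈ L, ∀ N : AddSubgroup M, (∀ s ∈ SL, (s * w) • e ≤ N) → ∀ x ∈ L, x • e ≤ N

/-- the panel condition: `e` is in the sum of the `y e`, `y ∈ P - B` -/
def Pan {K : Subgroup H} (B P : Subgroup K) (e : AddSubgroup M) : Prop :=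
  ∀ N : AddSubgroup M, (∀ y ∈ P, y ∉ B → (y : H) • e ≤ N) → e ≤ N

theorem Pan.of_fix {K : Subgroup H} {B P : Subgroup K} {e : AddSubgroup M} (hne : ∃ y ∈ P, y ∉ B)
    (h : ∀ y ∈ P, (y : H) • e ≤ e) : Pan B P e := by
  intro N hN
  obtain ⟨y, hy, hyB⟩ := hne
  have h1 := h y⁻¹ (inv_mem hy)
  rw [smul_le_iff] at h1
  have h2 : ((y⁻¹ : K) : H)⁻¹ = (y : H) := by push_cast; rw [inv_inv]
  rw [h2] at h1
  exact h1.trans (hN y hy hyB)

/-- a moved panel: `(1 + a)(1 + b) M ≤ e` for elements `a`, `b` such that `a`, `b`, `a b` move the chamber `n B` -/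
theorem Pan.of_mov {K : Subgroup H} {B P : Subgroup K} {e : AddSubgroup M} {a b n : K} (ha : a ∈ P) (hb : b ∈ P)
    (hn : n ∈ P) (hnB : n ∉ B) (h1 : n⁻¹ * a * n ∉ B) (h2 : n⁻¹ * b * n ∉ B) (h3 : n⁻¹ * (a * b) * n ∉ B)
    (hq : ∀ m : M, m + (a : H) • m + (b : H) • m + ((a : H) * b) • m ∈ e) : Pan B P e := by
  intro N hN v hv
  have key : ∀ y : K, y ∈ P → y ∉ B → (y : H) • v ∈ N := fun y hy hyB =>
    hN y hy hyB (AddSubgroup.smul_mem_pointwise_smul v (y : H) e hv)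
  have hc : ∀ x ∈ P, n⁻¹ * x * n ∈ P := fun x hx => mul_mem (mul_mem (inv_mem hn) hx) hn
  have k0 : ((n : H)⁻¹) • ((n : H) • v + (a : H) • (n : H) • v + (b : H) • (n : H) • v +
      ((a : H) * b) • (n : H) • v) ∈ N := by
    have h4 := hq ((n : H) • v)
    have h5 := hN n⁻¹ (inv_mem hn) (fun h => hnB (by simpa using inv_mem h))
    have h6 := AddSubgroup.smul_mem_pointwise_smul _ ((n⁻¹ : K) : H) e h4
    exact h5 h6
  have k1 := key _ (hc a ha) h1
  have k2 := key _ (hc b hb) h2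
  have k3 := key _ (hc _ (mul_mem ha hb)) h3
  have e0 : ((n : H)⁻¹) • ((n : H) • v + (a : H) • (n : H) • v + (b : H) • (n : H) • v +
      ((a : H) * b) • (n : H) • v) = v + ((n⁻¹ * a * n : K) : H) • v + ((n⁻¹ * b * n : K) : H) • v +
      ((n⁻¹ * (a * b) * n : K) : H) • v := by
    push_cast
    rw [smul_add, smul_add, smul_add, inv_smul_smul, smul_smul, smul_smul, smul_smul, smul_smul, smul_smul,
      smul_smul]
  rw [e0] at k0
  have e1 : v = (v + ((n⁻¹ * a * n : K) : H) • v + ((n⁻¹ * b * n : K) : H) • v +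
      ((n⁻¹ * (a * b) * n : K) : H) • v) - ((n⁻¹ * a * n : K) : H) • v - ((n⁻¹ * b * n : K) : H) • v -
      ((n⁻¹ * (a * b) * n : K) : H) • v := by abel
  rw [e1]
  exact sub_mem (sub_mem (sub_mem k0 k1) k2) k3

/-- from the K-side to the module -/
theorem OppM.of_opp {K : Subgroup H} {J : Type*} {B S : Subgroup K} {P : J → Subgroup K} (h : Opp B S P)
    {e : AddSubgroup M} (hB : ∀ b ∈ B, (b : H) • e ≤ e) (hP : ∀ i, Pan B (P i) e) {SK : Subgroup H}
    (hS : ∀ s ∈ S, (s : H) ∈ SK) : OppM K SK e := by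
  obtain ⟨w, hw⟩ := h
  refine ⟨w, w.2, fun N hN x hx => ?_⟩
  refine hw {y : K | (y : H) • e ≤ N} ?_ ?_ ?_ ⟨x, hx⟩
  · intro y hy b hb
    change ((y * b : K) : H) • e ≤ N
    push_cast
    rw [mul_smul]
    exact (smul_mono (hB b hb)).trans hy
  · intro s hs
    change ((s * w : K) : H) • e ≤ N
    push_cast
    exact hN s (hS s hs)
  · intro y i hy
    change (y : H) • e ≤ N
    rw [smul_le_iff]
    refine hP i _ fun z hz hzB => ?_
    have h1 : ((y * z : K) : H) • e ≤ N := hy z hz hzB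
    push_cast at h1
    rw [mul_smul, smul_le_iff] at h1
    exact h1

theorem OppM.bot (SL : Subgroup H) (e : AddSubgroup M) : OppM ⊥ SL e := by
  refine ⟨1, one_mem _, fun N hN x hx => ?_⟩
  rw [mem_bot] at hx
  rw [hx]
  have := hN 1 (one_mem _)
  rwa [one_mul] at this

theorem OppM.mono {L SL SL' : Subgroup H} {e : AddSubgroup M} (h : OppM L SL e) (hle : SL ≤ SL') : OppM L SL' e := by
  obtain ⟨w, hw, h⟩ := h
  exact ⟨w, hw, fun N hN => h N fun s hs => hN s (hle hs)⟩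

/-- commuting products -/
theorem OppM.sup {L K SL SK : Subgroup H} {e : AddSubgroup M} (h : OppM L SL e) (h' : OppM K SK e) (hSL : SL ≤ L)
    (hSK : SK ≤ K) (hc : ∀ x ∈ L, ∀ y ∈ K, x * y = y * x) : OppM (L ⊔ K) (SL ⊔ SK) e := by
  obtain ⟨w, hw, h⟩ := h
  obtain ⟨w', hw', h'⟩ := h'
  refine ⟨w * w', mul_mem (mem_sup_left hw) (mem_sup_right hw'), fun N hN x hx => ?_⟩
  have hnorm : K ≤ normalizer (L : Set H) := by
    intro y hy
    rw [mem_normalizer_iff]
    intro z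
    constructor
    · intro hz
      rw [← hc z hz y hy, mul_inv_cancel_right]
      exact hz
    · intro hz
      have h1 := hc _ hz y hy
      have h2 : z = y * z * y⁻¹ := by
        have h3 : y * z * y⁻¹ * y = y * (y * z * y⁻¹) := h1
        rw [inv_mul_cancel_right] at h3
        exact mul_left_cancel h3
      rw [h2]
      exact hz
  obtain ⟨l, hl, k, hk, rfl⟩ := mem_sup_of_normal_right' hnorm hx
  -- first `s w` fixed
  have key : ∀ s ∈ SL, ∀ k ∈ K, (s * w * k) • e ≤ N := by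
    intro s hs k hk
    rw [mul_smul, smul_le_iff]
    refine h' _ (fun s' hs' => ?_) k hk
    rw [← smul_le_iff, smul_smul]
    have e1 : s * w * (s' * w') = s * s' * (w * w') := by
      have h1 := hc w hw s' (hSK hs')
      calc s * w * (s' * w') = s * (w * s') * w' := by group
        _ = s * (s' * w) * w' := by rw [h1]
        _ = s * s' * (w * w') := by group
    rw [e1]
    exact hN _ (mul_mem (mem_sup_left hs) (mem_sup_right hs'))
  have h1 : l • e ≤ k⁻¹ • N := by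
    refine h _ (fun s hs => ?_) l hl
    rw [← smul_le_iff, smul_smul, ← hc _ (mul_mem (hSL hs) hw) k hk]
    exact key s hs k hk
  rw [hc l hl k hk, mul_smul, smul_le_iff]
  exact h1
where
  mem_sup_of_normal_right' {L K : Subgroup H} (hnorm : K ≤ normalizer (L : Set H)) {x : H} (hx : x ∈ L ⊔ K) :
      ∃ l ∈ L, ∃ k ∈ K, x = l * k := by
    have h1 : x ∈ ((L ⊔ K : Subgroup H) : Set H) := hx
    rw [Subgroup.coe_mul_of_right_le_normalizer_left L K hnorm, Set.mem_mul] at h1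
    obtain ⟨l, hl, k, hk, e⟩ := h1
    exact ⟨l, hl, k, hk, e.symm⟩

theorem OppM.biSup [Finite H] {Λ : Set (Subgroup H)} {S : Subgroup H} {e : AddSubgroup M}
    (hc : ∀ K ∈ Λ, ∀ L ∈ Λ, K ≠ L → ∀ x ∈ K, ∀ y ∈ L, x * y = y * x) (h : ∀ K ∈ Λ, OppM K (S ⊓ K) e) :
    OppM (⨆ K ∈ Λ, K) (⨆ K ∈ Λ, S ⊓ K) e := by
  classical
  have hfin : Λ.Finite := Set.toFinite Λ
  have key : ∀ F : Finset (Subgroup H), (F : Set (Subgroup H)) ⊆ Λ → OppM (⨆ K ∈ F, K) (⨆ K ∈ F, S ⊓ K) e := by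
    intro F
    induction F using Finset.induction_on with
    | empty =>
      intro _
      simpa only [_root_.Finset.notMem_empty, _root_.not_false_eq_true, _root_.iSup_neg, _root_.iSup_bot] using OppM.bot ⊥ e
    | insert K F hK ih =>
      intro hF
      rw [Finset.coe_insert, Set.insert_subset_iff] at hF
      rw [Finset.iSup_insert, Finset.iSup_insert]
      refine OppM.sup (h K hF.1) (ih hF.2) inf_le_right (iSup₂_mono fun _ _ => inf_le_right) ?_
      intro x hx y hy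
      have h1 : (⨆ L ∈ F, L) ≤ centralizer (K : Set H) := by
        refine iSup₂_le fun L hL z hz => ?_
        refine mem_centralizer_iff.2 fun k hk => ?_
        have hne : K ≠ L := by
          rintro rfl
          exact hK hL
        exact hc K hF.1 L (hF.2 hL) hne k hk z hz
      exact mem_centralizer_iff.1 (h1 hy) x hx
  have h1 := key hfin.toFinset (by rw [hfin.coe_toFinset])
  have e1 : ∀ f : Subgroup H → Subgroup H, (⨆ K ∈ hfin.toFinset, f K) = ⨆ K ∈ Λ, f K := by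
    intro f
    simp only [Set.Finite.mem_toFinset]
  rwa [e1 (fun K => K), e1 (fun K => S ⊓ K)] at h1

/-- `⟨e^L⟩ ≤ w e + [⟨e^L⟩, SL]` -/
theorem OppM.le {L SL : Subgroup H} {e : AddSubgroup M} (h : OppM L SL e) :
    ∃ w ∈ L, cl L e ≤ w • e ⊔ AddSubgroup.closure {m | ∃ s ∈ SL, ∃ x ∈ cl L e, m = s • x - x} := by
  obtain ⟨w, hw, h⟩ := h
  refine ⟨w, hw, cl_le fun g hg => h _ (fun s hs => ?_) g hg⟩
  rintro _ ⟨y, hy, rfl⟩
  change (s * w) • y ∈ _
  have h1 : w • y ∈ cl L e := smul_le_cl hw (AddSubgroup.smul_mem_pointwise_smul y w e hy)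
  have e1 : (s * w) • y = w • y + (s • w • y - w • y) := by
    rw [mul_smul]; abel
  rw [e1]
  exact add_mem (AddSubgroup.mem_sup_left (AddSubgroup.smul_mem_pointwise_smul y w e hy))
    (AddSubgroup.mem_sup_right (AddSubgroup.subset_closure ⟨s, hs, _, h1, rfl⟩))

/-- `⟨e^{w⁻¹ SL w}⟩ = M` -/
theorem OppM.top {L SL : Subgroup H} {e : AddSubgroup M} (h : OppM L SL e) (hM : cl L e = ⊤) :
    ∃ w ∈ L, cl (SL.map (MulAut.conj w⁻¹).toMonoidHom) e = ⊤ := by
  obtain ⟨w, hw, h⟩ := h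
  refine ⟨w, hw, ?_⟩
  set Sm := SL.map (MulAut.conj w⁻¹).toMonoidHom with hSm
  have h1 : cl L e ≤ w • cl Sm e := by
    refine cl_le fun g hg => h _ (fun s hs => ?_) g hg
    have h2 : w⁻¹ * s * w ∈ Sm := by
      refine ⟨s, hs, ?_⟩
      change w⁻¹ * s * w⁻¹⁻¹ = _
      rw [inv_inv]
    have e1 : s * w = w * (w⁻¹ * s * w) := by group
    rw [e1, mul_smul]
    exact smul_mono (smul_le_cl h2)
  rw [hM, top_le_iff] at h1
  rw [eq_top_iff]
  intro x _
  have h2 : w • x ∈ w • cl Sm e := by rw [h1]; exact AddSubgroup.mem_top _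
  obtain ⟨y, hy, e2⟩ := h2
  have e3 : y = x := by
    have e4 : w • y = w • x := e2
    exact smul_left_cancel w e4
  rwa [← e3]

/-- **LEMMA CEN** -/
theorem OppM.cen [Finite M] {B : Type*} [AddCommGroup B] {f : M →+ M →+ B} {L SL : Subgroup H} {e : AddSubgroup M}
    (h : OppM L SL e) (hM : cl L e = ⊤) (hSL : SL ≤ L) (hf : ∀ h ∈ L, ∀ x y : M, f (h • x) (h • y) = f x y)
    (hnd : ∀ x, (∀ y, f x y = 0) → x = 0) {U : AddSubgroup M} (hU : ∀ x, x ∈ U ↔ ∀ y ∈ e, f x y = 0)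
    (hidx : U.index ≤ Nat.card e) (hS : ∀ h ∈ SL, ∀ y ∈ e, h • y = y) {x : M} (hx : ∀ h ∈ SL, h • x = x) : x ∈ e := by
  obtain ⟨w, hw, hcl⟩ := h.top hM
  have e1 : (SL.map (MulAut.conj w⁻¹).toMonoidHom).map (MulAut.conj w).toMonoidHom = SL := by
    rw [map_map]
    convert map_id SL
    ext x
    change w * (w⁻¹ * x * w⁻¹⁻¹) * w⁻¹ = x
    group
  refine cen_eq (Sm := SL.map (MulAut.conj w⁻¹).toMonoidHom) (g := w) ?_ hnd hcl hU hidx ?_ ?_
  · rintro _ ⟨s, hs, rfl⟩ x y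
    exact hf _ (mul_mem (mul_mem (inv_mem hw) (hSL hs)) (inv_mem (inv_mem hw))) x y
  · rw [e1]; exact hS
  · rw [e1]; exact hx

end abs

/-! ### The real situation -/

section real

variable {G : Type u} [Group G] {ι : Type w} {V : Subgroup G} {R : ι → Subgroup G} {i : ι} {M B : Type u}
  [AddCommGroup M] [AddCommGroup B] [DistribMulAction (NR R i) M] [DistribMulAction (NR R i) B]
  [DistribMulAction (HQ (R i)) M] {p : G → M} {r : G → B} {f : M →+ M →+ B}

/-- the form is nondegenerate if `C(W i) ≤ R i` -/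
theorem nondeg (m : ModQ V R i M B p r f) (b : BT V R) (hC : centralizer (WW V (R i) : Set G) ≤ R i) {x : M}
    (hx : ∀ y, f x y = 0) : x = 0 := by
  obtain ⟨z, hz, rfl⟩ := (m.mem_rad b).1 hx
  have h1 : z ∈ R i := hC (mem_inf.1 hz).2
  exact (m.p_ker _ (b.R_le_W i i h1)).2 h1

theorem index_le [Finite G] (m : ModQ V R i M B p r f) (b : BT V R) :
    (m.sb (UU V R i)).index ≤ Nat.card (m.sb V) := by
  have := m.finite_M
  have h1 : (m.sb (UU V R i)).index ≤ (UU V R i).relIndex (WW V (R i)) := by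
    let g : WW V (R i) ⧸ (UU V R i).subgroupOf (WW V (R i)) → M ⧸ m.sb (UU V R i) :=
      Quotient.lift (fun w : WW V (R i) => (QuotientAddGroup.mk (p w) : M ⧸ m.sb (UU V R i))) (by
        intro w w' h
        have h' := QuotientGroup.leftRel_apply.1 h
        rw [mem_subgroupOf] at h'
        push_cast at h'
        refine QuotientAddGroup.eq.2 ?_
        rw [← m.p_inv w.2, ← m.p_mul _ (inv_mem w.2) _ w'.2]
        exact m.p_mem (mul_mem (inv_mem w.2) w'.2) h')
    have hg : Function.Surjective g := by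
      intro y
      obtain ⟨y, rfl⟩ := QuotientAddGroup.mk_surjective y
      obtain ⟨w, hw, rfl⟩ := m.p_surj y
      exact ⟨QuotientGroup.mk ⟨w, hw⟩, rfl⟩
    exact Nat.card_le_card_of_surjective g hg
  have h2 : (R i).relIndex V ≤ Nat.card (m.sb V) := by
    have hVW := V_le_WW V (R i)
    let g : V ⧸ (R i).subgroupOf V → m.sb V :=
      Quotient.lift (fun v : V => (⟨p v, m.p_mem (hVW v.2) v.2⟩ : m.sb V)) (by
        intro v v' h
        have h' := QuotientGroup.leftRel_apply.1 h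
        rw [mem_subgroupOf] at h'
        push_cast at h'
        apply Subtype.ext
        change p v = p v'
        have h3 : (p ((v : G)⁻¹ * v')) = 0 := (m.p_ker _ (mul_mem (inv_mem (hVW v.2)) (hVW v'.2))).2 h'
        rw [m.p_mul _ (inv_mem (hVW v.2)) _ (hVW v'.2), m.p_inv (hVW v.2), neg_add_eq_zero] at h3
        exact h3)
    have hg : Function.Injective g := by
      intro x y h
      obtain ⟨x, rfl⟩ := QuotientGroup.mk_surjective x
      obtain ⟨y, rfl⟩ := QuotientGroup.mk_surjective y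
      refine QuotientGroup.eq.2 ?_
      rw [mem_subgroupOf]
      have h3 : p x = p y := congrArg Subtype.val h
      have h4 : p ((x : G)⁻¹ * y) = 0 := by
        rw [m.p_mul _ (inv_mem (hVW x.2)) _ (hVW y.2), m.p_inv (hVW x.2), h3, neg_add_cancel]
      push_cast
      exact (m.p_ker _ (mul_mem (inv_mem (hVW x.2)) (hVW y.2))).1 h4
    exact Nat.card_le_card_of_injective g hg
  rw [b.relIndex_U i] at h1
  rw [b.relIndex_R_V i] at h2
  exact h1.trans h2

/-- **CenSE** from `OppM` for a group `L ≤ H⁰` with `⟨e^L⟩ = M` -/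
theorem mem_of_oppM [Finite G] {F : Type v} [Field F] {j : ι} {vv : F → F → G} {w1 w2 : F → G}
    (m : ModQ V R i M B p r f) (b : BT V R) (C : Crd V R i j vv w1 w2)
    (hC : centralizer (WW V (R i) : Set G) ≤ R i) (S₁ : Sylow 2 G)
    (hV : (S₁ : Subgroup G) ≤ normalizer (V : Set G)) (hR : (S₁ : Subgroup G) ≤ normalizer (R i : Set G))
    {L SL : Subgroup (HQ (R i))} (h : OppM L SL (m.sb V)) (hM : cl L (m.sb V) = ⊤) (hSL : SL ≤ L)
    (hL : L ≤ H0 R i) (hS : SL ≤ SS R i S₁) {x : G} (hx : x ∈ WW V (R i))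
    (hfix : ∀ s ∈ (S₁ : Subgroup G), s ∈ centralizer (R i : Set G) → s * x * s⁻¹ * x⁻¹ ∈ R i) : x ∈ V := by
  have := m.finite_M
  have h1 : p x ∈ m.sb V := by
    refine h.cen (f := f) hM hSL (fun g hg => m.f_act b (hL hg)) (fun y => nondeg m b hC)
      (fun y => (m.perp_iff b y).symm) (index_le m b) (fun s hs y hy => fix_SS b m C S₁ hV hR (hS hs) hy) ?_
    intro s hs
    obtain ⟨g, hg, hgS, rfl⟩ := mem_im.1 (hS hs)
    rw [m.act hg hx, m.p_eq_iff (conj_mem_of_normalizer (normalizer_le_WW V (R i) hg) hx) hx]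
    exact hfix g hgS.1 hgS.2
  exact (m.p_mem_iff hx (b.R_le i)).1 h1

end real

end Cfsg.Agent.Omega.Lie.SE

end

section


/-!
# NODE LIE, LEMMA CEN: the panels of a component

* `exists_mov`: a moved node of `KSys`: `a ∈ [S, T]`, `t ∈ T` such that `a`, `t a`, `a (t a)` move a chamber of the panel;
* `Pan.of_moved`: `Pan` for a moved node;
* `OppM.of_ksys`: `OppM K SK e` from `KSys` and `Opp`, if the Borel subgroup and the unmoved parabolic subgroups stabilise `e`.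
-/

set_option autoImplicit false
set_option linter.unusedSectionVars false

namespace Cfsg.Agent.Omega.Lie.SE

open Subgroup Cfsg.Agent.Omega.Lie.End Cfsg.Agent.ParSys
open scoped Pointwise

universe u v

section grp

variable {K : Type*} [Group K] {S : Subgroup K} {T : Subgroup (MulAut K)} {P : Subgroup K}

theorem AT_le (hT : ∀ t ∈ T, ∀ u ∈ S, t u ∈ S) : AT S T ≤ S := by
  unfold AT
  rw [closure_le]
  rintro _ ⟨t, ht, u, hu, rfl⟩
  exact mul_mem (inv_mem hu) (hT t ht u hu)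

theorem mem_B_of_T (hT : ∀ t ∈ T, ∀ u ∈ S, t u ∈ S) {t : MulAut K} (ht : t ∈ T) {b : K}
    (hb : b ∈ normalizer (S : Set K)) : t b ∈ normalizer (S : Set K) := by
  have h1 : ∀ u, u ∈ S ↔ t u ∈ S := fun u => ⟨hT t ht u, fun h => by
    have h2 := hT t⁻¹ (inv_mem ht) _ h
    rwa [MulAut.inv_apply_self] at h2⟩
  rw [mem_normalizer_iff] at hb ⊢
  intro x
  have h2 : x = t (t⁻¹ x) := (MulAut.apply_inv_self K t x).symm
  have h3 : t b * x * (t b)⁻¹ = t (b * t⁻¹ x * b⁻¹) := by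
    rw [map_mul, map_mul, map_inv, MulAut.apply_inv_self]
  rw [h3]
  constructor
  · intro h
    refine (h1 _).1 ((hb _).1 ?_)
    rw [h1, MulAut.apply_inv_self]
    exact h
  · intro h
    have h4 := (hb _).2 ((h1 _).2 h)
    rw [h2]
    exact (h1 _).1 h4

theorem Qk_T (hT : ∀ t ∈ T, ∀ u ∈ S, t u ∈ S) (hP : ∀ t ∈ T, ∀ x ∈ P, t x ∈ P) {t : MulAut K} (ht : t ∈ T) {x : K}
    (hx : x ∈ Qk (normalizer (S : Set K)) P) : t x ∈ Qk (normalizer (S : Set K)) P := by
  rw [mem_Qk] at hx ⊢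
  intro g hg
  have h1 := hx _ (hP t⁻¹ (inv_mem ht) g hg)
  have h2 := mem_B_of_T hT ht h1
  rwa [map_mul, map_mul, map_inv, MulAut.apply_inv_self] at h2

/-- a moved node -/
theorem exists_mov (hS : S ≤ P) (hT : ∀ t ∈ T, ∀ u ∈ S, t u ∈ S) (hP : ∀ t ∈ T, ∀ x ∈ P, t x ∈ P)
    (hT1 : ∃ t ∈ T, t ≠ 1) (hsq : ∀ a ∈ AT S T, a * a = 1)
    (hfive : 5 ≤ (normalizer (S : Set K)).relIndex P) (hptr : Hall.HallData.PTr (normalizer (S : Set K)) S P)
    (hreg : ∀ u ∈ S, ∀ g ∈ P, g ∉ normalizer (S : Set K) → g⁻¹ * u * g ∈ normalizer (S : Set K) →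
      u ∈ Qk (normalizer (S : Set K)) P) (hmov : Moved S T P) :
    ∃ a ∈ AT S T, ∃ t ∈ T, a ∈ P ∧ t a ∈ P ∧ ∃ n ∈ P, n ∉ normalizer (S : Set K) ∧
      n⁻¹ * a * n ∉ normalizer (S : Set K) ∧ n⁻¹ * t a * n ∉ normalizer (S : Set K) ∧
      n⁻¹ * (a * t a) * n ∉ normalizer (S : Set K) := by
  set B := normalizer (S : Set K) with hB
  have hSB : S ≤ B := le_normalizer
  -- a chamber `n B ≠ B`
  have h1 : ∃ n ∈ P, n ∉ B := by
    by_contra hcon
    push Not at hcon
    have h2 : B.relIndex P = 1 := relIndex_eq_one.2 hcon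
    omega
  obtain ⟨n, hn, hnB⟩ := h1
  -- `S` is not in the kernel
  have h2 : ∃ u ∈ S, u ∉ Qk B P := by
    by_contra hcon
    push Not at hcon
    have h3 : ∀ n' ∈ P, n' ∉ B → n⁻¹ * n' ∈ B := by
      intro n' hn' hn'B
      obtain ⟨u, hu, b, hb, e⟩ := hptr n hn hnB n' hn' hn'B
      have h4 := mem_Qk.1 (hcon u hu) n hn
      have e1 : n⁻¹ * n' = n⁻¹ * u * n * b := by rw [e]; group
      rw [e1]
      exact mul_mem h4 hb
    -- only two cosets
    have h4 : Nat.card (P ⧸ B.subgroupOf P) ≤ 2 := by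
      have hsurj : Function.Surjective (fun x : Bool => (if x then QuotientGroup.mk 1 else
          QuotientGroup.mk ⟨n, hn⟩ : P ⧸ B.subgroupOf P)) := by
        intro y
        obtain ⟨⟨y, hy⟩, rfl⟩ := QuotientGroup.mk_surjective y
        by_cases hyB : y ∈ B
        · refine ⟨true, ?_⟩
          simp only [if_true]
          refine QuotientGroup.eq.2 ?_
          rw [mem_subgroupOf]
          push_cast
          rw [inv_one, one_mul]
          exact hyB
        · refine ⟨false, ?_⟩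
          simp only [Bool.false_eq_true, if_false]
          refine QuotientGroup.eq.2 ?_
          rw [mem_subgroupOf]
          exact h3 y hy hyB
      have h5 := Nat.card_le_card_of_surjective _ hsurj
      simpa only [_root_.ge_iff_le, _root_.Nat.card_eq_fintype_card, _root_.Fintype.card_bool] using h5
    have h5 : B.relIndex P = Nat.card (P ⧸ B.subgroupOf P) := rfl
    omega
  obtain ⟨u, hu, huQ⟩ := h2
  obtain ⟨t, ht, ht1⟩ := hT1
  have ha : u⁻¹ * t u ∈ AT S T := subset_closure ⟨t, ht, u, hu, rfl⟩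
  set a := u⁻¹ * t u with ha_def
  have haQ : a ∉ Qk B P := fun h => huQ (hmov t ht ht1 u hu h)
  have haS : a ∈ S := AT_le hT ha
  have hbS : t a ∈ S := hT t ht a haS
  have hbQ : t a ∉ Qk B P := by
    intro h
    have h3 := Qk_T hT hP (inv_mem ht) h
    rw [MulAut.inv_apply_self] at h3
    exact haQ h3
  have habQ : a * t a ∉ Qk B P := by
    intro h
    have h3 : a = a⁻¹ := (inv_eq_of_mul_eq_one_left (hsq a ha)).symm
    rw [h3, map_inv] at h
    have h4 : a⁻¹ * (t a)⁻¹ ∈ Qk B P := h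
    have h5 : (t a)⁻¹ = t a := by
      rw [← map_inv, ← h3]
    rw [h5] at h4
    exact haQ (hmov t ht ht1 a haS h4)
  refine ⟨a, ha, t, ht, hS haS, hS hbS, n, hn, hnB, fun h => haQ (hreg _ haS n hn hnB h),
    fun h => hbQ (hreg _ hbS n hn hnB h), fun h => habQ (hreg _ (mul_mem haS hbS) n hn hnB h)⟩

end grp

section mod

variable {H : Type v} {M : Type u} [Group H] [AddCommGroup M] [DistribMulAction H M] {K : Subgroup H}
  {S : Subgroup K} {T : Subgroup (MulAut K)} {A T' : Subgroup H} {e : AddSubgroup M}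

/-- `Pan` for a moved node -/
theorem Pan.of_moved {P : Subgroup K} (hS : S ≤ P) (hT : ∀ t ∈ T, ∀ u ∈ S, t u ∈ S)
    (hP : ∀ t ∈ T, ∀ x ∈ P, t x ∈ P) (hT1 : ∃ t ∈ T, t ≠ 1) (hsq : ∀ a ∈ AT S T, a * a = 1)
    (hfive : 5 ≤ (normalizer (S : Set K)).relIndex P) (hptr : Hall.HallData.PTr (normalizer (S : Set K)) S P)
    (hreg : ∀ u ∈ S, ∀ g ∈ P, g ∉ normalizer (S : Set K) → g⁻¹ * u * g ∈ normalizer (S : Set K) →
      u ∈ Qk (normalizer (S : Set K)) P) (hmov : Moved S T P)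
    (hA : ∀ a ∈ AT S T, (a : H) ∈ A) (hTT : ∀ t ∈ T, ∃ t' ∈ T', ∀ x : K, ((t x : K) : H) = t' * x * t'⁻¹)
    (hq : ∀ a ∈ A, ∀ t ∈ T', ∀ m : M, m + a • m + (t * a * t⁻¹) • m + (a * (t * a * t⁻¹)) • m ∈ e) :
    Pan (normalizer (S : Set K)) P e := by
  obtain ⟨a, ha, t, ht, haP, hbP, n, hn, hnB, h1, h2, h3⟩ := exists_mov hS hT hP hT1 hsq hfive hptr hreg hmov
  obtain ⟨t', ht', e1⟩ := hTT t ht
  refine Pan.of_mov haP hbP hn hnB h1 h2 h3 fun m => ?_
  rw [e1 a]
  exact hq _ (hA a ha) t' ht' m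

/-- `OppM` for a component -/
theorem OppM.of_ksys {J : Type} {P : J → Subgroup K} {mm : J → J → ℕ} (ks : KSys S T P mm)
    (hopp : Opp (normalizer (S : Set K)) S P) (hT : ∀ t ∈ T, ∀ u ∈ S, t u ∈ S)
    (hT1 : ∃ t ∈ T, t ≠ 1) (hsq : ∀ a ∈ AT S T, a * a = 1) (hA : ∀ a ∈ AT S T, (a : H) ∈ A)
    (hTT : ∀ t ∈ T, ∃ t' ∈ T', ∀ x : K, ((t x : K) : H) = t' * x * t'⁻¹)
    (hq : ∀ a ∈ A, ∀ t ∈ T', ∀ m : M, m + a • m + (t * a * t⁻¹) • m + (a * (t * a * t⁻¹)) • m ∈ e)
    (hB : ∀ b ∈ normalizer (S : Set K), (b : H) • e ≤ e)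
    (hU : ∀ i, Unmoved S T (P i) → ∀ y ∈ P i, (y : H) • e ≤ e) {SK : Subgroup H} (hSK : ∀ s ∈ S, (s : H) ∈ SK) :
    OppM K SK e := by
  refine OppM.of_opp hopp hB (fun i => ?_) hSK
  rcases ks.dich i with h | h
  · refine Pan.of_fix ?_ (hU i h)
    by_contra hcon
    push Not at hcon
    have h2 : (normalizer (S : Set K)).relIndex (P i) = 1 := relIndex_eq_one.2 hcon
    have h3 := ks.five i
    omega
  · exact Pan.of_moved (le_normalizer.trans (ks.le i)) hT (ks.T_P i) hT1 hsq (ks.five i) (ks.ptr i) (ks.reg i) h hA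
      hTT hq

end mod

end Cfsg.Agent.Omega.Lie.SE

end

end

-- merged: Cfsg.Agent.Mrg.Omega.Lie.SEAll
section

/-!
# NODE LIE: `CenSE` from the layer, the K-side and THEOREM FIX

`FixM m j T` : THEOREM FIX (bb OMEGA #15651) for an arbitrary group `Γ ≥ T`: if the orbit of `e` under `Γ` has odd length and
`A` centralises all its members, then `Γ` stabilises `e`.

* `stab_of_fix` : `N_H(S ∩ ⟨A^H⟩)` stabilises `e`;
* `unm_of_fix` : the unmoved parabolic subgroups of the moved components stabilise `e`;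
* `mem_of_fix` : the conclusion of `CenSE` at the point `i`.
-/

set_option autoImplicit false
set_option linter.unusedSectionVars false

namespace Cfsg.Agent.Omega.Lie.SE

open Subgroup Cfsg Cfsg.Agent.Omega.BTwo Cfsg.Agent.Omega.Lie.Quot Cfsg.Agent.Omega.Lie.LemN Cfsg.Agent.Omega.Lie.End
open Cfsg.Agent.Omega.Lie.End.OfLay Cfsg.Agent.Omega.Lie.End.AHat Cfsg.Agent.ParSys Cfsg.Agent.Omega.IIa4
open scoped Pointwise

universe u v w

section grp

variable {H : Type*} [Group H]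

theorem sup_eq_mul {P T : Subgroup H} (hT : T ≤ normalizer (P : Set H)) {x : H} (hx : x ∈ P ⊔ T) :
    ∃ y ∈ P, ∃ t ∈ T, x = y * t := by
  rw [← SetLike.mem_coe, coe_mul_of_right_le_normalizer_left P _ hT] at hx
  obtain ⟨y, hy, t, ht, rfl⟩ := hx
  exact ⟨y, hy, t, ht, rfl⟩

/-- relative indices in `P T`, `T` of odd order normalising `P` -/
theorem odd_relIndex_sup [Finite H] {S P T : Subgroup H} (hSP : S ≤ P) (hT : T ≤ normalizer (P : Set H))
    (h1 : Odd (S.relIndex P)) (h2 : Odd (Nat.card T)) : Odd ((S ⊔ T).relIndex (P ⊔ T)) := by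
  have hn : (P.subgroupOf (P ⊔ T)).Normal :=
    (normal_subgroupOf_iff_le_normalizer le_sup_left).2 (sup_le le_normalizer hT)
  have h3 : P.relIndex (P ⊔ T) ∣ Nat.card T := by
    -- `T` maps onto `P T / P`
    have hsurj : Function.Surjective ((QuotientGroup.mk' (P.subgroupOf (P ⊔ T))).comp
        (inclusion (le_sup_right : T ≤ P ⊔ T))) := by
      intro q
      obtain ⟨⟨x, hx⟩, rfl⟩ := QuotientGroup.mk'_surjective _ q
      obtain ⟨y, hy, t, ht, rfl⟩ := sup_eq_mul hT hx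
      refine ⟨⟨t, ht⟩, ?_⟩
      change QuotientGroup.mk _ = QuotientGroup.mk _
      rw [QuotientGroup.eq, mem_subgroupOf]
      change t⁻¹ * (y * t) ∈ P
      have h4 := (mem_normalizer_iff.1 (inv_mem (hT ht)) y).1 hy
      rwa [inv_inv, mul_assoc] at h4
    exact card_dvd_of_surjective _ hsurj
  have h4 : Odd (S.relIndex (P ⊔ T)) := by
    rw [← relIndex_mul_relIndex S P (P ⊔ T) hSP le_sup_left]
    exact h1.mul (h2.of_dvd_nat h3)
  have h5 : (S ⊔ T).relIndex (P ⊔ T) ∣ S.relIndex (P ⊔ T) := relIndex_dvd_of_le_left _ le_sup_left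
  exact h4.of_dvd_nat h5

/-- a product of subgroups of pairwise commuting groups is normalised by the elements of one of them which normalise
their part -/
theorem norm_biSup [Finite H] {Λ : Set (Subgroup H)} {S K : Subgroup H} (hK : K ∈ Λ)
    (hc : ∀ K ∈ Λ, ∀ L ∈ Λ, K ≠ L → ∀ x ∈ K, ∀ y ∈ L, x * y = y * x) {b : H} (hb : b ∈ K)
    (hbN : b ∈ normalizer ((S ⊓ K : Subgroup H) : Set H)) :
    b ∈ normalizer ((⨆ L ∈ Λ, S ⊓ L : Subgroup H) : Set H) := by
  refine mem_normalizer_of_conj fun x hx => ?_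
  have h1 : (⨆ L ∈ Λ, S ⊓ L).map (MulAut.conj b).toMonoidHom ≤ ⨆ L ∈ Λ, S ⊓ L := by
    rw [Subgroup.map_iSup]
    refine iSup_le fun L => ?_
    rw [Subgroup.map_iSup]
    refine iSup_le fun hL => ?_
    have h2 : (S ⊓ L).map (MulAut.conj b).toMonoidHom ≤ S ⊓ L := by
      rintro _ ⟨y, hy, rfl⟩
      change b * y * b⁻¹ ∈ S ⊓ L
      by_cases hKL : K = L
      · subst hKL
        exact BTwo.conj_mem_of_normalizer hbN hy
      · rw [hc K hK L hL hKL b hb y hy.2, mul_inv_cancel_right]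
        exact hy
    exact h2.trans (le_iSup₂ (f := fun (L : Subgroup H) (_ : L ∈ Λ) => S ⊓ L) L hL)
  exact h1 ⟨x, hx, rfl⟩

/-- an unmoved parabolic subgroup: `A` is contained in a subgroup `X ≤ S` normalised by `P` and `T` -/
theorem exists_X [Finite H] {S A T K : Subgroup H} (h : CompB.Hyp S A T K) {P : Subgroup K}
    (hTP : ∀ t ∈ Tact T K, ∀ x ∈ P, t x ∈ P) (hu : Unmoved (S.subgroupOf K) (Tact T K) P) :
    ∃ X : Subgroup H, A ≤ X ∧ X ≤ S ∧ P.map K.subtype ⊔ T ≤ normalizer (X : Set H) := by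
  set SK := S.subgroupOf K with hSK
  set B := normalizer (SK : Set K) with hB
  set O := Qk B P ⊓ SK with hO
  have hTS : ∀ τ ∈ Tact T K, ∀ u ∈ SK, τ u ∈ SK := by
    intro τ hτ u hu
    obtain ⟨t, ht, -, h1⟩ := mem_Tact.1 hτ
    rw [hSK, mem_subgroupOf, h1]
    exact h.TS t ht u (mem_subgroupOf.1 hu)
  refine ⟨O.map K.subtype ⊔ (A ⊓ centralizer (K : Set H)), ?_, ?_, ?_⟩
  · intro a ha
    obtain ⟨b, hb, c, hc, hcK, rfl⟩ := h.decomp ha
    refine mul_mem (mem_sup_left ⟨⟨b, hb.2⟩, ⟨?_, mem_subgroupOf.2 (h.AS hb.1)⟩, rfl⟩)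
      (mem_sup_right ⟨hc, mem_centralizer_iff.2 fun x hx => (hcK x hx).symm⟩)
    have h1 : AT SK (Tact T K) ≤ Qk B P := by
      unfold AT
      rw [closure_le]
      rintro _ ⟨t, ht, u, hu', rfl⟩
      exact hu t ht u hu'
    apply h1
    rw [AT_eq h]
    exact mem_subgroupOf.2 hb
  · refine sup_le ?_ (inf_le_left.trans h.AS)
    rintro _ ⟨x, hx, rfl⟩
    exact mem_subgroupOf.1 hx.2
  · refine sup_le ?_ ?_
    · rintro _ ⟨y, hy, rfl⟩
      have key : (O.map K.subtype ⊔ (A ⊓ centralizer (K : Set H))).map (MulAut.conj (y : H)).toMonoidHom ≤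
          O.map K.subtype ⊔ (A ⊓ centralizer (K : Set H)) := by
        rw [Subgroup.map_sup]
        refine sup_le ?_ ?_
        · rintro _ ⟨_, ⟨o, ho, rfl⟩, rfl⟩
          refine mem_sup_left ⟨y * o * y⁻¹, ⟨?_, ?_⟩, by simp only [_root_.Subgroup.subtype_apply, _root_.Subgroup.coe_mul, _root_.InvMemClass.coe_inv, _root_.MulEquiv.toMonoidHom_eq_coe, _root_.MonoidHom.coe_coe, _root_.MulAut.conj_apply]⟩
          · refine mem_Qk.2 fun g hg => ?_
            have h1 := mem_Qk.1 ho.1 (y⁻¹ * g) (mul_mem (inv_mem hy) hg)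
            have e : (y⁻¹ * g)⁻¹ * o * (y⁻¹ * g) = g⁻¹ * (y * o * y⁻¹) * g := by group
            rwa [e] at h1
          · have h1 : y * o * y⁻¹ ∈ B := by
              have h2 := mem_Qk.1 ho.1 y⁻¹ (inv_mem hy)
              rwa [inv_inv] at h2
            obtain ⟨n, hn⟩ := h.S2 ⟨(o : H), mem_subgroupOf.1 ho.2⟩
            have hn' : (o : H) ^ 2 ^ n = 1 := congrArg Subtype.val hn
            have h3 : ∀ z : K, z ∈ B → ∀ x, x ∈ S ⊓ K → (z : H) * x * (z : H)⁻¹ ∈ S ⊓ K := by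
              intro z hz x hx
              have h4 := (mem_normalizer_iff.1 hz ⟨x, hx.2⟩).1 (mem_subgroupOf.2 hx.1)
              exact ⟨mem_subgroupOf.1 h4, K.mul_mem (K.mul_mem z.2 hx.2) (K.inv_mem z.2)⟩
            refine mem_subgroupOf.2 (h.mem_of_normalizes (n := n) (SetLike.coe_mem _) ?_ (h3 _ h1) fun x hx => ?_)
            · push_cast
              rw [conj_pow, hn', mul_one, mul_inv_cancel]
            · have h5 := h3 _ (inv_mem h1) x hx
              push_cast at h5 ⊢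
              rwa [inv_inv] at h5
        · rintro _ ⟨c, hc, rfl⟩
          refine mem_sup_right ?_
          have h1 : (MulAut.conj (y : H)).toMonoidHom c = c := by
            change (y : H) * c * (y : H)⁻¹ = c
            rw [mem_centralizer_iff.1 hc.2 y y.2, mul_inv_cancel_right]
          rw [h1]
          exact hc
      exact BTwo.mem_normalizer_of_conj fun x hx => key ⟨x, hx, rfl⟩
    · intro t ht
      have key : (O.map K.subtype ⊔ (A ⊓ centralizer (K : Set H))).map (MulAut.conj t).toMonoidHom ≤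
          O.map K.subtype ⊔ (A ⊓ centralizer (K : Set H)) := by
        rw [Subgroup.map_sup]
        refine sup_le ?_ ?_
        · rintro _ ⟨_, ⟨o, ho, rfl⟩, rfl⟩
          have hτ : K.normalizerMonoidHom ⟨t, OfLay.T_le h.toPre ht⟩ ∈ Tact T K :=
            mem_Tact.2 ⟨t, ht, OfLay.T_le h.toPre ht, fun x => rfl⟩
          exact mem_sup_left ⟨K.normalizerMonoidHom ⟨t, OfLay.T_le h.toPre ht⟩ o,
            ⟨Qk_T hTS hTP hτ ho.1, hTS _ hτ o ho.2⟩, rfl⟩
        · rintro _ ⟨c, hc, rfl⟩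
          refine mem_sup_right ⟨h.TA t ht c hc.1, mem_centralizer_iff.2 fun x hx => ?_⟩
          change x * (t * c * t⁻¹) = t * c * t⁻¹ * x
          have h1 : t⁻¹ * x * t ∈ K := by
            have h2 := (mem_normalizer_iff.1 (inv_mem (OfLay.T_le h.toPre ht)) x).1 hx
            rwa [inv_inv] at h2
          have h2 := mem_centralizer_iff.1 hc.2 _ h1
          calc x * (t * c * t⁻¹) = t * (t⁻¹ * x * t * c) * t⁻¹ := by group
            _ = t * (c * (t⁻¹ * x * t)) * t⁻¹ := by rw [h2]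
            _ = t * c * t⁻¹ * x := by group
      exact BTwo.mem_normalizer_of_conj fun x hx => key ⟨x, hx, rfl⟩

/-- a subgroup `≠ 1` of `S` normalised by `N(S)` contains `S`, if `K ≅ L₂(2ⁿ)` -/
theorem le_of_exc {K : Type*} [Group K] [Finite K] {S : Sylow 2 K} {T : Subgroup (MulAut K)}
    (h : KExc K (S : Subgroup K) T) {X : Subgroup K}
    (hX : ∀ b ∈ normalizer ((S : Subgroup K) : Set K), ∀ x ∈ X, b * x * b⁻¹ ∈ X)
    (hne : ∃ x ∈ X, x ∈ (S : Subgroup K) ∧ x ≠ 1) : (S : Subgroup K) ≤ X := by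
  obtain ⟨-, -, F, _, _, hF, ⟨e₀⟩⟩ := h
  have hc : CharP F 2 := ringChar.of_eq hF
  obtain ⟨e₁⟩ := EH3.Rank1.LTwo.psl_equiv (F := F)
  have e := e₀.trans e₁
  obtain ⟨Q, hQ⟩ := LTwoSide.sylow_eq e
  obtain ⟨g, hg⟩ := MulAction.exists_smul_eq K Q S
  have hS : ∀ x, x ∈ (S : Subgroup K) ↔ ((MulAut.conj g⁻¹).trans e) x ∈ EH3.Rank1.LTwo.U F := by
    intro x
    have h1 : x ∈ (S : Subgroup K) ↔ g⁻¹ * x * g ∈ Q := by
      rw [← hg]
      show x ∈ MulAut.conj g • (Q : Subgroup K) ↔ _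
      rw [Subgroup.mem_pointwise_smul_iff_inv_smul_mem]
      show ((MulAut.conj g)⁻¹ x ∈ (Q : Subgroup K)) ↔ _
      rw [MulAut.conj_inv_apply]
      rfl
    rw [h1, hQ]
    show e (g⁻¹ * x * g) ∈ EH3.Rank1.LTwo.U F ↔ e (g⁻¹ * x * g⁻¹⁻¹) ∈ EH3.Rank1.LTwo.U F
    rw [inv_inv]
  have co := LTwoSide.co hS
  obtain ⟨x, hxX, hxS, hx1⟩ := hne
  obtain ⟨c, hc⟩ := (co.mem x).1 hxS
  have hc0 : c ≠ 0 := by
    rintro rfl
    exact hx1 (hc.symm.trans co.zero)
  intro u hu
  obtain ⟨a, ha⟩ := (co.mem u).1 hu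
  by_cases ha0 : a = 0
  · rw [← ha, ha0, co.zero]; exact one_mem _
  · obtain ⟨d, hd, hd'⟩ := co.dia (a * c⁻¹) (mul_ne_zero ha0 (inv_ne_zero hc0))
    have h1 := hX d hd x hxX
    rw [← hc, hd', inv_mul_cancel_right₀ hc0, ha] at h1
    exact h1

end grp

section real

variable {G : Type u} [Group G] {ι : Type w} {V : Subgroup G} {R : ι → Subgroup G} {i j : ι} {M B : Type u}
  [AddCommGroup M] [AddCommGroup B] [DistribMulAction (NR R i) M] [DistribMulAction (NR R i) B]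
  [DistribMulAction (HQ (R i)) M] {p : G → M} {r : G → B} {f : M →+ M →+ B} {F : Type v} [Field F]
  {vv : F → F → G} {w1 w2 t : F → G}

/-- THEOREM FIX for the point `i` (`T` the torus in `H`) -/
def FixM (m : ModQ V R i M B p r f) (j : ι) (T : Subgroup (HQ (R i))) : Prop :=
  ∀ Γ Γ₀ : Subgroup (HQ (R i)), T ≤ Γ → Γ₀ ≤ Γ → Odd (Γ₀.relIndex Γ) → (∀ γ ∈ Γ₀, γ • m.sb V ≤ m.sb V) →
    (∀ γ ∈ Γ, ∀ a ∈ AA V R i j, ∀ x ∈ m.sb V, a • γ • x = γ • x) → ∀ γ ∈ Γ, γ • m.sb V ≤ m.sb V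

theorem TT_le_NE (b : BT V R) (τ : TorD V R i j vv t) : TT τ ≤ NE V R i := by
  intro x hx
  obtain ⟨a, ha, rfl⟩ := (mem_TT τ).1 hx
  exact pr_mem_im _ (b.X_le_NV (τ.memX a ha))

/-- `h` stabilising `e` normalises `A` -/
theorem norm_A_of_stab [Finite G] (m : ModQ V R i M B p r f) (b : BT V R) (hij : i ≠ j) {h : HQ (R i)}
    (hh : h • m.sb V ≤ m.sb V) {a : HQ (R i)} (ha : a ∈ AA V R i j) : h * a * h⁻¹ ∈ AA V R i j := by
  obtain ⟨g, hg, rfl⟩ := exists_pr h
  have hV : g ∈ normalizer (V : Set G) := by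
    refine BTwo.mem_normalizer_of_conj fun y hy => ?_
    have hyW := V_le_WW V (R i) hy
    have h1 := hh (AddSubgroup.smul_mem_pointwise_smul _ (pr (R i) ⟨g, hg⟩) _ (m.p_mem hyW hy))
    rw [m.act hg hyW] at h1
    exact (m.p_mem_iff (BTwo.conj_mem_of_normalizer (normalizer_le_WW V (R i) hg) hyW) (b.R_le i)).1 h1
  obtain ⟨u, hu, rfl⟩ := (mem_AA b).1 ha
  rw [← ModQ.im_Y b hij]
  have h3 : g * u * g⁻¹ ∈ YY V R := BTwo.conj_mem_of_normalizer (b.NV_le_NY hV) (UU_le_YY j hu)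
  exact pr_mem_im (mul_mem (mul_mem hg (U_le_N b i j hu)) (inv_mem hg)) h3

/-- `M = ⟨e^E⟩` if `H = N E` and `N` stabilises `e` -/
theorem cl_eq_top (m : ModQ V R i M B p r f) {N E : Subgroup (HQ (R i))} [E.Normal]
    (hN : ∀ h ∈ N, h • m.sb V ≤ m.sb V) (hNE : N ⊔ E = ⊤) : cl E (m.sb V) = ⊤ := by
  refine m.toModFr.gen (fun h a ha => ?_) (le_cl _ _)
  rw [← m.pr_smul h a]
  have h1 : pr (R i) h ∈ E ⊔ N := by rw [sup_comm, hNE]; exact mem_top _
  have h2 : N ≤ normalizer (E : Set (HQ (R i))) := fun x _ =>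
    mem_normalizer_iff.2 fun y => ⟨fun hy => Normal.conj_mem inferInstance y hy x, fun hy => by
      have h3 := Normal.conj_mem (inferInstance : E.Normal) _ hy x⁻¹
      have e : x⁻¹ * (x * y * x⁻¹) * x⁻¹⁻¹ = y := by group
      rwa [e] at h3⟩
  obtain ⟨x, hx, n, hn, e1⟩ := sup_eq_mul h2 h1
  rw [e1]
  have h3 : (x * n) • cl E (m.sb V) ≤ cl E (m.sb V) := by
    refine smul_cl_le fun g hg => ?_
    have e2 : (x * n) • g • m.sb V = (x * (n * g * n⁻¹)) • (n • m.sb V) := by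
      rw [smul_smul, smul_smul]
      congr 1
      group
    rw [e2]
    refine (smul_mono (hN n hn)).trans (smul_le_cl (mul_mem hx ?_))
    exact Normal.conj_mem inferInstance g hg n
  exact h3 (AddSubgroup.smul_mem_pointwise_smul a (x * n) _ ha)

section main

variable [Finite G] (m : ModQ V R i M B p r f) (b : BT V R) (C : Coord V R i j vv w1 w2) (τ : TorD V R i j vv t)
  (S₁ : Sylow 2 G) (hV : (S₁ : Subgroup G) ≤ normalizer (V : Set G))
  (hR : (S₁ : Subgroup G) ≤ normalizer (R i : Set G)) (hfix : FixM m j (TT τ))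

/-- the normal closure of `A` -/
abbrev NN (V : Subgroup G) (R : ι → Subgroup G) (i j : ι) : Subgroup (HQ (R i)) :=
  normalClosure (AA V R i j : Set (HQ (R i)))

theorem A_le_NN : AA V R i j ≤ NN V R i j := subset_normalClosure

theorem NN_le_H0 (b : BT V R) : NN V R i j ≤ H0 R i := by
  have := Layer.H0_normal R i
  exact normalClosure_le_normal (ModQ.A_le_H0 b j)

include m b C S₁ hV hR hfix

/-- **`N_H(S ∩ ⟨A^H⟩)` stabilises `e`** -/
theorem stab_of_fix {γ : HQ (R i)}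
    (hγ : γ ∈ normalizer ((SS R i S₁ ⊓ NN V R i j : Subgroup (HQ (R i))) : Set (HQ (R i)))) :
    γ • m.sb V ≤ m.sb V := by
  have hfact : Fact (Nat.Prime 2) := ⟨Nat.prime_two⟩
  have hnN : ∀ x : HQ (R i), ∀ y ∈ NN V R i j, x * y * x⁻¹ ∈ NN V R i j := fun x y hy =>
    Normal.conj_mem inferInstance y hy x
  obtain ⟨P, hP⟩ := Quot.exists_sylow S₁ hR
  have hPS : (P : Subgroup (HQ (R i))) ⊓ H0 R i = SS R i S₁ := by
    rw [hP]; exact (im_inf (QQ_le_sylow S₁ hR) (Q_le_C b i)).symm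
  have hPN : (P : Subgroup (HQ (R i))) ≤
      normalizer ((SS R i S₁ ⊓ NN V R i j : Subgroup (HQ (R i))) : Set (HQ (R i))) := by
    intro x hx
    refine BTwo.mem_normalizer_of_conj fun y hy => ⟨?_, hnN x y hy.2⟩
    have h1 : y ∈ (P : Subgroup (HQ (R i))) ⊓ H0 R i := by rw [hPS]; exact hy.1
    rw [← hPS]
    exact ⟨(P : Subgroup (HQ (R i))).mul_mem ((P : Subgroup (HQ (R i))).mul_mem hx h1.1)
      ((P : Subgroup (HQ (R i))).inv_mem hx), (Layer.H0_normal R i).conj_mem y h1.2 x⟩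
  refine hfix (normalizer ((SS R i S₁ ⊓ NN V R i j : Subgroup (HQ (R i))) : Set (HQ (R i)))) P ?_ hPN ?_ ?_ ?_ γ hγ
  · intro x hx
    exact BTwo.mem_normalizer_of_conj fun y hy => ⟨TS_mem b τ (Crd.of_coord C) S₁ hV hR hx hy.1, hnN x y hy.2⟩
  · have h1 := P.not_dvd_index
    rw [← even_iff_two_dvd, Nat.not_even_iff_odd] at h1
    exact h1.of_dvd_nat (relIndex_dvd_index_of_le hPN)
  · intro x hx
    rw [hP] at hx
    exact (NE_smul m (im_mono hV hx)).le
  · intro γ hγ a ha x hx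
    have h1 : γ⁻¹ * a * γ ∈ SS R i S₁ ⊓ NN V R i j := by
      have h2 := (mem_normalizer_iff.1 (inv_mem hγ) a).1 ⟨A_le_S b S₁ i j hV ha, A_le_NN ha⟩
      rwa [inv_inv] at h2
    have h3 := fix_SS b m (Crd.of_coord C) S₁ hV hR h1.1 hx
    rw [mul_smul, mul_smul, inv_smul_eq_iff] at h3
    exact h3

/-- **the unmoved parabolic subgroups of the moved components stabilise `e`** -/
theorem unm_of_fix [Finite F] [CharP F 2] (l : Lay V R i j (TT τ) (SS R i S₁)) {K : Subgroup (HQ (R i))}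
    (hK : MComp V R i j K) {P : Subgroup K} (hP : normalizer ((SS R i S₁).subgroupOf K : Set K) ≤ P)
    (hTP : ∀ t ∈ Tact (TT τ) K, ∀ x ∈ P, t x ∈ P)
    (hu : Unmoved ((SS R i S₁).subgroupOf K) (Tact (TT τ) K) P) {y : K} (hy : y ∈ P) :
    (y : HQ (R i)) • m.sb V ≤ m.sb V := by
  have hh := l.hyp K hK
  obtain ⟨X, hAX, hXS, hXN⟩ := exists_X hh hTP hu
  have hS_NE : SS R i S₁ ≤ NE V R i := im_mono (inf_le_left.trans hV)
  have h1 : SS R i S₁ ⊓ K ≤ P.map K.subtype := fun x hx =>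
    ⟨⟨x, hx.2⟩, hP (le_normalizer (mem_subgroupOf.2 hx.1)), rfl⟩
  have hTN : TT τ ≤ normalizer ((P.map K.subtype : Subgroup (HQ (R i))) : Set (HQ (R i))) := by
    intro t ht
    refine BTwo.mem_normalizer_of_conj ?_
    rintro _ ⟨x, hx, rfl⟩
    exact ⟨K.normalizerMonoidHom ⟨t, OfLay.T_le hh.toPre ht⟩ x,
      hTP _ (mem_Tact.2 ⟨t, ht, OfLay.T_le hh.toPre ht, fun x => rfl⟩) x hx, rfl⟩
  have h2 : Odd ((SS R i S₁ ⊓ K).relIndex (P.map K.subtype)) := by
    obtain ⟨P₀, hP₀⟩ := OfLay.exists_sylow hh.toPre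
    have hfact : Fact (Nat.Prime 2) := ⟨Nat.prime_two⟩
    have h3 := P₀.not_dvd_index
    rw [hP₀, ← even_iff_two_dvd, Nat.not_even_iff_odd] at h3
    have h4 : (SS R i S₁ ⊓ K).relIndex (P.map K.subtype) = ((SS R i S₁).subgroupOf K).relIndex P := by
      rw [← subgroupOf_map_subtype]
      exact relIndex_map_map_of_injective _ _ K.subtype_injective
    rw [h4]
    exact h3.of_dvd_nat (relIndex_dvd_index_of_le (le_normalizer.trans hP))
  refine hfix (P.map K.subtype ⊔ TT τ) ((SS R i S₁ ⊓ K) ⊔ TT τ) le_sup_right (sup_le_sup_right h1 _)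
    (odd_relIndex_sup h1 hTN h2 (odd_TT b τ)) ?_ ?_ y (mem_sup_left ⟨y, hy, rfl⟩)
  · intro γ hγ
    exact (NE_smul m ((sup_le (inf_le_left.trans hS_NE) (TT_le_NE b τ) : (SS R i S₁ ⊓ K) ⊔ TT τ ≤ NE V R i) hγ)).le
  · intro γ hγ a ha x hx
    have h3 : γ⁻¹ * a * γ ∈ X := by
      have h4 := (mem_normalizer_iff.1 (inv_mem (hXN hγ)) a).1 (hAX ha)
      rwa [inv_inv] at h4
    have h5 := fix_SS b m (Crd.of_coord C) S₁ hV hR (hXS h3) hx
    rw [mul_smul, mul_smul, inv_smul_eq_iff] at h5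
    exact h5

omit hfix m C S₁ hV hR in
theorem hat (hij : i ≠ j) {S T : Subgroup (HQ (R i))} (l : Lay V R i j T S) :
    AHat.Dat (H0 R i) S (AA V R i j) T where
  O2 := pCore_HQ (R i)
  norm := Layer.H0_normal R i
  A_le := ModQ.A_le_H0 b j
  sq _ ha := A_sq b hij ha
  odd := l.odd
  hyp K hK := l.hyp K hK

omit hfix m C in
/-- **Frattini** for `S ∩ ⟨A^H⟩` -/
theorem frattini_NN :
    normalizer ((SS R i S₁ ⊓ NN V R i j : Subgroup (HQ (R i))) : Set (HQ (R i))) ⊔ NN V R i j = ⊤ := by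
  obtain ⟨P, hP⟩ := Quot.exists_sylow S₁ hR
  have hPS : (P : Subgroup (HQ (R i))) ⊓ H0 R i = SS R i S₁ := by
    rw [hP]; exact (im_inf (QQ_le_sylow S₁ hR) (Q_le_C b i)).symm
  have h1 := ThmD.frattini P (NN V R i j)
  have h2 : (P : Subgroup (HQ (R i))) ⊓ NN V R i j = SS R i S₁ ⊓ NN V R i j := by
    rw [← hPS, inf_assoc, inf_eq_right.2 (NN_le_H0 b)]
  rwa [h2] at h1

/-- `M = ⟨e^⟨A^H⟩⟩` -/
theorem cl_NN : cl (NN V R i j) (m.sb V) = ⊤ :=
  cl_eq_top m (N := normalizer ((SS R i S₁ ⊓ NN V R i j : Subgroup (HQ (R i))) : Set (HQ (R i))))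
    (E := NN V R i j) (fun _ hh => stab_of_fix m b C τ S₁ hV hR hfix hh) (frattini_NN b S₁ hV hR)

/-- the moved components are permuted by `H` -/
theorem inv_NN (l : Lay V R i j (TT τ) (SS R i S₁)) {K : Subgroup (HQ (R i))} (hK : Mov (AA V R i j) (H0 R i) K)
    (h : HQ (R i)) : Mov (AA V R i j) (H0 R i) (cg h K) := by
  refine (hat b C.ne l).inv_of_fac (fun h => ?_) hK h
  have h1 : h ∈ NN V R i j ⊔
      normalizer ((SS R i S₁ ⊓ NN V R i j : Subgroup (HQ (R i))) : Set (HQ (R i))) := by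
    rw [sup_comm, frattini_NN b S₁ hV hR]; exact mem_top _
  have h2 : normalizer ((SS R i S₁ ⊓ NN V R i j : Subgroup (HQ (R i))) : Set (HQ (R i))) ≤
      normalizer ((NN V R i j : Subgroup (HQ (R i))) : Set (HQ (R i))) := fun x _ =>
    BTwo.mem_normalizer_of_conj fun y hy => Normal.conj_mem inferInstance y hy x
  obtain ⟨x, hx, n, hn, rfl⟩ := sup_eq_mul h2 h1
  exact ⟨x, hx, n, fun a ha => norm_A_of_stab m b C.ne (stab_of_fix m b C τ S₁ hV hR hfix hn) ha, rfl⟩

/-- **the Borel subgroups of the moved components stabilise `e`** -/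
theorem borel_stab (l : Lay V R i j (TT τ) (SS R i S₁)) {K : Subgroup (HQ (R i))} (hK : MComp V R i j K) {x : K}
    (hx : x ∈ normalizer ((SS R i S₁).subgroupOf K : Set K)) : (x : HQ (R i)) • m.sb V ≤ m.sb V := by
  refine stab_of_fix m b C τ S₁ hV hR hfix ?_
  rw [(hat b C.ne l).sylow_eq (S_isPGroup S₁) fun K hK => inv_NN m b C τ S₁ hV hR hfix l hK]
  exact norm_biSup (Λ := {K : Subgroup (HQ (R i)) | Mov (AA V R i j) (H0 R i) K}) hK
    (fun K hK L hL hne x hx y hy => Layer.comm_of_ne hK.1 hL.1 hne hx hy) x.2 ((NA.mem_norm_subgroupOf x.2).1 hx)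

/-- **the exception `KExc` does not occur** -/
theorem not_exc [Finite F] [CharP F 2] (hq : 4 ≤ Nat.card F) (l : Lay V R i j (TT τ) (SS R i S₁))
    {K : Subgroup (HQ (R i))} (hK : MComp V R i j K) :
    ¬ KExc K ((SS R i S₁).subgroupOf K) (Tact (TT τ) K) := by
  intro hexc
  have hh := l.hyp K hK
  have ta := OfLay.tact_of_lay b τ C.ne hq l hK
  obtain ⟨P₀, hP₀⟩ := OfLay.exists_sylow hh.toPre
  have key : (SS R i S₁).subgroupOf K ≤ (AA V R i j ⊓ K).subgroupOf K := by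
    rw [← hP₀]
    rw [← hP₀] at hexc
    refine le_of_exc hexc ?_ ?_
    · intro x hx a ha
      rw [hP₀] at hx
      refine mem_subgroupOf.2 ⟨?_, SetLike.coe_mem _⟩
      exact norm_A_of_stab m b C.ne (borel_stab m b C τ S₁ hV hR hfix l hK hx) (mem_subgroupOf.1 ha).1
    · obtain ⟨b, hb1⟩ := ne_bot_iff_exists_ne_one.1 (hh.inf_ne_bot hK.2.2)
      refine ⟨⟨b, b.2.2⟩, mem_subgroupOf.2 b.2, ?_, fun h0 =>
        hb1 (Subtype.ext (congrArg (fun z : K => (z : HQ (R i))) h0))⟩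
      rw [hP₀]
      exact mem_subgroupOf.2 (hh.AS b.2.1)
  obtain ⟨-, ⟨u, hu, hu1, hfu⟩, -⟩ := hexc
  have h1 : u ∈ AT ((SS R i S₁).subgroupOf K) (Tact (TT τ) K) := by
    rw [AT_eq hh]
    exact key hu
  have h2 : ∃ t ∈ Tact (TT τ) K, t ≠ 1 := by
    by_contra hcon
    push Not at hcon
    have h1 : Tact (TT τ) K = ⊥ := (Subgroup.eq_bot_iff_forall _).2 hcon
    have h2 := ta.three
    rw [h1, Subgroup.card_bot] at h2
    omega
  obtain ⟨t', ht', ht1⟩ := h2
  exact hu1 (ta.fpf t' ht' ht1 u h1 (hfu t' ht'))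

/-- **`OppM` for `⟨A^H⟩`** -/
theorem oppM_of_fix [Finite F] [CharP F 2] (b' : BTC V R) (hq : 4 ≤ Nat.card F)
    (l : Lay V R i j (TT τ) (SS R i S₁))
    (ks : ∀ K : Subgroup (HQ (R i)), MComp V R i j K → ∃ (J : Type) (P : J → Subgroup K) (mm : J → J → ℕ),
      KSys ((SS R i S₁).subgroupOf K) (Tact (TT τ) K) P mm ∧
        Opp (normalizer ((SS R i S₁).subgroupOf K : Set K)) ((SS R i S₁).subgroupOf K) P) :
    OppM (NN V R i j) (SS R i S₁ ⊓ NN V R i j) (m.sb V) := by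
  have hij := C.ne
  have d := hat b hij l
  have hinv := fun (K : Subgroup (HQ (R i))) (hK : Mov (AA V R i j) (H0 R i) K) =>
    inv_NN m b C τ S₁ hV hR hfix l hK
  have hcomm : ∀ K ∈ {K : Subgroup (HQ (R i)) | Mov (AA V R i j) (H0 R i) K},
      ∀ L ∈ {K : Subgroup (HQ (R i)) | Mov (AA V R i j) (H0 R i) K}, K ≠ L → ∀ x ∈ K, ∀ y ∈ L, x * y = y * x :=
    fun K hK L hL hne x hx y hy => Layer.comm_of_ne hK.1 hL.1 hne hx hy
  have e1 := d.sylow_eq (S_isPGroup S₁) hinv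
  have e2 := d.nc_eq hinv
  have key : OppM (⨆ K ∈ {K : Subgroup (HQ (R i)) | Mov (AA V R i j) (H0 R i) K}, K)
      (⨆ K ∈ {K : Subgroup (HQ (R i)) | Mov (AA V R i j) (H0 R i) K}, SS R i S₁ ⊓ K) (m.sb V) := by
    refine OppM.biSup hcomm fun K hK => ?_
    obtain ⟨J, P, mm, ksys, hopp⟩ := ks K hK
    have ta := OfLay.tact_of_lay b τ hij hq l hK
    have hh := l.hyp K hK
    refine OppM.of_ksys ksys hopp ta.stab ?_ ta.sq (A := AA V R i j) (T' := TT τ) ?_ ?_ ?_ ?_ ?_ ?_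
    · by_contra hcon
      push Not at hcon
      have h1 : Tact (TT τ) K = ⊥ := (Subgroup.eq_bot_iff_forall _).2 hcon
      have h2 := ta.three
      rw [h1, Subgroup.card_bot] at h2
      omega
    · intro a ha
      exact (mem_subgroupOf.1 (OfLay.AT_le hh.toPre ha)).1
    · intro t ht
      obtain ⟨t', ht', -, h1⟩ := mem_Tact.1 ht
      exact ⟨t', ht', h1⟩
    · intro a ha t ht x
      exact m.quad b' τ ha ht x
    · intro x hx
      exact borel_stab m b C τ S₁ hV hR hfix l hK hx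
    · intro k hu y hy
      exact unm_of_fix m b C τ S₁ hV hR hfix l hK (ksys.le k) (ksys.T_P k) hu hy
    · intro s hs
      exact ⟨mem_subgroupOf.1 hs, s.2⟩
  rw [e1, show NN V R i j = _ from e2]
  exact key

/-- **`CenSE` at the point `i`** -/
theorem mem_of_fix [Finite F] [CharP F 2] (b' : BTC V R) (hq : 4 ≤ Nat.card F)
    (hC : centralizer (WW V (R i) : Set G) ≤ R i) (l : Lay V R i j (TT τ) (SS R i S₁))
    (ks : ∀ K : Subgroup (HQ (R i)), MComp V R i j K → ∃ (J : Type) (P : J → Subgroup K) (mm : J → J → ℕ),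
      KSys ((SS R i S₁).subgroupOf K) (Tact (TT τ) K) P mm ∧
        Opp (normalizer ((SS R i S₁).subgroupOf K : Set K)) ((SS R i S₁).subgroupOf K) P)
    {x : G} (hx : x ∈ WW V (R i))
    (hfx : ∀ s ∈ (S₁ : Subgroup G), s ∈ centralizer (R i : Set G) → s * x * s⁻¹ * x⁻¹ ∈ R i) : x ∈ V := by
  exact mem_of_oppM m b (Crd.of_coord C) hC S₁ hV hR (oppM_of_fix m b C τ S₁ hV hR hfix b' hq l ks)
    (cl_NN m b C τ S₁ hV hR hfix) inf_le_right (NN_le_H0 b) inf_le_left hx hfx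

end main

end real

end Cfsg.Agent.Omega.Lie.SE

end

-- merged: Cfsg.Agent.Mrg.Omega.Node.SEPOf
section

/-!
# `SEP K` (`Node/LeafA4.lean`) from the K-side with `Opp`

* `fixM` : `SE.FixM` from THEOREM FIX (`Lie/Fix.lean`, helper932);
* **`sep_of : KSideX → SEP K`** (`Lie/End/KSideX.lean`).  The exception `KExc` is excluded by `SE.not_exc`.
-/

set_option autoImplicit false
set_option linter.unusedSectionVars false

namespace Cfsg.Agent.Omega.IIa4

open Subgroup Cfsg Cfsg.Agent.ZN Cfsg.Agent.Omega.NatPair Cfsg.Agent.Omega.BTwo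
open Cfsg.Agent.Omega.Frame Cfsg.Agent.Omega.FrameFF Cfsg.Agent.Omega.Lie Cfsg.Agent.Omega.Lie.Quot
open Cfsg.Agent.Omega.Lie.End Cfsg.Agent.Omega.Lie.SE

universe u v w

section fix

variable {G : Type u} [Group G] [Finite G] {ι : Type w} {V : Subgroup G} {R : ι → Subgroup G} {i j : ι}

/-- `A ≠ 1` -/
theorem exists_AA (b : BTC V R) (hij : i ≠ j) (S₁ : Sylow 2 G) (hV : (S₁ : Subgroup G) ≤ normalizer (V : Set G))
    (hR : (S₁ : Subgroup G) ≤ normalizer (R i : Set G)) : ∃ a ∈ AA V R i j, a ≠ 1 := by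
  have h1 := Cfsg.Agent.Omega.BTwo.Cz.not_UU_le b S₁ hij hV hR
  rw [SetLike.not_le_iff_exists] at h1
  obtain ⟨u, hu, huD⟩ := h1
  refine ⟨_, (mem_AA b.toBT).2 ⟨u, hu, rfl⟩, fun h2 => huD ?_⟩
  exact (U_inf_Q b.toBT hij hu).1 ((pr_eq_one _).1 h2)

variable {M B : Type u} [AddCommGroup M] [AddCommGroup B] [DistribMulAction (NR R i) M]
  [DistribMulAction (NR R i) B] [DistribMulAction (HQ (R i)) M] {p : G → M} {r : G → B} {f : M →+ M →+ B}
  {F : Type v} [Field F] [Finite F] [CharP F 2] {vv : F → F → G} {w1 w2 t : F → G}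

/-- **THEOREM FIX** -/
theorem fixM (m : ModQ V R i M B p r f) (b : BTC V R) (c : Coord V R i j vv w1 w2) (τ : TorD V R i j vv t)
    (hq : 4 ≤ Nat.card F) (hC : centralizer (WW V (R i) : Set G) ≤ R i) (hA : ∃ a ∈ AA V R i j, a ≠ 1) :
    FixM m j (TT τ) := fun _ _ hT hle hodd hstab hfix _ hγ =>
  (Fix.mem_NE_iff_le b.toBT m).1 (Fix.gam b c τ hq hC hA m hT hfix hle
    (fun x hx => (Fix.mem_NE_iff_le b.toBT m).2 (hstab x hx)) hodd hγ)

end fix

/-- **`CenSE`** from the K-side -/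
theorem Sit.cenSE_of {G : Type u} [Group G] [Finite G] {S : Sylow 2 G} {P : Subgroup G} {g : G} {F : Type} [Field F]
    [Finite F] [CharP F 2] {M : NatMod F (zl (S : Subgroup G) P)} (h : Sit S P g M) (hks : KSideX.{u})
    (hl : LayAll (zl (S : Subgroup G) P) (pt M) F) (hsemi : SemiOut (zl (S : Subgroup G) P) (pt M)) :
    CenSE (zl (S : Subgroup G) P) (pt M) := by
  intro i S₁ hV hR x hx hfx
  obtain ⟨j, hij⟩ := h.exists_ne_pt i
  obtain ⟨v, w1, w2, c⟩ := h.exists_coord hij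
  obtain ⟨t, τ⟩ := h.exists_torD c
  obtain ⟨X, B, _, _, _, _, _, p, r, f, m⟩ := exists_modQ h.bt i
  have l := hl i j hij v w1 w2 t c τ S₁ hV hR
  have hf := fixM m h.btc c τ h.four (hsemi i).1.le (exists_AA h.btc hij S₁ hV hR)
  refine mem_of_fix m h.bt c τ S₁ hV hR hf h.btc h.four (hsemi i).1.le l (fun K hK => ?_) hx hfx
  obtain ⟨P₀, hP₀⟩ := OfLay.exists_sylow (l.hyp K hK).toPre
  have h1 := hks K hK.1.2.1.commutator_eq_top hK.1.2.2 (OfLay.odd_center (pCore_HQ (pt M i)) hK.1) (l.lie K hK) P₀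
    (OfLay.Tact (TT τ) K) (hP₀ ▸ OfLay.tact_of_lay h.bt τ hij h.four l hK)
  rw [hP₀] at h1
  rcases h1 with ⟨J, -, Q, mm, h2, h3, -⟩ | h2
  · exact ⟨J, Q, mm, h2, h3⟩
  · exact absurd h2 (not_exc m h.bt c τ S₁ hV hR hf h.four l hK)

/-- **`SEP K`** -/
theorem sep_of {K : Cls.{u}} (hks : KSideX.{u}) : SEP K :=
  fun _ _ _ _ _ _ _ _ _ _ _ _ h hl hsemi => h.cenSE_of hks hl hsemi

end Cfsg.Agent.Omega.IIa4

end
end

-- part: Mrg/Omega/EH3/ESix/Rows_mg
section

end

-- part: Mrg/Omega/EH3/ESix/Sp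
section
prune_inst 0x142009000400020000000010b0001846da000502004804004ce109020480ee600500a860bc2005134822001400340060014c00300230000000200000011805a1900000069148000000000f000084000000000000000000000000000000000000200000000
set_option linter.all false
open scoped Cfsg.Agent.FastGrp


/-!
# EH3, shape (iii): `Sp₆(2)` and `Sp₄(4)` (helper810; bb OMEGA #16215; the argument for `Sp₄(4)` is due to helper576)

`L` normal in `H`, linear for the `F₄`-structure `ζ`, quasisimple with `L / Z(L) ≅ Sp₆(2)` or `Sp₄(4)`, `|Z(L)|` odd: `False`.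

* `false_of_fix` : the torus of a root group datum of `L` moves `a`;
* `Cv` : a datum on a perfect central extension, with the map to the group with coordinates; `Cv.mem_T`, `Cv.exists_c`;
* `T0_eq_bot` : all root groups of order 2 ==> the torus `T0` is trivial (`Sp₆(2)`);
* `core` : type `B₂`, `q = 4` : a frame automorphism `β` with `β² = 1` and `|T : C_T(β)| ≤ 3` is trivial (`Sp₄(4)`).
-/

set_option autoImplicit false
set_option linter.unusedSectionVars false

namespace Cfsg.Agent.Omega.EH3.ESix.Sp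

open CoxeterSystem Cfsg.Agent.ChevalleyStructure.CoxeterGeom Cfsg.Agent.Tits.Roots Cfsg.Agent.Tits.Core
  Cfsg.Agent.Tits.RootComb Cfsg.Agent.Nodes.Comb Cfsg.Agent.Nodes.Reps Cfsg.Agent.Nodes.BNOf
  Cfsg.Agent.Nodes.StabComb Cfsg.Agent.Nodes.Bruhat Cfsg.Agent.Nodes.OppDec Cfsg.Agent.Nodes.Coroot
  Cfsg.Agent.KFacts.RgdAut Cfsg.Agent.KFacts.RgdDiag Cfsg.Agent.KFacts.RgdRigid Cfsg.Agent.KFacts.ChevTwo
  Cfsg.Agent.KFacts.RgdSys Cfsg.Agent.Omega.EH3.ESix.Base Cfsg.Agent.Omega.EH3.Kf Cfsg.Agent.Omega.EH3.Kf.Tor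

section mod

variable {I W H V : Type*} [Fintype I] [DecidableEq I] [Group W] [Group H] [AddCommGroup V]
    [Module (ZMod 2) V] {M : CoxeterMatrix I} {cs : CoxeterSystem M W} {A : I → I → ℤ} {h : IsCartan M A}
    {ρ : H →* (V ≃ₗ[ZMod 2] V)} {b : LinearMap.BilinForm (ZMod 2) V} {q : V → ZMod 2}
    {a : V} {D : Submodule (ZMod 2) V} {P : Subgroup H} {w : ℕ} {ζ : V →ₗ[ZMod 2] V} {L : Subgroup H}
    {T : Subgroup L} {n : I → L} {X : (I → ℤ) → Subgroup L}

/-- **the torus moves `a`** -/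
theorem false_of_fix [Finite W] (C : Cfg ρ b q a D P w) (Z : Zt ρ b ζ) (hlin : ∀ l ∈ L, Lin ρ ζ l)
    (N : CR.Md cs h T n X (ρ.comp L.subtype) b) (hU : ∀ u ∈ RGD.Sup X (RGD.Pos cs h), ρ u a = a)
    (hT : ∀ t ∈ T, ρ t a = a) : False := by
  have hfV := C.finite_V
  have hfH := C.finite_H
  have h1 : Submodule.span (ZMod 2) {a} = CR.VU cs h X (ρ.comp L.subtype) := by
    refine N.irrU ?_ ?_ ?_
    · rw [Submodule.span_singleton_le_iff_mem]
      exact fun u hu => hU u hu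
    · intro t ht v hv
      rw [Submodule.mem_span_singleton] at hv ⊢
      obtain ⟨c, rfl⟩ := hv
      exact ⟨c, by rw [map_smul]; congr 1; exact (hT t ht).symm⟩
    · rw [Ne, Submodule.span_singleton_eq_bot]
      exact C.a_ne
  have h2 : ζ a ∈ CR.VU cs h X (ρ.comp L.subtype) := by
    intro u hu
    show ρ u (ζ a) = ζ a
    rw [hlin u u.2, hU u hu]
  rw [← h1, Submodule.mem_span_singleton] at h2
  obtain ⟨c, hc⟩ := h2
  rcases zmod_two c with rfl | rfl
  · rw [zero_smul] at hc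
    exact C.a_ne (Z.zero hc.symm)
  · rw [one_smul] at hc
    exact C.a_ne (Z.ne hc.symm)

/-- the torus acts on `a` by `F₄`-scalars -/
theorem act_T [Finite W] (C : Cfg ρ b q a D P w)
    (hEnd : ∀ f : V →ₗ[ZMod 2] V, (∀ l ∈ L, ∀ v, f (ρ l v) = ρ l (f v)) →
      f = 0 ∨ f = LinearMap.id ∨ f = ζ ∨ f = ζ + LinearMap.id)
    (N : CR.Md cs h T n X (ρ.comp L.subtype) b) (hab : ∀ s ∈ T, ∀ t ∈ T, s * t = t * s)
    (hU : ∀ u ∈ RGD.Sup X (RGD.Pos cs h), ρ u a = a) {t : L} (ht : t ∈ T) :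
    ρ t a = a ∨ ρ t a = ζ a ∨ ρ t a = ζ a + a := by
  have hfV := C.finite_V
  have hfH := C.finite_H
  have hnV := C.nontrivial_V
  set τ := ρ.comp L.subtype with hτ
  set Γ : Submodule (ZMod 2) (V × V) :=
    (CR.VU cs h X τ).map (LinearMap.prod LinearMap.id (τ t).toLinearMap) with hΓ
  have hΓm : ∀ p, p ∈ Γ ↔ p.1 ∈ CR.VU cs h X τ ∧ τ t p.1 = p.2 := by
    rintro ⟨v, w⟩
    constructor
    · rintro ⟨v', hv', e⟩
      have e' : (v', τ t v') = (v, w) := e
      rw [Prod.mk.injEq] at e'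
      obtain ⟨rfl, rfl⟩ := e'
      exact ⟨hv', rfl⟩
    · rintro ⟨h1, h2⟩
      exact ⟨v, h1, Prod.ext rfl h2⟩
  obtain ⟨f, hf, hfΓ⟩ := N.exists_ext (Γ := Γ) (fun p hp => by
      obtain ⟨h1, h2⟩ := (hΓm p).1 hp
      exact ⟨h1, by rw [← h2]; exact CR.stab_VU N.rgd t ht _ h1⟩) (fun s hs p hp => by
      obtain ⟨h1, h2⟩ := (hΓm p).1 hp
      refine (hΓm _).2 ⟨CR.stab_VU N.rgd s hs _ h1, ?_⟩
      show τ t (τ s p.1) = τ s p.2
      rw [← h2, ← rho_mul, ← rho_mul, hab t ht s hs]) (fun v hv => ⟨τ t v, (hΓm _).2 ⟨hv, rfl⟩⟩) (fun w hw => by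
      obtain ⟨h1, h2⟩ := (hΓm _).1 hw
      have h3 : τ t (0 : V) = w := h2
      rw [← h3, map_zero])
  have ha : f a = ρ t a := hfΓ (a, ρ t a) ((hΓm _).2 ⟨fun u hu => hU u hu, rfl⟩)
  rcases hEnd f (fun l hl v => hf ⟨l, hl⟩ v) with h1 | h1 | h1 | h1
  · exfalso
    rw [h1] at ha
    exact C.a_ne (C.ρ_inj t (ha.symm.trans (map_zero _).symm))
  · left
    rw [← ha, h1]
    rfl
  · right; left
    rw [← ha, h1]
  · right; right
    rw [← ha, h1]
    rfl

end mod

/-! ### the data on the cover -/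

section cv

variable {I W Y K' F : Type*} [Fintype I] [DecidableEq I] [Group W] [Group Y] [Group K'] [Field F]
  {M : CoxeterMatrix I} {cs : CoxeterSystem M W} {A : I → I → ℤ} {h : IsCartan M A}

/-- a datum on a central extension with the map to the group with coordinates -/
structure Cv (cs : CoxeterSystem M W) (h : IsCartan M A) (T : Subgroup Y) (n : I → Y) (X : (I → ℤ) → Subgroup Y)
    (T' : Subgroup K') (X' : (I → ℤ) → Subgroup K') (f : Y →* K') : Prop where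
  rgd : RGD cs h 2 T n X
  g1 : RGD.Sup X {x | IsRoot cs h x} = ⊤
  ab : ∀ s ∈ T, ∀ t ∈ T, s * t = t * s
  nmem : ∀ j, n j ∈ Lr X j
  sq : ∀ x, IsRoot cs h x → ∀ y ∈ X x, y * y = 1
  fT : ∀ t ∈ T, f t ∈ T'
  fX : ∀ x, IsRoot cs h x → (X x).map f = X' x
  fi : ∀ x, IsRoot cs h x → ∀ y ∈ X x, f y = 1 → y = 1
  cen : f.ker ≤ Subgroup.center Y
  odd : (Nat.card f.ker).Coprime 2

theorem exists_cv [Finite W] [Finite F] [CharP F 2] {e : (I → ℤ) → F → K'} {T' : Subgroup K'} {n' : I → K'}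
    {X' : (I → ℤ) → Subgroup K'} {R : RGD cs h 2 T' n' X'} (S : Sys R e)
    (hG1 : RGD.Sup X' {x | IsRoot cs h x} = ⊤) (hN : KFacts.RgdCent.NoCent cs h T' X') [Finite Y] (f : Y →* K')
    (hf : f.ker ≤ Subgroup.center Y) (hp : (Nat.card f.ker).Coprime 2) (hs : Function.Surjective f)
    (hperf : ⁅(⊤ : Subgroup Y), (⊤ : Subgroup Y)⁆ = ⊤) :
    ∃ (T : Subgroup Y) (n : I → Y) (X : (I → ℤ) → Subgroup Y), Cv cs h T n X T' X' f := by
  have : Fact (Nat.Prime 2) := ⟨Nat.prime_two⟩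
  obtain ⟨T, n, X, h1, h2, h3, h4, -, h6, h5⟩ := lift hf hp hs R hperf (TorSys.rank1 S hG1 hN) hG1
  refine ⟨T, n, X, h1, h2, h3, h4, fun x hx => ?_, fun t ht => h6 (Subgroup.mem_map_of_mem f ht),
    fun x hx => (h5 x hx).1, fun x hx => (h5 x hx).2, hf, hp⟩
  refine sq_of_map (h5 x hx).1 (h5 x hx).2 fun y hy => ?_
  obtain ⟨t, rfl⟩ := (S.mem_X x hx y).1 hy
  exact S.data.sq hx t

variable {T : Subgroup Y} {n : I → Y} {X : (I → ℤ) → Subgroup Y} {T' : Subgroup K'} {n' : I → K'}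
  {X' : (I → ℤ) → Subgroup K'} {f : Y →* K'} (J : Cv cs h T n X T' X' f)

include J

theorem Cv.conjugate (g : Y) : Cv cs h (cj g T) (fun i => g * n i * g⁻¹) (fun x => cj g (X x)) T' X'
    (f.comp (MulAut.conj g⁻¹).toMonoidHom) where
  rgd := RowOf.rgd_cj J.rgd g
  g1 := by
    rw [RowOf.Sup_cj, J.g1, eq_top_iff]
    intro x _
    rw [mem_cj]
    exact Subgroup.mem_top _
  ab := by
    intro s hs t ht
    rw [mem_cj] at hs ht
    have h1 := J.ab _ hs _ ht
    have h2 : g * (g⁻¹ * s * g * (g⁻¹ * t * g)) * g⁻¹ = g * (g⁻¹ * t * g * (g⁻¹ * s * g)) * g⁻¹ := by rw [h1]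
    have e1 : g * (g⁻¹ * s * g * (g⁻¹ * t * g)) * g⁻¹ = s * t := by group
    have e2 : g * (g⁻¹ * t * g * (g⁻¹ * s * g)) * g⁻¹ = t * s := by group
    rw [← e1, h2, e2]
  nmem j := by
    unfold Lr
    rw [← cj_sup]
    exact conj_mem_cj.2 (J.nmem j)
  sq x hx y hy := by
    have h1 := J.sq x hx _ (mem_cj.1 hy)
    have e1 : y * y = g * (g⁻¹ * y * g * (g⁻¹ * y * g)) * g⁻¹ := by group
    rw [e1, h1]; group
  fT t ht := by
    have h1 := J.fT _ (mem_cj.1 ht)
    have e1 : (f.comp (MulAut.conj g⁻¹).toMonoidHom) t = f (g⁻¹ * t * g) := by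
      show f (g⁻¹ * t * g⁻¹⁻¹) = _
      rw [inv_inv]
    rw [e1]
    exact h1
  fX x hx := by
    rw [← J.fX x hx]
    ext k
    constructor
    · rintro ⟨y, hy, rfl⟩
      refine ⟨g⁻¹ * y * g, mem_cj.1 hy, ?_⟩
      show _ = f (g⁻¹ * y * g⁻¹⁻¹)
      rw [inv_inv]
    · rintro ⟨y, hy, rfl⟩
      refine ⟨g * y * g⁻¹, conj_mem_cj.2 hy, ?_⟩
      show f (g⁻¹ * (g * y * g⁻¹) * g⁻¹⁻¹) = _
      congr 1
      group
  fi x hx y hy h1 := by
    have h2 : f (g⁻¹ * y * g) = 1 := by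
      have : f (g⁻¹ * y * g⁻¹⁻¹) = 1 := h1
      rwa [inv_inv] at this
    have h3 := J.fi x hx _ (mem_cj.1 hy) h2
    have e1 : y = g * (g⁻¹ * y * g) * g⁻¹ := by group
    rw [e1, h3]; group
  cen := by
    intro y hy
    have h2 : f (g⁻¹ * y * g) = 1 := by
      have : f (g⁻¹ * y * g⁻¹⁻¹) = 1 := hy
      rwa [inv_inv] at this
    have h3 := J.cen (MonoidHom.mem_ker.2 h2)
    have h4 := Subgroup.mem_center_iff.1 h3 g
    have e1 : y = g * (g⁻¹ * y * g) * g⁻¹ := by group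
    have e2 : y = g⁻¹ * y * g := by
      conv_lhs => rw [e1, h4]
      group
    rw [e2]
    exact h3
  odd := by
    have h1 : Nat.card (f.comp (MulAut.conj g⁻¹).toMonoidHom).ker = Nat.card f.ker := by
      rw [← MonoidHom.comap_ker]
      exact Nat.card_congr ((MulAut.conj g⁻¹).toEquiv.subtypeEquiv fun y => Iff.rfl)
    rw [h1]
    exact J.odd

/-- an element over the torus lies in the torus -/
theorem Cv.mem_T [Finite Y] [Finite W] (R' : RGD cs h 2 T' n' X') {y : Y} (hy : f y ∈ T') : y ∈ T := by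
  have : Fact (Nat.Prime 2) := ⟨Nat.prime_two⟩
  have hle : ∀ r, IsRoot cs h r → cj y (X r) ≤ X r := by
    intro r hr v hv
    have hv' := mem_cj.1 hv
    have h1 : f v ∈ X' r := by
      have h2 : f (y⁻¹ * v * y) ∈ X' r := by rw [← J.fX r hr]; exact Subgroup.mem_map_of_mem f hv'
      have h3 : f y * f (y⁻¹ * v * y) * (f y)⁻¹ ∈ cj (f y) (X' r) := conj_mem_cj.2 h2
      rw [R'.tor r hr _ hy, ← map_inv, ← map_mul, ← map_mul] at h3
      have e : y * (y⁻¹ * v * y) * y⁻¹ = v := by group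
      rwa [e] at h3
    rw [← J.fX r hr] at h1
    obtain ⟨v', hv1, hv2⟩ := h1
    have hz : v'⁻¹ * v ∈ f.ker := by rw [MonoidHom.mem_ker, map_mul, map_inv, hv2, inv_mul_cancel]
    have hzc := Subgroup.mem_center_iff.1 (J.cen hz)
    have h2 : v * v = 1 := by
      have h3 := J.sq r hr _ hv'
      have e1 : v * v = y * (y⁻¹ * v * y * (y⁻¹ * v * y)) * y⁻¹ := by group
      rw [e1, h3]; group
    have h3 := J.sq r hr _ hv1
    have h4 : (v'⁻¹ * v) * (v'⁻¹ * v) = 1 := by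
      have e1 : v'⁻¹ * v * (v'⁻¹ * v) = v'⁻¹ * (v * (v'⁻¹ * v)) := by group
      have e2 : v'⁻¹ * (v'⁻¹ * v * v) = (v' * v')⁻¹ * (v * v) := by group
      rw [e1, hzc v, e2, h3, h2]; group
    have h5 : v'⁻¹ * v = 1 := by
      have h6 : orderOf (⟨v'⁻¹ * v, hz⟩ : f.ker) ∣ 2 := orderOf_dvd_of_pow_eq_one (by
        rw [pow_two]; exact Subtype.ext h4)
      have h7 : orderOf (⟨v'⁻¹ * v, hz⟩ : f.ker) ∣ Nat.card f.ker := orderOf_dvd_natCard _
      have h8 : orderOf (⟨v'⁻¹ * v, hz⟩ : f.ker) = 1 := Nat.eq_one_of_dvd_coprimes J.odd h7 h6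
      exact congrArg Subtype.val (orderOf_eq_one_iff.1 h8)
    rw [← inv_mul_eq_one.1 h5]
    exact hv1
  have hfix : ∀ r, IsRoot cs h r → cj y (X r) = X r := by
    intro r hr
    refine Subgroup.eq_of_le_of_card_ge (hle r hr) (le_of_eq ?_)
    exact Nat.card_congr ((X r).equivMapOfInjective _ (MulAut.conj y).injective).toEquiv
  have hsup : ∀ Ω : Set (I → ℤ), (∀ x ∈ Ω, IsRoot cs h x) → y ∈ Subgroup.normalizer (RGD.Sup X Ω : Set Y) := by
    intro Ω hΩ
    rw [mem_normalizer_iff_cj, RGD.cj_Sup]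
    exact iSup_congr fun z => hfix z.1 (hΩ z.1 z.2)
  have hG := GG_eq_top (T := T) J.g1
  rw [← B_inf_BN J.rgd]
  refine ⟨?_, ?_⟩
  · rw [← normalizer_U' J.rgd hG]
    exact hsup _ fun x hx => hx.1
  · rw [← normalizer_UN J.rgd hG]
    exact hsup _ fun x hx => hx.1

/-- elements of the rank one tori over elements of the rank one tori -/
theorem Cv.exists_c [Finite Y] [Finite W] (R' : RGD cs h 2 T' n' X') {i : I} {c' : K'} (hc : c' ∈ T' ⊓ Lr X' i) :
    ∃ c ∈ T ⊓ Lr X i, f c = c' := by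
  have h1 : (Lr X i).map f = Lr X' i := by
    unfold Lr
    rw [Subgroup.map_sup, J.fX _ (isRoot_sr cs h i), J.fX _ (isRoot_sr cs h i).neg]
  have h2 : c' ∈ (Lr X i).map f := by rw [h1]; exact hc.2
  obtain ⟨c, hc1, rfl⟩ := h2
  exact ⟨c, ⟨J.mem_T R' hc.1, hc1⟩, rfl⟩

theorem Cv.inj {x : I → ℤ} (hx : IsRoot cs h x) {y z : Y} (hy : y ∈ X x) (hz : z ∈ X x) (he : f y = f z) : y = z := by
  have h1 := J.fi x hx _ (mul_mem (inv_mem hy) hz) (by rw [map_mul, map_inv, he, inv_mul_cancel])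
  exact inv_mul_eq_one.1 h1

theorem Cv.conj_mem {x : I → ℤ} (hx : IsRoot cs h x) {t y : Y} (ht : t ∈ T) (hy : y ∈ X x) : t * y * t⁻¹ ∈ X x := by
  rw [← J.rgd.tor x hx t ht]
  exact conj_mem_cj.2 hy

section S

variable {e : (I → ℤ) → F → K'} {R' : RGD cs h 2 T' n' X'} (S : Sys R' e)

include S

theorem Cv.coord {x : I → ℤ} (hx : IsRoot cs h x) {y : Y} (hy : y ∈ X x) : ∃ c, f y = e x c := by
  have h1 : f y ∈ X' x := by rw [← J.fX x hx]; exact Subgroup.mem_map_of_mem f hy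
  obtain ⟨c, hc⟩ := (S.mem_X x hx _).1 h1
  exact ⟨c, hc.symm⟩

theorem Cv.exists_coord {x : I → ℤ} (hx : IsRoot cs h x) (c : F) : ∃ y ∈ X x, f y = e x c := by
  have h1 : e x c ∈ X' x := (S.mem_X x hx _).2 ⟨c, rfl⟩
  rw [← J.fX x hx] at h1
  obtain ⟨y, hy, hc⟩ := h1
  exact ⟨y, hy, hc⟩

/-- the scalar of `t` on `X x` -/
theorem Cv.act {x : I → ℤ} (hx : IsRoot cs h x) {t y : Y} (ht : t ∈ T) {c : F} (hc : f y = e x c) :
    f (t * y * t⁻¹) = e x (chS e x (f t) * c) := by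
  rw [map_mul, map_mul, map_inv, hc]
  exact chS_spec S hx (J.fT t ht) c

theorem Cv.ch_ne {x : I → ℤ} (hx : IsRoot cs h x) {t : Y} (ht : t ∈ T) : chS e x (f t) ≠ 0 := by
  intro h0
  have h1 := chS_spec S hx (J.fT t ht) 1
  rw [h0, zero_mul, S.data.zero hx] at h1
  have h2 : e x 1 = 1 := by
    have h3 : e x 1 = (f t)⁻¹ * (f t * e x 1 * (f t)⁻¹) * f t := by group
    rw [h3, h1]; group
  exact one_ne_zero (S.data.inj x hx _ h2)

theorem Cv.ch_mul {x : I → ℤ} (hx : IsRoot cs h x) {s t : Y} (hs : s ∈ T) (ht : t ∈ T) :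
    chS e x (f (s * t)) = chS e x (f s) * chS e x (f t) := by
  refine chS_eq S hx (J.fT _ (mul_mem hs ht)) fun c => ?_
  rw [map_mul, mul_assoc (chS e x (f s)), ← chS_spec S hx (J.fT s hs), ← chS_spec S hx (J.fT t ht)]
  group

/-- `t` centralises `X x` iff its scalar is 1 -/
theorem Cv.cent_iff {x : I → ℤ} (hx : IsRoot cs h x) {t : Y} (ht : t ∈ T) :
    chS e x (f t) = 1 ↔ ∀ y ∈ X x, t * y = y * t := by
  constructor
  · intro h1 y hy
    obtain ⟨c, hc⟩ := J.coord S hx hy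
    have h2 := J.act S hx ht hc
    rw [h1, one_mul, ← hc] at h2
    exact mul_inv_eq_iff_eq_mul.1 (J.inj hx (J.conj_mem hx ht hy) hy h2)
  · intro h1
    obtain ⟨y, hy, hc⟩ := J.exists_coord S hx 1
    have h2 := J.act S hx ht hc
    rw [h1 y hy, mul_inv_cancel_right, hc, mul_one] at h2
    exact (S.data.injective hx h2).symm

end S

end cv

/-! ### root groups of order 2 -/

section two

theorem dih {G : Type*} [Group G] {y z t : G} (hy : y * y = 1) (hz : z * z = 1) (ht : t ∈ Subgroup.closure {y, z})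
    (hc : y * t = t * y) : t * t = 1 := by
  have hyi : y⁻¹ = y := inv_eq_of_mul_eq_one_left hy
  have hzi : z⁻¹ = z := inv_eq_of_mul_eq_one_left hz
  have hk : ∀ k : ℤ, y * (y * z) ^ k = (y * z) ^ (-k) * y := by
    intro k
    have h1 : y * (y * z) ^ k * y⁻¹ = (y * (y * z) * y⁻¹) ^ k := (conj_zpow).symm
    have h2 : y * (y * z) * y⁻¹ = (y * z)⁻¹ := by
      rw [mul_inv_rev, hyi, hzi, ← mul_assoc, hy, one_mul]
    rw [h2, inv_zpow'] at h1
    rw [← h1]; group
  have key : ∀ t ∈ Subgroup.closure {y, z}, ∃ k : ℤ, t = (y * z) ^ k ∨ t = (y * z) ^ k * y := by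
    have hstep : ∀ g ∈ ({y, z} : Set G), ∀ t, (∃ k : ℤ, t = (y * z) ^ k ∨ t = (y * z) ^ k * y) →
        ∃ k : ℤ, g * t = (y * z) ^ k ∨ g * t = (y * z) ^ k * y := by
      have hY : ∀ t, (∃ k : ℤ, t = (y * z) ^ k ∨ t = (y * z) ^ k * y) →
          ∃ k : ℤ, y * t = (y * z) ^ k ∨ y * t = (y * z) ^ k * y := by
        rintro t ⟨k, rfl | rfl⟩
        · exact ⟨-k, Or.inr (hk k)⟩
        · exact ⟨-k, Or.inl (by rw [← mul_assoc, hk, mul_assoc, hy, mul_one])⟩
      rintro g (rfl | rfl) t hT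
      · exact hY t hT
      · have e1 : g = y * (y * g) := by rw [← mul_assoc, hy, one_mul]
        have h3 : ∃ k : ℤ, (y * g) * t = (y * g) ^ k ∨ (y * g) * t = (y * g) ^ k * y := by
          obtain ⟨k, rfl | rfl⟩ := hT
          · exact ⟨k + 1, Or.inl (by rw [zpow_add, zpow_one, ← zpow_one_add, add_comm, zpow_add, zpow_one])⟩
          · exact ⟨k + 1, Or.inr (by rw [← mul_assoc, ← zpow_one_add, add_comm])⟩
        have h4 := hY _ h3
        rwa [← mul_assoc, ← e1] at h4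
    intro t ht
    induction ht using Subgroup.closure_induction_left with
    | one => exact ⟨0, Or.inl (zpow_zero _).symm⟩
    | mul_left g hg t _ ih => exact hstep g hg t ih
    | inv_mul_cancel g hg t _ ih =>
      have h1 : g⁻¹ = g := by
        rcases hg with rfl | rfl
        · exact hyi
        · exact hzi
      rw [h1]
      exact hstep g hg t ih
  obtain ⟨k, rfl | rfl⟩ := key t ht
  · rw [hk] at hc
    have h1 := mul_right_cancel hc
    calc (y * z) ^ k * (y * z) ^ k = (y * z) ^ (-k) * (y * z) ^ k := by rw [h1]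
      _ = 1 := by rw [← zpow_add, neg_add_cancel, zpow_zero]
  · calc (y * z) ^ k * y * ((y * z) ^ k * y) = (y * z) ^ k * (y * (y * z) ^ k) * y := by group
      _ = 1 := by rw [hk, ← mul_assoc, ← zpow_add, add_neg_cancel, zpow_zero, one_mul, hy]

variable {I W Y K' F : Type*} [Fintype I] [DecidableEq I] [Group W] [Group Y] [Group K'] [Field F]
  {M : CoxeterMatrix I} {cs : CoxeterSystem M W} {A : I → I → ℤ} {h : IsCartan M A}
  {T : Subgroup Y} {n : I → Y} {X : (I → ℤ) → Subgroup Y} {T' : Subgroup K'} {n' : I → K'}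
  {X' : (I → ℤ) → Subgroup K'} {f : Y →* K'} (J : Cv cs h T n X T' X' f)
  {e : (I → ℤ) → F → K'} {R' : RGD cs h 2 T' n' X'} (S : Sys R' e)

theorem field_two (hF : Nat.card F = 2) (c : F) (hc : c ≠ 0) : c = 1 := by
  obtain ⟨y, -, hu⟩ := (Nat.card_eq_two_iff' (0 : F)).1 hF
  rw [hu c hc, hu 1 one_ne_zero]

include J S in
/-- all root groups of order 2: the rank one tori are trivial -/
theorem T0_eq_bot [Finite Y] [Finite W] (hF : Nat.card F = 2) : T0 T X = ⊥ := by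
  have : Fact (Nat.Prime 2) := ⟨Nat.prime_two⟩
  rw [eq_bot_iff]
  refine iSup_le fun i => ?_
  rintro t ⟨htT, htL⟩
  rw [Subgroup.mem_bot]
  have hx := isRoot_sr cs h i
  have key : ∀ x, IsRoot cs h x → ∀ y ∈ X x, f y = e x 1 → ∀ v ∈ X x, v = 1 ∨ v = y := by
    intro x hx y hy hy1 v hv
    obtain ⟨c, hc⟩ := J.coord S hx hv
    by_cases h0 : c = 0
    · left
      rw [h0, S.data.zero hx] at hc
      exact J.fi x hx v hv hc
    · right
      rw [field_two hF c h0, ← hy1] at hc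
      exact J.inj hx hv hy hc
  obtain ⟨y, hy, hy1⟩ := J.exists_coord S hx 1
  obtain ⟨z, hz, hz1⟩ := J.exists_coord S hx.neg 1
  have hL : Lr X i ≤ Subgroup.closure {y, z} := by
    refine sup_le ?_ ?_
    · intro v hv
      rcases key _ hx y hy hy1 v hv with rfl | rfl
      · exact one_mem _
      · exact Subgroup.subset_closure (by simp)
    · intro v hv
      rcases key _ hx.neg z hz hz1 v hv with rfl | rfl
      · exact one_mem _
      · exact Subgroup.subset_closure (by simp)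
  have hc := (J.cent_iff S hx htT).1 (field_two hF _ (J.ch_ne S hx htT)) y hy
  have h1 := dih (J.sq _ hx y hy) (J.sq _ hx.neg z hz) (hL htL) hc.symm
  exact eq_one_of_mem_T J.rgd htT (k := 1) (by rw [pow_one, pow_two]; exact h1)

end two

/-! ### type `B₂`, `q = 4` -/

section four

variable {F : Type*} [Field F] [Finite F] [CharP F 2] (hF : Nat.card F = 4)

include hF

theorem f4_pow {c : F} (hc : c ≠ 0) : c ^ 3 = 1 := by
  have := Fintype.ofFinite F
  have h1 := FiniteField.pow_card_sub_one_eq_one c hc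
  rwa [← Nat.card_eq_fintype_card, hF] at h1

theorem f4_cases {χ c : F} (h0 : χ ≠ 0) (h1 : χ ≠ 1) (hc : c ≠ 0) : c = 1 ∨ c = χ ∨ c = χ ^ 2 := by
  have h2 : (2 : F) = 0 := CharP.cast_eq_zero F 2
  have e1 : χ ^ 2 + χ + 1 = 0 := by
    have : (χ - 1) * (χ ^ 2 + χ + 1) = 0 := by
      have h3 := f4_pow hF h0
      linear_combination h3
    exact (mul_eq_zero.1 this).resolve_left (sub_ne_zero.2 h1)
  by_cases hc1 : c = 1
  · exact Or.inl hc1
  right
  have e2 : c ^ 2 + c + 1 = 0 := by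
    have : (c - 1) * (c ^ 2 + c + 1) = 0 := by
      have h3 := f4_pow hF hc
      linear_combination h3
    exact (mul_eq_zero.1 this).resolve_left (sub_ne_zero.2 hc1)
  have e3 : (c - χ) * (c - χ ^ 2) = 0 := by
    have h3 := f4_pow hF h0
    linear_combination e2 - c * e1 + h3
  rcases mul_eq_zero.1 e3 with h3 | h3
  · exact Or.inl (sub_eq_zero.1 h3)
  · exact Or.inr (sub_eq_zero.1 h3)

theorem f4_exists : ∃ ω : F, ω ≠ 0 ∧ ω ≠ 1 := by
  by_contra hcon
  push Not at hcon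
  have h1 : Nat.card F = 2 := (Nat.card_eq_two_iff' (0 : F)).2 ⟨1, one_ne_zero, fun y hy => hcon y hy⟩
  omega

theorem f4_sq {c : F} (h0 : c ≠ 0) (h1 : c ≠ 1) : c ^ 2 ≠ 1 := by
  intro h2
  apply h1
  have h3 := f4_pow hF h0
  rw [pow_succ, h2, one_mul] at h3
  exact h3

variable {W Y K' : Type*} [Group W] [Finite W] [Group Y] [Finite Y] [Group K']
  {M : CoxeterMatrix (Fin 2)} {cs : CoxeterSystem M W} {A : Fin 2 → Fin 2 → ℤ} {h : IsCartan M A}
  {T : Subgroup Y} {n : Fin 2 → Y} {X : (Fin 2 → ℤ) → Subgroup Y} {T' : Subgroup K'} {n' : Fin 2 → K'}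
  {X' : (Fin 2 → ℤ) → Subgroup K'} {f : Y →* K'} (J : Cv cs h T n X T' X' f)
  {e : (Fin 2 → ℤ) → F → K'} {R' : RGD cs h 2 T' n' X'} (S : Sys R' e)

include J S

/-- an involution commuting with a fixed point free action is trivial -/
theorem triv_of {β : MulAut Y} (hβ : ∀ y, β (β y) = y) {i : Fin 2} (hβX : ∀ y ∈ X (sr i), β y ∈ X (sr i)) {t : Y}
    (ht : t ∈ T) (hβt : β t = t) (hne : chS e (sr i) (f t) ≠ 1) : ∀ y ∈ X (sr i), β y = y := by
  intro y hy
  have hx := isRoot_sr cs h i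
  have h0 := J.ch_ne S hx ht
  set χ := chS e (sr i) (f t) with hχ
  obtain ⟨c, hc⟩ := J.coord S hx hy
  obtain ⟨c', hc'⟩ := J.coord S hx (hβX y hy)
  by_cases hc0 : c = 0
  · rw [hc0, S.data.zero hx] at hc
    rw [J.fi _ hx y hy hc, map_one]
  by_cases hc0' : c' = 0
  · exfalso
    rw [hc0', S.data.zero hx] at hc'
    have h1 := J.fi _ hx _ (hβX y hy) hc'
    have h2 : y = 1 := by rw [← hβ y, h1, map_one]
    rw [h2, map_one] at hc
    exact hc0 (S.data.inj _ hx c hc.symm)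
  have h3 := f4_pow hF h0
  have key : ∀ z ∈ X (sr i), ∀ d : F, f z = e (sr i) d → β y = t * z * t⁻¹ → c' = χ * d := by
    intro z hz d hd he
    have h4 := J.act S hx ht hd
    rw [← he, hc'] at h4
    exact S.data.injective hx h4
  have hty := J.conj_mem hx ht hy
  have htty := J.conj_mem hx ht hty
  rcases f4_cases hF h0 hne (div_ne_zero hc0' hc0) with h4 | h4 | h4
  · rw [div_eq_one_iff_eq hc0] at h4
    exact J.inj hx (hβX y hy) hy (by rw [hc', h4, hc])
  · exfalso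
    rw [div_eq_iff hc0] at h4
    have h5 : β y = t * y * t⁻¹ := J.inj hx (hβX y hy) hty (by rw [hc', h4, J.act S hx ht hc])
    have h6 : y = t * (t * y * t⁻¹) * t⁻¹ := by
      have h7 := congrArg β h5
      rw [hβ, map_mul, map_mul, map_inv, hβt, h5] at h7
      exact h7
    have h8 := J.act S hx ht (J.act S hx ht hc)
    rw [← h6, hc] at h8
    have h9 := S.data.injective hx h8
    refine f4_sq hF h0 hne ?_
    have h10 : χ ^ 2 * c = 1 * c := by rw [one_mul, pow_two, mul_assoc]; exact h9.symm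
    exact mul_right_cancel₀ hc0 h10
  · exfalso
    rw [div_eq_iff hc0] at h4
    have h5 : β y = t * (t * y * t⁻¹) * t⁻¹ := J.inj hx (hβX y hy) htty (by
      rw [hc', h4, J.act S hx ht (J.act S hx ht hc)]; congr 1; ring)
    have h6 : y = t * (t * (t * (t * y * t⁻¹) * t⁻¹) * t⁻¹) * t⁻¹ := by
      have h7 := congrArg β h5
      rw [hβ, map_mul, map_mul, map_mul, map_mul, map_inv, hβt, h5] at h7
      exact h7
    have h8 := J.act S hx ht (J.act S hx ht (J.act S hx ht (J.act S hx ht hc)))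
    rw [← h6, hc] at h8
    have h9 := S.data.injective hx h8
    apply hne
    have h10 : χ * c = 1 * c := by
      rw [one_mul]
      calc χ * c = χ ^ 3 * (χ * c) := by rw [h3, one_mul]
        _ = χ * (χ * (χ * (χ * c))) := by ring
        _ = c := h9.symm
    exact mul_right_cancel₀ hc0 h10

theorem core (hG1 : RGD.Sup X' {x | IsRoot cs h x} = ⊤) (hN : KFacts.RgdCent.NoCent cs h T' X') (h01 : A 0 1 = -2)
    (h10 : A 1 0 = -1) {β : MulAut Y} {σ : Equiv.Perm (Fin 2)} (D : Diag T X β σ) (hβ : ∀ y, β (β y) = y)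
    (h4 : ∀ s ∈ T, ∀ t ∈ T, β s = s ∨ β t = t ∨ β (s * t) = s * t ∨ β (s * (t * t)) = s * (t * t)) : β = 1 := by
  obtain ⟨ω, hω0, hω1⟩ := f4_exists hF
  have hω3 := f4_pow hF hω0
  have hω2 := f4_sq hF hω0 hω1
  -- the rank one tori
  have hel_T : ∀ (i : Fin 2) (c : F), c ≠ 0 → hel e (sr i) c ∈ T' ⊓ Lr X' i := fun i c hc =>
    (mem_T_rank_one S hG1 hN i _).2 ⟨c, hc, rfl⟩
  have hch : ∀ (i j : Fin 2) (c : F), c ≠ 0 → chS e (sr j) (hel e (sr i) c) = c ^ A i j := by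
    intro i j c hc
    rw [chS_hel S hG1 (isRoot_sr cs h i) (isRoot_sr cs h j) hc, cpr_sr, sr, pairing_single, mul_one]
  have hd0 : A 0 0 = 2 := h.diag 0
  have hd1 : A 1 1 = 2 := h.diag 1
  obtain ⟨c0, ⟨hc0T, hc0L⟩, hc0⟩ := J.exists_c R' (hel_T 0 ω hω0)
  obtain ⟨c1, ⟨hc1T, hc1L⟩, hc1⟩ := J.exists_c R' (hel_T 1 ω hω0)
  have hx0 := isRoot_sr cs h (0 : Fin 2)
  have hx1 := isRoot_sr cs h (1 : Fin 2)
  -- the scalars
  have h00 : chS e (sr 0) (f c0) = ω ^ 2 := by rw [hc0, hch 0 0 ω hω0, hd0]; exact zpow_ofNat ω 2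
  have h01' : chS e (sr 1) (f c0) = ω := by
    rw [hc0, hch 0 1 ω hω0, h01]
    have : ω ^ (-2 : ℤ) = ω ^ 3 * ω ^ (-2 : ℤ) := by rw [hω3, one_mul]
    rw [this, ← zpow_natCast ω 3, ← zpow_add₀ hω0]
    norm_num
  have h10' : chS e (sr 0) (f c1) = ω ^ 2 := by
    rw [hc1, hch 1 0 ω hω0, h10]
    have : ω ^ (-1 : ℤ) = ω ^ 3 * ω ^ (-1 : ℤ) := by rw [hω3, one_mul]
    rw [this, ← zpow_natCast ω 3, ← zpow_add₀ hω0]
    norm_num
  have h11 : chS e (sr 1) (f c1) = ω ^ 2 := by rw [hc1, hch 1 1 ω hω0, hd1]; exact zpow_ofNat ω 2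
  have hperm : ∀ τ : Equiv.Perm (Fin 2), τ = 1 ∨ (τ 0 = 1 ∧ τ 1 = 0) := by decide
  rcases hperm σ with hσ | ⟨hσ0, hσ1⟩
  · subst hσ
    have hβX : ∀ i, ∀ y ∈ X (sr i), β y ∈ X (sr i) := fun i y hy => (D.pos i y).2 hy
    obtain ⟨t, ht, hβt, i, hi⟩ : ∃ t ∈ T, β t = t ∧ ∃ i, chS e (sr i) (f t) ≠ 1 := by
      rcases h4 c0 hc0T c1 hc1T with h5 | h5 | h5 | h5
      · exact ⟨c0, hc0T, h5, 0, by rw [h00]; exact hω2⟩
      · exact ⟨c1, hc1T, h5, 1, by rw [h11]; exact hω2⟩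
      · refine ⟨_, mul_mem hc0T hc1T, h5, 0, ?_⟩
        rw [J.ch_mul S hx0 hc0T hc1T, h00, h10']
        intro h6
        apply hω1
        calc ω = ω ^ 3 * ω := by rw [hω3, one_mul]
          _ = ω ^ 2 * ω ^ 2 := by ring
          _ = 1 := h6
      · refine ⟨_, mul_mem hc0T (mul_mem hc1T hc1T), h5, 1, ?_⟩
        rw [J.ch_mul S hx1 hc0T (mul_mem hc1T hc1T), J.ch_mul S hx1 hc1T hc1T, h01', h11]
        intro h6
        apply hω2
        calc ω ^ 2 = ω ^ 3 * ω ^ 2 := by rw [hω3, one_mul]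
          _ = ω * (ω ^ 2 * ω ^ 2) := by ring
          _ = 1 := h6
    have h5 := triv_of hF J S hβ (hβX i) ht hβt hi
    have h6 : ∀ x ∈ Lr X i, β x = x := by
      have : Lr X i ≤ β.toMonoidHom.eqLocus (MonoidHom.id Y) :=
        sup_le (fun x hx => h5 x hx) fun x hx => Diag.apply_neg J.rgd D h5 hx
      exact fun x hx => this hx
    obtain ⟨c, hcT, hβc, hcj⟩ : ∃ c ∈ T, β c = c ∧ ∀ j, chS e (sr j) (f c) ≠ 1 := by
      have hj2 : ∀ j : Fin 2, j = 0 ∨ j = 1 := by decide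
      rcases hj2 i with rfl | rfl
      · refine ⟨c0, hc0T, h6 _ hc0L, fun j => ?_⟩
        rcases hj2 j with rfl | rfl
        · rw [h00]; exact hω2
        · rw [h01']; exact hω1
      · refine ⟨c1, hc1T, h6 _ hc1L, fun j => ?_⟩
        rcases hj2 j with rfl | rfl
        · rw [h10']; exact hω2
        · rw [h11]; exact hω2
    exact Diag.eq_one J.rgd J.g1 D fun j => triv_of hF J S hβ (hβX j) hcT hβc (hcj j)
  · exfalso
    -- `β c0`
    have hinv : ∀ t ∈ T, chS e (sr 0) (f t) = 1 ↔ chS e (sr 1) (f (β t)) = 1 := by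
      intro t ht
      rw [J.cent_iff S hx0 ht, J.cent_iff S hx1 ((D.tor t).2 ht)]
      constructor
      · intro h5 y hy
        have h6 : β y ∈ X (sr 0) := by
          have h7 := (D.pos 0 (β y)).1 (by rw [hσ0, hβ]; exact hy)
          exact h7
        have h7 := congrArg β (h5 _ h6)
        rwa [map_mul, map_mul, hβ] at h7
      · intro h5 y hy
        have h6 : β y ∈ X (sr 1) := by
          have := (D.pos 0 y).2 hy
          rwa [hσ0] at this
        have h7 := h5 _ h6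
        rw [← map_mul, ← map_mul] at h7
        exact β.injective h7
    have hβT : β c0 ∈ T := (D.tor _).2 hc0T
    have hβL : β c0 ∈ Lr X 1 := by
      have : Lr X 0 ≤ (Lr X 1).comap β.toMonoidHom := by
        refine sup_le (fun x hx => ?_) (fun x hx => ?_)
        · have h5 := (D.pos 0 x).2 hx
          rw [hσ0] at h5
          exact (le_sup_left : X (sr 1) ≤ Lr X 1) h5
        · have h5 := (D.neg 0 x).2 hx
          rw [hσ0] at h5
          exact (le_sup_right : X (-sr 1) ≤ Lr X 1) h5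
      exact this hc0L
    have hfL : f (β c0) ∈ T' ⊓ Lr X' 1 := by
      refine ⟨J.fT _ hβT, ?_⟩
      have h5 : (Lr X 1).map f = Lr X' 1 := by
        unfold Lr
        rw [Subgroup.map_sup, J.fX _ hx1, J.fX _ hx1.neg]
      rw [← h5]
      exact Subgroup.mem_map_of_mem f hβL
    obtain ⟨d, hd, hde⟩ := (mem_T_rank_one S hG1 hN 1 _).1 hfL
    have k0 : chS e (sr 0) (f (β c0)) = d ^ (-1 : ℤ) := by rw [← hde, hch 1 0 d hd, h10]
    have k1 : chS e (sr 1) (f (β c0)) = d ^ 2 := by rw [← hde, hch 1 1 d hd, hd1]; exact zpow_ofNat d 2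
    have hd1' : d ≠ 1 := by
      intro h5
      rw [h5, one_pow, ← hinv c0 hc0T, h00] at k1
      exact hω2 k1
    -- `t0 = c0 β(c0)`
    have hT0 : c0 * β c0 ∈ T := mul_mem hc0T hβT
    have hβt0 : β (c0 * β c0) = c0 * β c0 := by rw [map_mul, hβ, J.ab _ hβT _ hc0T]
    have m0 : chS e (sr 0) (f (c0 * β c0)) = ω ^ 2 * d ^ (-1 : ℤ) := by
      rw [J.ch_mul S hx0 hc0T hβT, h00, k0]
    have m1 : chS e (sr 1) (f (c0 * β c0)) = ω * d ^ 2 := by
      rw [J.ch_mul S hx1 hc0T hβT, h01', k1]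
    have h5 := hinv _ hT0
    rw [hβt0, m0, m1] at h5
    rcases f4_cases hF hω0 hω1 hd with rfl | rfl | rfl
    · exact hd1' rfl
    · have h6 : d * d ^ 2 = 1 := by rw [← pow_succ', hω3]
      have h7 := h5.2 h6
      rw [zpow_neg_one, pow_two, mul_inv_cancel_right₀ hd] at h7
      exact hω1 h7
    · have h6 : ω ^ 2 * (ω ^ 2) ^ (-1 : ℤ) = 1 := by rw [zpow_neg_one, mul_inv_cancel₀ hd]
      have h7 := h5.1 h6
      apply hω2
      calc ω ^ 2 = ω ^ 3 * ω ^ 2 := by rw [hω3, one_mul]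
        _ = ω * (ω ^ 2) ^ 2 := by ring
        _ = 1 := h7

end four

/-! ### the end -/

section fin

variable {I W H V K' F : Type*} [Fintype I] [DecidableEq I] [Group W] [Finite W] [Group H] [AddCommGroup V]
    [Module (ZMod 2) V] [Group K'] [Field F] {M : CoxeterMatrix I} {cs : CoxeterSystem M W} {A : I → I → ℤ}
    {h : IsCartan M A} {ρ : H →* (V ≃ₗ[ZMod 2] V)} {b : LinearMap.BilinForm (ZMod 2) V} {q : V → ZMod 2}
    {a : V} {D : Submodule (ZMod 2) V} {P : Subgroup H} {w : ℕ} {ζ : V →ₗ[ZMod 2] V} {L : Subgroup H}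
    {T' : Subgroup K'} {n' : I → K'} {X' : (I → ℤ) → Subgroup K'}

/-- the datum meets a Sylow 2-subgroup fixing `a` -/
theorem exists_good [L.Normal] (C : Cfg ρ b q a D P w) {T : Subgroup L} {n : I → L} {X : (I → ℤ) → Subgroup L}
    {f : L →* K'} (J : Cv cs h T n X T' X' f) :
    ∃ (T : Subgroup L) (n : I → L) (X : (I → ℤ) → Subgroup L) (f : L →* K'), Cv cs h T n X T' X' f ∧
      ∃ S : Sylow 2 H, P ≤ S ∧ (∀ s ∈ S, ρ s a = a) ∧ ∀ l : L, l ∈ RGD.Sup X (RGD.Pos cs h) ↔ (l : H) ∈ S := by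
  have hfH := C.finite_H
  obtain ⟨S, hPS, hSa⟩ := C.exists_syl
  obtain ⟨g, hg⟩ := RowOf.exists_syl J.rgd (GG_eq_top J.g1) S
  refine ⟨_, _, _, _, J.conjugate g, S, hPS, fun s hs => hSa hs, fun l => ?_⟩
  rw [RowOf.Sup_cj]
  exact hg l

/-- the module -/
theorem exists_md (C : Cfg ρ b q a D P w)
    (hirr : ∀ W : Submodule (ZMod 2) V, (∀ l ∈ L, ∀ v ∈ W, ρ l v ∈ W) → W = ⊥ ∨ W = ⊤) {T : Subgroup L} {n : I → L}
    {X : (I → ℤ) → Subgroup L} (R : RGD cs h 2 T n X) (hG : RGD.Sup X {x | IsRoot cs h x} = ⊤) :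
    CR.Md cs h T n X (ρ.comp L.subtype) b where
  rgd := R
  gen := GG_eq_top hG
  nondeg := C.nondeg
  b_inv := fun l u v => C.b_inv l u v
  irr := fun E hE => hirr E fun l hl v hv => hE ⟨l, hl⟩ v hv

/-- **all root groups of order 2** -/
theorem false_two [L.Normal] (C : Cfg ρ b q a D P w) (Z : Zt ρ b ζ) (hlin : ∀ l ∈ L, Lin ρ ζ l)
    (hirr : ∀ W : Submodule (ZMod 2) V, (∀ l ∈ L, ∀ v ∈ W, ρ l v ∈ W) → W = ⊥ ∨ W = ⊤)
    {e : (I → ℤ) → F → K'} {R' : RGD cs h 2 T' n' X'} (S' : Sys R' e) (hF : Nat.card F = 2)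
    {T : Subgroup L} {n : I → L} {X : (I → ℤ) → Subgroup L} {f : L →* K'} (J : Cv cs h T n X T' X' f) : False := by
  have hfH := C.finite_H
  obtain ⟨T, n, X, f, J, S, hPS, hSa, hmemU⟩ := exists_good C J
  refine false_of_fix C Z hlin (exists_md C hirr (rgd_T0 J.rgd J.nmem) J.g1) (fun u hu => hSa _ ((hmemU u).1 hu)) ?_
  intro t ht
  rw [T0_eq_bot J S' hF, Subgroup.mem_bot] at ht
  rw [ht]
  exact C.ρ_one a

/-- what is used about the semilinear element `g` -/
theorem fix_of_comm (C : Cfg ρ b q a D P w) (Z : Zt ρ b ζ) {g t : H} (hg : ¬ Lin ρ ζ g) (hga : ρ g a = a)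
    (hc : g * t = t * g) (ht : ρ t a = a ∨ ρ t a = ζ a ∨ ρ t a = ζ a + a) : ρ t a = a := by
  have h1 : ρ g (ρ t a) = ρ t a := by rw [← Base.rho_mul, hc, Base.rho_mul, hga]
  have h2 := Z.nonlin hg a
  rw [hga] at h2
  rcases ht with h3 | h3 | h3
  · exact h3
  · exfalso
    rw [h3, h2] at h1
    exact C.a_ne (add_eq_left.1 h1)
  · exfalso
    rw [h3, map_add, h2, hga, add_assoc, vv, add_zero] at h1
    exact C.a_ne (left_eq_add.1 h1)

end fin

section fin4

variable {W H V K' F : Type*} [Group W] [Finite W] [Group H] [AddCommGroup V]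
    [Module (ZMod 2) V] [Group K'] [Field F] [Finite F] [CharP F 2] {M : CoxeterMatrix (Fin 2)} {cs : CoxeterSystem M W}
    {A : Fin 2 → Fin 2 → ℤ} {h : IsCartan M A} {ρ : H →* (V ≃ₗ[ZMod 2] V)} {b : LinearMap.BilinForm (ZMod 2) V}
    {q : V → ZMod 2} {a : V} {D : Submodule (ZMod 2) V} {P : Subgroup H} {w : ℕ} {ζ : V →ₗ[ZMod 2] V} {L : Subgroup H}
    {T' : Subgroup K'} {n' : Fin 2 → K'} {X' : (Fin 2 → ℤ) → Subgroup K'}

/-- **type `B₂`, `q = 4`** -/
theorem false_four [L.Normal] (C : Cfg ρ b q a D P w) (Z : Zt ρ b ζ) (hlin : ∀ l ∈ L, Lin ρ ζ l)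
    (hirr : ∀ W : Submodule (ZMod 2) V, (∀ l ∈ L, ∀ v ∈ W, ρ l v ∈ W) → W = ⊥ ∨ W = ⊤)
    (hEnd : ∀ f : V →ₗ[ZMod 2] V, (∀ l ∈ L, ∀ v, f (ρ l v) = ρ l (f v)) →
      f = 0 ∨ f = LinearMap.id ∨ f = ζ ∨ f = ζ + LinearMap.id)
    {e : (Fin 2 → ℤ) → F → K'} {R' : RGD cs h 2 T' n' X'} (S' : Sys R' e) (hF : Nat.card F = 4)
    (hG1 : RGD.Sup X' {x | IsRoot cs h x} = ⊤) (hN : KFacts.RgdCent.NoCent cs h T' X') (h01 : A 0 1 = -2)
    (h10 : A 1 0 = -1)
    {T : Subgroup L} {n : Fin 2 → L} {X : (Fin 2 → ℤ) → Subgroup L} {f : L →* K'} (J : Cv cs h T n X T' X' f) :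
    False := by
  have hfH := C.finite_H
  have : Fact (Nat.Prime 2) := ⟨Nat.prime_two⟩
  obtain ⟨T, n, X, f, J, S, hPS, hSa, hmemU⟩ := exists_good C J
  have N := exists_md C hirr J.rgd J.g1
  have hU : ∀ u ∈ RGD.Sup X (RGD.Pos cs h), ρ u a = a := fun u hu => hSa _ ((hmemU u).1 hu)
  have hact := fun t ht => act_T C hEnd N J.ab hU (t := t) ht
  obtain ⟨x, hx, hxn⟩ := exists_nonlin C Z
  have hxS := hPS hx
  have hα : Fix (MulAut.conjNormal x : MulAut L) (RGD.Sup X (RGD.Pos cs h)) := by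
    intro l
    rw [hmemU, hmemU, MulAut.conjNormal_apply]
    constructor
    · intro h1
      have h2 := mul_mem (mul_mem (inv_mem hxS) h1) hxS
      have e : x⁻¹ * (x * (l : H) * x⁻¹) * x = l := by group
      rwa [e] at h2
    · intro h1
      exact mul_mem (mul_mem hxS h1) (inv_mem hxS)
  obtain ⟨u, hu, -, -, hpow, σ, D'⟩ := exists_frame_pow J.rgd (GG_eq_top J.g1) hα
  set β : MulAut L := MulAut.conj u * MulAut.conjNormal x with hβ
  have hβ2 : ∀ y, β (β y) = y := by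
    intro y
    have h1 := hpow 2 (by rw [← map_pow, pow_two, C.X_sq x hx, map_one])
    rw [← MulAut.mul_apply, ← pow_two, h1]
    rfl
  have hβv : ∀ l : L, ((β l : L) : H) = (u * x) * l * ((u : H) * x)⁻¹ := by
    intro l
    rw [hβ, MulAut.mul_apply, MulAut.conj_apply, Subgroup.coe_mul, Subgroup.coe_mul, MulAut.conjNormal_apply,
      Subgroup.coe_inv]
    group
  have hga : ρ ((u : H) * x) a = a := by rw [Base.rho_mul, C.X_a hx, hU u hu]
  have hgn : ¬ Lin ρ ζ ((u : H) * x) := by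
    intro h1
    apply hxn
    have h2 := lin_mul (lin_inv (hlin u u.2)) h1
    rwa [inv_mul_cancel_left] at h2
  -- `β` fixes the stabiliser of `a`
  have hfix : ∀ t ∈ T, ρ t a = a → β t = t := by
    intro t ht hta
    have hz : MulAut.conjNormal x t * t⁻¹ ∈ RGD.Sup X (RGD.Pos cs h) := by
      rw [hmemU]
      apply hPS
      rw [Subgroup.coe_mul, MulAut.conjNormal_apply, Subgroup.coe_inv]
      have h1 : x * t * x⁻¹ * (t : H)⁻¹ = x * ((t : H) * x * (t : H)⁻¹)⁻¹ := by group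
      rw [h1]
      exact mul_mem hx (inv_mem (C.X_norm _ hta x hx))
    have h1 : β t * t⁻¹ ∈ RGD.Sup X (RGD.Pos cs h) := by
      have h2 : β t * t⁻¹ = u * (MulAut.conjNormal x t * t⁻¹) * (t * u⁻¹ * t⁻¹) := by
        rw [hβ, MulAut.mul_apply, MulAut.conj_apply]
        group
      rw [h2]
      exact mul_mem (mul_mem hu hz) (CR.conj_U J.rgd ht (inv_mem hu))
    have h2 : β t * t⁻¹ ∈ T := mul_mem ((D'.tor t).2 ht) (inv_mem ht)
    have h3 := U_inf_T J.rgd
    rw [Subgroup.eq_bot_iff_forall] at h3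
    exact mul_inv_eq_one.1 (h3 _ ⟨h1, h2⟩)
  have hzz : ζ (ζ a) + ζ a = a := by rw [Z.sq, add_right_comm, vv, zero_add]
  have hzzz : ζ (ζ (ζ a)) = a := by rw [Z.sq (ζ a)]; exact hzz
  have h4 : ∀ s ∈ T, ∀ t ∈ T, β s = s ∨ β t = t ∨ β (s * t) = s * t ∨ β (s * (t * t)) = s * (t * t) := by
    intro s hs t ht
    have hsl : ∀ v, ρ s (ζ v) = ζ (ρ s v) := hlin s s.2
    have htl : ∀ v, ρ t (ζ v) = ζ (ρ t v) := hlin t t.2
    rcases hact s hs with h1 | h1 | h1
    · exact Or.inl (hfix s hs h1)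
    · rcases hact t ht with h2 | h2 | h2
      · exact Or.inr (Or.inl (hfix t ht h2))
      · right; right; right
        refine hfix _ (mul_mem hs (mul_mem ht ht)) ?_
        rw [Subgroup.coe_mul, Subgroup.coe_mul, Base.rho_mul, Base.rho_mul, h2, htl, h2, hsl, hsl, h1, hzzz]
      · right; right; left
        refine hfix _ (mul_mem hs ht) ?_
        rw [Subgroup.coe_mul, Base.rho_mul, h2, map_add, hsl, h1, hzz]
    · rcases hact t ht with h2 | h2 | h2
      · exact Or.inr (Or.inl (hfix t ht h2))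
      · right; right; left
        refine hfix _ (mul_mem hs ht) ?_
        rw [Subgroup.coe_mul, Base.rho_mul, h2, hsl, h1, map_add, hzz]
      · right; right; right
        refine hfix _ (mul_mem hs (mul_mem ht ht)) ?_
        have h3 : ρ (t : H) (ζ a + a) = ζ a := by
          rw [map_add, htl, h2, map_add, hzz, add_comm (ζ a) a, ← add_assoc, vv, zero_add]
        rw [Subgroup.coe_mul, Subgroup.coe_mul, Base.rho_mul, Base.rho_mul, h2, h3, hsl, h1, map_add, hzz]
  have hβ1 := core hF J S' hG1 hN h01 h10 D' hβ2 h4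
  refine false_of_fix C Z hlin N hU fun t ht => fix_of_comm C Z hgn hga ?_ (hact t ht)
  have h1 := hβv t
  rw [hβ1] at h1
  exact (mul_inv_eq_iff_eq_mul.1 h1.symm)

end fin4

section main

open Cfsg

variable {H V : Type*} [Group H] [AddCommGroup V] [Module (ZMod 2) V]
    {ρ : H →* (V ≃ₗ[ZMod 2] V)} {b : LinearMap.BilinForm (ZMod 2) V}
    {q : V → ZMod 2} {a : V} {D : Submodule (ZMod 2) V} {X : Subgroup H} {w : ℕ} {ζ : V →ₗ[ZMod 2] V} {L : Subgroup H}

/-- **`Sp₆(2)` and `Sp₄(4)`** -/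
theorem sp {F : Type*} [Field F] [Fintype F] [CharP F 2] {m : ℕ} (C : Cfg ρ b q a D X w) (Z : Zt ρ b ζ)
    (hlin : ∀ l ∈ L, Lin ρ ζ l) (hL : L.Normal) (hq : IsQuasisimple L) (ho : Odd (Nat.card (Subgroup.center L)))
    (hirr : ∀ W : Submodule (ZMod 2) V, (∀ l ∈ L, ∀ v ∈ W, ρ l v ∈ W) → W = ⊥ ∨ W = ⊤)
    (hEnd : ∀ f : V →ₗ[ZMod 2] V, (∀ l ∈ L, ∀ v, f (ρ l v) = ρ l (f v)) →
      f = 0 ∨ f = LinearMap.id ∨ f = ζ ∨ f = ζ + LinearMap.id)
    (e : Nonempty ((L ⧸ Subgroup.center L) ≃* PSp m F))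
    (h : m = 3 ∧ Fintype.card F = 2 ∨ m = 2 ∧ Fintype.card F = 4) : False := by
  have hfH := C.finite_H
  have : Fact (Nat.Prime 2) := ⟨Nat.prime_two⟩
  obtain ⟨e⟩ := e
  have : Finite (CoxeterMatrix.B m).Group := Nodes.TypeC.finite_W (CoxeterMatrix.B m).toCoxeterSystem
  have hm : 0 < m := by
    rcases h with h | h
    · rw [h.1]; norm_num
    · rw [h.1]; norm_num
  set f : L →* PSp m F := e.toMonoidHom.comp (QuotientGroup.mk' (Subgroup.center L)) with hf
  have hker : f.ker = Subgroup.center L := by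
    ext z
    rw [MonoidHom.mem_ker, hf, MonoidHom.comp_apply]
    have h1 : e.toMonoidHom (QuotientGroup.mk' (Subgroup.center L) z) = 1 ↔
        QuotientGroup.mk' (Subgroup.center L) z = 1 := by
      constructor
      · intro h2
        exact e.injective (h2.trans (map_one e).symm)
      · intro h2
        rw [h2, map_one]
    rw [h1, QuotientGroup.mk'_apply, QuotientGroup.eq_one_iff]
  have hs : Function.Surjective f := e.surjective.comp (QuotientGroup.mk'_surjective _)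
  have hp : (Nat.card f.ker).Coprime 2 := by
    rw [hker]
    exact Nat.coprime_two_right.2 ho
  have hperf : ⁅(⊤ : Subgroup L), (⊤ : Subgroup L)⁆ = ⊤ := hq.1.commutator_eq_top
  have S' := KFacts.SysSp.sys_PSp m F (CoxeterMatrix.B m).toCoxeterSystem
  have hG1 := KFacts.SysSp.sup_eq_top_PSp hm F (CoxeterMatrix.B m).toCoxeterSystem
  have hN := KFacts.SysSp.noCent_PSp m F (CoxeterMatrix.B m).toCoxeterSystem
  obtain ⟨T, n, X', J⟩ := exists_cv S' hG1 hN f hker.le hp hs hperf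
  rcases h with ⟨-, hF⟩ | ⟨rfl, hF⟩
  · exact false_two C Z hlin hirr S' (by rw [Nat.card_eq_fintype_card, hF]) J
  · refine false_four C Z hlin hirr hEnd S' (by rw [Nat.card_eq_fintype_card, hF]) hG1 hN ?_ ?_ J
    · rw [Nodes.TypeC.A_apply]
      simp
    · rw [Nodes.TypeC.A_apply]
      simp

end main

end Cfsg.Agent.Omega.EH3.ESix.Sp
end

-- part: Mrg/Omega/EH3/ESix/Main
section
set_option linter.all false
open scoped Cfsg.Agent.FastGrp


/-!
# EH3: `End_L(V) = F₄` does not occur for `w = 6`, `L/Z(L)` of Lie type in characteristic 2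

`e6 : Kf.Main.End6 IsLieTypeChar2`.  (helper415, with helper576 (Ord), helper234 (Rows), helper810 (Sp); bb OMEGA #16215)

* `Bound` : `|L|_2 ≤ 2^11` if `ζ ∈ End_L(V)` is self-adjoint, `|L|_2 ≤ 2^9` if it is an isometry;
* `Prime` : `73 ∤ |L|`, and `11, 31 ∤ |L|` in the self-adjoint case;
* `Ord` : the groups which are left; `Rows`, `Sp` : these groups do not occur.
-/

set_option autoImplicit false

namespace Cfsg.Agent.Omega.EH3.ESix.Main

open Subgroup Cfsg.Agent.Omega.EH3 Cfsg.Agent.Omega.EH3.ESix.Base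

universe u

/-- **`w = 6`, `L/Z(L)` of Lie type in characteristic 2: `End_L(V) = F₂`.** -/
theorem end_six {H V : Type u} [Group H] [AddCommGroup V] [Module (ZMod 2) V]
    {ρ : H →* (V ≃ₗ[ZMod 2] V)} {b : LinearMap.BilinForm (ZMod 2) V} {q : V → ZMod 2}
    {a : V} {D : Submodule (ZMod 2) V} {X L : Subgroup H} (C : Cfg ρ b q a D X 6) (hL : L.Normal)
    (hq : IsQuasisimple L) (ho : Odd (Nat.card (center L))) (hX : X ⊓ centralizer (L : Set H) = ⊥)
    (hK : IsLieTypeChar 2 (L ⧸ center L))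
    (hirr : ∀ W : Submodule (ZMod 2) V, (∀ l ∈ L, ∀ v ∈ W, ρ l v ∈ W) → W = ⊥ ∨ W = ⊤) :
    ∀ f : V →ₗ[ZMod 2] V, (∀ l ∈ L, ∀ v, f (ρ l v) = ρ l (f v)) → f = 0 ∨ f = LinearMap.id := by
  rcases Irr.Shape.shape C hL hirr with h | ⟨ζ, h1, hE, hcomm, h2, h3⟩
  · exact h
  · exfalso
    have Z : Zt ρ b ζ := ⟨h1, h2, h3⟩
    have hlin : ∀ l ∈ L, Lin ρ ζ l := fun l hl v => (hcomm l hl v).symm
    rcases Rows.rows.{u} (Core.left C Z hL hlin hK) with h | ⟨F, _, _, _, hF, e⟩ | ⟨F, _, _, _, hF, e⟩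
    · have hperf : commutator L = ⊤ := hq.1.commutator_eq_top
      refine h H V ρ b q a D X 6 L (QuotientGroup.mk' (center L)) hL ⟨hperf, QuotientGroup.mk'_surjective _, ?_, ?_⟩
        hX C
      · rw [QuotientGroup.ker_mk']
      · rw [QuotientGroup.ker_mk']
        exact ho
    · exact Sp.sp C Z hlin hL hq ho hirr hE e (Or.inr ⟨rfl, hF⟩)
    · exact Sp.sp C Z hlin hL hq ho hirr hE e (Or.inl ⟨rfl, hF⟩)

/-- **End6.** -/
theorem e6 : Kf.Main.End6.{u} (fun X _ => IsLieTypeChar 2 X) :=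
  fun _ _ _ _ _ _ _ _ _ _ _ _ C hL hq ho hX hK hirr => end_six C hL hq ho hX hK hirr

end Cfsg.Agent.Omega.EH3.ESix.Main
end

-- part: Mrg/Omega/IId/SymMany/End
section
prune_inst 0x4200800580002000000059011001c468e00059000280400dca10542048e7f6005002960fc001e01482a220400380000025c0080004000000420000001190481900850040300a10406000f809086000000000000000000000000000000041004200000000
set_option linter.all false
open scoped Cfsg.Agent.FastGrp

-- merged: Cfsg.Agent.Mrg.Omega.NSix.HT.LemN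
section

/-!
# OMEGA N6, (H2) without (ML) and without SN (helper605 #18920): (1) and (2)  (helper250)

Over `LemTwo.In S V P ε i j` (helper537). `N = C_G(r_ij)`, `L = N_G(V)`, `X₀ = XX ε i j = ⟨U_ik⟩`,
`Q⁰ = Q0 ε i j = O₂(N) ∩ C_G(V)`; the functional `λ : O₂(N) → ⟨r_ij⟩` (`q` acts on `V` as `(i j)^λ(q)`) has kernel `Q⁰`.

* `mem_norm` : LEMMA N: `x ∈ N`, `X₀ ≤ L^x` implies `x ∈ L`;
* `syl_D`, `norm_syl` : for `r_ij ∈ D ≤ V` and `T` Sylow in `C_L(D)`: `T` is Sylow in `C_G(D)`, its normaliser in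
  `C_G(D)` is in `L`; more generally `mem_of_le`;
* `fusion` : for `x ∈ N` there is `c ∈ C_G(V ∩ V^x)` with `V^x = V^c`;
* `two` : (2): if `V` and `V^x` commute, `x ∈ N`, then `[Q⁰, U_ik]` centralises `V^x`;
* `L_fix` : `L ∩ N` fixes `λ`.
-/

set_option autoImplicit false
set_option linter.unusedSectionVars false

namespace Cfsg.Agent.Omega.NSix.HT

open Subgroup Cfsg
open Cfsg.Agent.ZN (o2 zc zl)
open Cfsg.Agent.ZN.ChoiceSit (Syl)
open Cfsg.Agent.MinSimple.VModule (o2_le o2_isPGroup le_normalizer_o2 le_o2)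
open Cfsg.Agent.Omega.S5.Def Cfsg.Agent.Omega.S5.Syl
open Cfsg.Agent.Omega.NSix.Base Cfsg.Agent.Omega.NSix.Basic Cfsg.Agent.Omega.NSix.Engine
open Cfsg.Agent.Omega.NSix.CosetAct (V0 mem_V0)
open Cfsg.Agent.Omega.NSix.HTwo.LemTwo
open Cfsg.Agent.Omega.NSix.HT.Five (Q0)
open Cfsg.Agent.Omega.TTn.Di (cm cj)
open Cfsg.Agent.Omega.TTn Cfsg.Agent.Omega

universe u

section

variable {G : Type u} [Group G] [Finite G] {m : ℕ} {S : Sylow 2 G} {V P : Subgroup G}
  {ε : (Fin (2 ^ m + 1) → ZMod 2) → G} {i j : Fin (2 ^ m + 1)}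

/-- `O₂(N)` is normalised by `N` -/
theorem o2_norm {g q : G} (hg : g ∈ NN ε i j) (hq : q ∈ o2 (NN ε i j)) : g * q * g⁻¹ ∈ o2 (NN ε i j) :=
  (mem_normalizer_iff.1 (le_normalizer_o2 (NN ε i j) hg) q).1 hq

variable (h : In S V P ε i j)
include h

/-- `L` acts on `C_G(V)` -/
theorem KK_norm {g x : G} (hg : g ∈ normalizer (V : Set G)) (hx : x ∈ KK ε) : g * x * g⁻¹ ∈ KK ε := by
  obtain ⟨σ, hσ⟩ := h.evL.perm g hg
  exact Fr.KK_conj hσ hx

/-- `L ∩ N` fixes `λ` -/
theorem Q0_norm {g q : G} (hgN : g ∈ NN ε i j) (hg : g ∈ normalizer (V : Set G)) (hq : q ∈ Q0 ε i j) :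
    g * q * g⁻¹ ∈ Q0 ε i j := ⟨o2_norm hgN hq.1, KK_norm h hg hq.2⟩

theorem L_fix {g : G} (hgN : g ∈ NN ε i j) (hg : g ∈ normalizer (V : Set G)) :
    g ∈ normalizer (Q0 ε i j : Set G) :=
  DiCoreAbs.mem_norm_of fun _ hq => Q0_norm h hgN hg hq

/-- **LEMMA N** -/
theorem mem_norm {g : G} (hg : g ∈ NN ε i j) (hX : ∀ x ∈ XX ε i j, g⁻¹ * x * g ∈ normalizer (V : Set G)) :
    g ∈ normalizer (V : Set G) := by
  refine h.cut ⟨hg, lem2 h.hyp h.evL h.ij h.one h.cut hg fun x hx => h.L_norm ⟨hX x hx, ?_⟩⟩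
  have h1 : g⁻¹ * x * g ∈ NN ε i j := mul_mem (mul_mem (inv_mem hg) (KK_le_NN i j (XX_le_KK h.hyp hx))) hg
  exact h1

/-- LEMMA N for subgroups: `X₀ ≤ A`, `A^g ≤ L` -/
theorem mem_of_le {A : Subgroup G} (hXA : XX ε i j ≤ A) {g : G} (hg : g ∈ NN ε i j)
    (hA : ∀ x ∈ A, g⁻¹ * x * g ∈ normalizer (V : Set G)) : g ∈ normalizer (V : Set G) :=
  mem_norm h hg fun x hx => hA x (hXA hx)

/-- `X₀ ≤ O₂(C_G(V)) ≤ T` -/
theorem XX_le_syl {D T : Subgroup G} (hD : D ≤ V) (hT : Syl T (centralizer (D : Set G) ⊓ normalizer (V : Set G))) :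
    XX ε i j ≤ T := by
  refine le_trans ?_ (ZN.ChoiceSit.o2_le_syl hT)
  refine (XX_le_o2 h.hyp).trans (le_o2 ?_ (o2_isPGroup _) ?_)
  · refine (o2_le _).trans fun x hx => ⟨?_, ?_⟩
    · rw [KK_eq h.hyp] at hx
      exact centralizer_le hD hx
    · rw [KK_eq h.hyp] at hx
      exact (Subgroup.centralizer_le_normalizer (V : Set G)) hx
  · intro g hg
    refine DiCoreAbs.mem_norm_of fun x hx => Zero.o2_conj (fun x hx => KK_norm h hg.2 hx) (fun x hx => ?_) hx
    have h1 := KK_norm h (inv_mem hg.2) hx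
    rwa [inv_inv] at h1

theorem centralizer_le_NN {D : Subgroup G} (hr : rr ε i j ∈ D) : centralizer (D : Set G) ≤ NN ε i j :=
  fun _ hx => mem_NN.2 ((mem_centralizer_iff.1 hx _ hr).symm)

/-- `N_{C_G(D)}(T) ≤ L` -/
theorem norm_syl {D T : Subgroup G} (hD : D ≤ V) (hr : rr ε i j ∈ D)
    (hT : Syl T (centralizer (D : Set G) ⊓ normalizer (V : Set G))) :
    centralizer (D : Set G) ⊓ normalizer (T : Set G) ≤ normalizer (V : Set G) := by
  rintro g ⟨hg, hgT⟩
  refine mem_of_le h (XX_le_syl h hD hT) (centralizer_le_NN h hr hg) fun x hx => ?_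
  have h1 := (mem_normalizer_iff.1 (inv_mem hgT) x).1 hx
  rw [inv_inv] at h1
  exact (hT.1 h1).2

/-- **`T` is a Sylow 2-subgroup of `C_G(D)`** -/
theorem syl_D {D T : Subgroup G} (hD : D ≤ V) (hr : rr ε i j ∈ D)
    (hT : Syl T (centralizer (D : Set G) ⊓ normalizer (V : Set G))) : Syl T (centralizer (D : Set G)) := by
  refine ⟨hT.1.trans inf_le_left, hT.2.1, fun R hRN hR hTR => ?_⟩
  refine (ZN.ChoiceNse.eq_of_normalizer_inf_le hR hTR ?_).symm
  have h1 := hT.2.2 (normalizer (T : Set G) ⊓ R) (fun g hg => ⟨hRN hg.2, norm_syl h hD hr hT ⟨hRN hg.2, hg.1⟩⟩)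
    (hR.to_le inf_le_right) (le_inf le_normalizer hTR)
  exact h1.le

/-- **(FUSION)** -/
theorem fusion {x : G} (hx : x ∈ NN ε i j) :
    ∃ c ∈ centralizer ((V ⊓ V.map (MulAut.conj x).toMonoidHom : Subgroup G) : Set G),
      c⁻¹ * x ∈ normalizer (V : Set G) := by
  set D : Subgroup G := V ⊓ V.map (MulAut.conj x).toMonoidHom with hDd
  set D' : Subgroup G := D.map (MulAut.conj x⁻¹).toMonoidHom with hD'd
  have hr : rr ε i j ∈ D := by
    refine ⟨rr_mem h.hyp.ev i j, rr ε i j, rr_mem h.hyp.ev i j, ?_⟩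
    exact mem_NN'.1 hx
  have hr' : rr ε i j ∈ D' := by
    refine ⟨rr ε i j, hr, ?_⟩
    exact mem_NN'.1 (inv_mem hx)
  have hD' : D' ≤ V := by
    rintro _ ⟨_, ⟨-, v, hv, rfl⟩, rfl⟩
    change x⁻¹ * (x * v * x⁻¹) * x⁻¹⁻¹ ∈ V
    have h1 : x⁻¹ * (x * v * x⁻¹) * x⁻¹⁻¹ = v := by group
    rw [h1]; exact hv
  obtain ⟨T, hT, -⟩ := ZN.ChoiceSit.exists_syl (T := ⊥)
    (X := centralizer (D : Set G) ⊓ normalizer (V : Set G)) IsPGroup.of_bot bot_le
  obtain ⟨T', hT', -⟩ := ZN.ChoiceSit.exists_syl (T := ⊥)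
    (X := centralizer (D' : Set G) ⊓ normalizer (V : Set G)) IsPGroup.of_bot bot_le
  have e1 := syl_D h inf_le_left hr hT
  have e2 := syl_D h hD' hr' hT'
  have hcen : ∀ c, c ∈ centralizer (D' : Set G) ↔ x * c * x⁻¹ ∈ centralizer (D : Set G) := by
    intro c
    rw [mem_centralizer_iff, mem_centralizer_iff]
    constructor
    · intro hc d hd
      have h1 := hc (x⁻¹ * d * x) ⟨d, hd, by change x⁻¹ * d * x⁻¹⁻¹ = _; rw [inv_inv]⟩
      calc d * (x * c * x⁻¹) = x * (x⁻¹ * d * x * c) * x⁻¹ := by group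
        _ = x * (c * (x⁻¹ * d * x)) * x⁻¹ := by rw [h1]
        _ = _ := by group
    · rintro hc _ ⟨d, hd, rfl⟩
      change x⁻¹ * d * x⁻¹⁻¹ * c = c * (x⁻¹ * d * x⁻¹⁻¹)
      have h1 := hc d hd
      calc x⁻¹ * d * x⁻¹⁻¹ * c = x⁻¹ * (d * (x * c * x⁻¹)) * x := by group
        _ = x⁻¹ * ((x * c * x⁻¹) * d) * x := by rw [h1]
        _ = _ := by group
  have e3 : Syl (T'.map (MulAut.conj x).toMonoidHom) (centralizer (D : Set G)) := by
    refine ⟨?_, e2.2.1.map _, fun R hR hR2 hTR => ?_⟩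
    · rintro _ ⟨t, ht, rfl⟩
      exact (hcen t).1 (e2.1 ht)
    · have h1 := e2.2.2 (R.map (MulAut.conj x⁻¹).toMonoidHom) (by
        rintro _ ⟨t, ht, rfl⟩
        refine (hcen _).2 ?_
        have h2 : x * (MulAut.conj x⁻¹).toMonoidHom t * x⁻¹ = t := by
          change x * (x⁻¹ * t * x⁻¹⁻¹) * x⁻¹ = t
          group
        rw [h2]
        exact hR ht) (hR2.map _) (by
        intro t ht
        refine ⟨x * t * x⁻¹, hTR ⟨t, ht, rfl⟩, ?_⟩
        change x⁻¹ * (x * t * x⁻¹) * x⁻¹⁻¹ = t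
        group)
      rw [← h1]
      ext r
      constructor
      · intro hr
        refine ⟨x⁻¹ * r * x⁻¹⁻¹, ⟨r, hr, rfl⟩, ?_⟩
        change x * (x⁻¹ * r * x⁻¹⁻¹) * x⁻¹ = r
        group
      · rintro ⟨_, ⟨r', hr', rfl⟩, rfl⟩
        change x * (x⁻¹ * r' * x⁻¹⁻¹) * x⁻¹ ∈ R
        have h2 : x * (x⁻¹ * r' * x⁻¹⁻¹) * x⁻¹ = r' := by group
        rw [h2]; exact hr'
  obtain ⟨c, hc, hcT⟩ := ZN.ChoiceSit.syl_conj e3 e1
  refine ⟨c⁻¹, inv_mem hc, ?_⟩
  rw [inv_inv]
  refine mem_of_le h (XX_le_syl h inf_le_left hT) (mul_mem (centralizer_le_NN h hr hc) hx) fun y hy => ?_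
  rw [← hcT] at hy
  obtain ⟨_, ⟨t, ht, rfl⟩, rfl⟩ := hy
  have h1 : (c * x)⁻¹ * (MulAut.conj c).toMonoidHom ((MulAut.conj x).toMonoidHom t) * (c * x) = t := by
    change (c * x)⁻¹ * (c * (x * t * x⁻¹) * c⁻¹) * (c * x) = t
    group
  rw [h1]
  exact (hT'.1 ht).2

/-- **(2)** -/
theorem two {x : G} (hx : x ∈ NN ε i j) (hV : ∀ v ∈ V, ∀ v' ∈ V, v * (x * v' * x⁻¹) = x * v' * x⁻¹ * v)
    {k : Fin (2 ^ m + 1)} (hki : k ≠ i) (hkj : k ≠ j) {a q : G} (ha : a ∈ _root_.Cfsg.Agent.Omega.NSix.Base.UU ε i k) (hq : q ∈ Q0 ε i j) :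
    ∀ v ∈ V, a⁻¹ * (q * a * q⁻¹) * (x * v * x⁻¹) = x * v * x⁻¹ * (a⁻¹ * (q * a * q⁻¹)) := by
  intro v hv
  obtain ⟨w, F⟩ := h.hyp.exists_fr
  obtain ⟨-, h2⟩ := F.uq h.ij hki hkj ha hq.1 hq.2
  unfold TTn.Di.cj at h2
  -- `U_ij` centralises `V^x`
  have h3 : ∀ y ∈ _root_.Cfsg.Agent.Omega.NSix.Base.UU ε i j, y * (x * v * x⁻¹) = x * v * x⁻¹ * y := by
    intro y hy
    have h4 := UU_normal (inv_mem hx) hy
    rw [inv_inv] at h4
    have h5 := mem_KK'.1 (h.hyp.UK h.ij h4)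
    obtain ⟨f, rfl⟩ := h.hyp.ev.surj v hv
    calc y * (x * ε f * x⁻¹) = x * (x⁻¹ * y * x * ε f) * x⁻¹ := by group
      _ = x * (ε f * (x⁻¹ * y * x)) * x⁻¹ := by rw [h5]
      _ = _ := by group
  have h6 := hV (zz ε j) (zz_mem h.hyp.ev j) v hv
  rcases h2 with h2 | h2
  · exact h3 _ h2
  · have h7 := h3 _ h2
    have h8 : a⁻¹ * (q * a * q⁻¹) = a⁻¹ * (q * a * q⁻¹) * zz ε j * (zz ε j)⁻¹ := by group
    have h9 : (zz ε j)⁻¹ * (x * v * x⁻¹) = x * v * x⁻¹ * (zz ε j)⁻¹ := by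
      rw [zz_inv h.hyp.ev]; exact h6
    rw [h8, mul_assoc _ (zz ε j)⁻¹, h9, ← mul_assoc, h7, mul_assoc]

end

end Cfsg.Agent.Omega.NSix.HT

end

-- merged: Cfsg.Agent.Mrg.Omega.NSix.HT.Four
section

/-!
# OMEGA N6, (H2) without (ML) and THEOREM SN: #18920 (helper605) (4)

* `tl` : (TL'): `u ∈ U_ij`, `[u, U_ik] ≤ ⟨c⟩`, `c ∈ V_ij` ⟹ `[u, U_ik] = 1`;
* `kill` : `T ≥ XX`, `|T : K| ≤ 2`, `XX ≰ K`, `u ∈ U_ij`, `[u, K] ≤ ⟨ξ⟩`, `ξ ∈ C_V(T)` ⟹ `u ∈ V`;
* `four` : `C_G(r_ij, z_k)` fixes `λ` (normalises `Q0 ε i j`), from (1), (3) as hypotheses `syl`, `fus`, `key`.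
-/

set_option autoImplicit false
set_option linter.unusedSectionVars false

namespace Cfsg.Agent.Omega.NSix.HT.Four

open Subgroup Cfsg
open Cfsg.Agent.ZN (o2 zc zl)
open Cfsg.Agent.ZN.ChoiceSit (Syl)
open Cfsg.Agent.MinSimple.VModule (o2_le o2_isPGroup le_normalizer_o2 le_o2 mem_zc)
open Cfsg.Agent.Omega.S5.Def Cfsg.Agent.Omega.S5.Syl
open Cfsg.Agent.Omega.NSix.Base Cfsg.Agent.Omega.NSix.Basic Cfsg.Agent.Omega.NSix.Engine
open Cfsg.Agent.Omega.NSix.Engine.Fr (Cen)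
open Cfsg.Agent.Omega.NSix.CosetAct (V0 mem_V0)
open Cfsg.Agent.Omega.NSix.HTwo.LemTwo (In XX mem_XX KK_le_NN KK_eq exists_half pair_of XX_le_KK V0_le)
open Cfsg.Agent.Omega.NSix.HTwo (cS mem_cS cS_le comm_of_cS)
open Cfsg.Agent.Omega.NSix.HT.Five (Q0 fix_of_acts)
open Cfsg.Agent.Omega.NSix.TLEnd (Sy Nc)
open Cfsg.Agent.MinSimple.MinParabolic (IsMinPar)
open Cfsg.Agent.Omega.TTn.Di (cm cj cj_mul cj_inv cj_cj cj_one cj_eq_of_comm comm_of_cj cj_eq_cm cm_eq
  cm_one_iff cm_eq')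
open Cfsg.Agent.Omega.TTn

universe u

variable {G : Type u} [Group G] [Finite G]

section tl

variable {n : ℕ} {V P : Subgroup G} {ε : (Fin n → ZMod 2) → G} {i j k : Fin n} {S : Sylow 2 G} {m : ℕ}

omit [Finite G] in
theorem cj_cm (g a b : G) : cj g (cm a b) = cm (cj g a) (cj g b) := by
  unfold cj cm; group

/-- **(TL')** -/
theorem tl (s : Sy S V P ε m) (hnc : Nc ε) (hij : i ≠ j) (hki : k ≠ i) (hkj : k ≠ j) {u : G}
    (hu : u ∈ _root_.Cfsg.Agent.Omega.NSix.Base.UU ε i j) {v : Fin n → ZMod 2} (hv : v i = v j)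
    (hc : ∀ y ∈ UU ε i k, cm u y = 1 ∨ cm u y = ε v) : Cen (_root_.Cfsg.Agent.Omega.NSix.Base.UU ε) u i k := by
  by_contra hne
  have hne' : ∃ y0 ∈ _root_.Cfsg.Agent.Omega.NSix.Base.UU ε i k, ¬ u * y0 = y0 * u := by
    by_contra hcon
    push Not at hcon
    exact hne hcon
  obtain ⟨y0, hy0, hne0⟩ := hne'
  have h := s.hyp
  obtain ⟨w, F⟩ := h.exists_fr
  have hy0v : cm u y0 = ε v := (hc y0 hy0).resolve_left fun h1 => hne0 (cm_one_iff.1 h1)
  have hv1 : ε v ≠ 1 := fun h1 => hne0 (cm_one_iff.1 (hy0v.trans h1))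
  have huK := F.UK hij hu
  -- `v i = v k`
  have hvk : v i = v k := by
    rw [← F.eU hki.symm, ← hy0v]
    exact F.cm_right hki.symm huK hy0
  have hjk : j ≠ k := hkj.symm
  -- `w = w j k` fixes `ε v`
  have hwv : cj (w j k) (ε v) = ε v := by
    have h1 := F.wA hjk v
    have h2 : v ∘ (Equiv.swap j k).symm = v := by
      funext a
      rw [Function.comp_apply, Equiv.symm_swap]
      rcases eq_or_ne a j with rfl | haj
      · rw [Equiv.swap_apply_left, ← hvk, hv]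
      rcases eq_or_ne a k with rfl | hak
      · rw [Equiv.swap_apply_right, ← hvk, hv]
      · rw [Equiv.swap_apply_of_ne_of_ne haj hak]
    rw [h2] at h1
    exact h1
  set a := cj (w j k) u with ha
  have haU : a ∈ _root_.Cfsg.Agent.Omega.NSix.Base.UU ε i k := by
    rw [F.Usym]
    exact F.w1 hjk hij hki.symm (F.Usym i j ▸ hu)
  have haK : a ∈ KK ε := F.UK hki.symm haU
  have key : ∀ y ∈ UU ε i j, cm a y = 1 ∨ cm a y = ε v := by
    intro y hy
    have hy' : cj (w j k) y ∈ UU ε i k := by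
      rw [F.Usym]
      exact F.w1 hjk hij hki.symm (F.Usym i j ▸ hy)
    have h1 : cm a y = cj (w j k) (cm u (cj (w j k) y)) := by
      rw [cj_cm, F.cj_w_w hjk (F.UK hij hy)]
    rw [h1]
    rcases hc _ hy' with h2 | h2
    · left; rw [h2, cj_one]
    · right; rw [h2, hwv]
  have hcen := s.no_tv hnc hij (KK_le_NN i j haK) (v := v) hv hv1 ?_ (fun y hy => ?_) (fun y _ => Fr.Ke haK y)
  · -- contradiction
    have h1 : cj (w j k) y0 ∈ UU ε i j := by
      rw [F.Usym]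
      exact F.w2 hjk hij hki.symm (F.Usym i k ▸ hy0)
    have h2 := hcen _ h1
    have h3 : cm a (cj (w j k) y0) = 1 := cm_one_iff.2 h2
    rw [ha, ← cj_cm, hy0v, hwv] at h3
    exact hv1 h3
  · -- `ε v ≠ r_ij`
    intro h0
    rw [F.rr_eq, h.ev.eq_iff] at h0
    rcases h0 with h0 | h0
    · have e1 : v i = 1 := by
        rw [h0, Pi.add_apply, Pi.single_eq_same, Pi.single_eq_of_ne hij, add_zero]
      have e2 : v k = 0 := by
        rw [h0, Pi.add_apply, Pi.single_eq_of_ne hki, Pi.single_eq_of_ne hkj, add_zero]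
      rw [e1, e2] at hvk
      exact one_ne_zero hvk
    · have e3 := congrFun h0 i
      have e4 := congrFun h0 k
      simp only [Pi.add_apply, Pi.one_apply, Pi.single_eq_same, Pi.single_eq_of_ne hij,
        Pi.single_eq_of_ne hki, Pi.single_eq_of_ne hkj] at e3 e4
      rw [e3, e4] at hvk
      exact absurd hvk (by decide)
  · rcases key y hy with h1 | h1
    · left
      have h2 := cm_one_iff.1 h1
      rw [h2, mul_inv_cancel_right]
    · right
      have h2 : a * y * a⁻¹ = cm a y * y := by unfold cm; group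
      rw [h2, h1]
      exact F.Uab hij _ ((F.eU hij v).2 hv) _ hy

omit [Finite G] in
theorem p2 {a b c : G} (h : c * b = b * c) : a * c * b = a * b * c := by
  rw [mul_assoc, h, mul_assoc]

omit [Finite G] in
theorem p3 {a b c : G} (h : c * b = b * c) (h2 : c * c = 1) : a * c * (b * c) = a * b := by
  rw [← mul_assoc, p2 h, mul_assoc, h2, mul_one]

/-- the last step of (4) -/
theorem kill (s : Sy S V P ε m) (hnc : Nc ε) (hij : i ≠ j) {T K : Subgroup G} (hTN : T ≤ NN ε i j)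
    (hXT : XX ε i j ≤ T) (hK2 : ∀ a ∈ T, ∀ b ∈ T, a ∉ K → b ∉ K → b⁻¹ * a ∈ K)
    {t : G} (htX : t ∈ XX ε i j) (htK : t ∉ K) {ξ : Fin n → ZMod 2} (hξ : ξ i = ξ j)
    (hTξ : ∀ a ∈ T, a * ε ξ * a⁻¹ = ε ξ) {u : G} (hu : u ∈ _root_.Cfsg.Agent.Omega.NSix.Base.UU ε i j)
    (hK : ∀ a ∈ K, a * u * a⁻¹ = u ∨ a * u * a⁻¹ = u * ε ξ) : ∃ x, u = ε x := by
  have h := s.hyp
  obtain ⟨w, F⟩ := h.exists_fr
  have hC : ThC ε (_root_.Cfsg.Agent.Omega.NSix.Base.UU ε) := h.thC
  have htT : t ∈ T := hXT htX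
  have hz : ε ξ ∈ _root_.Cfsg.Agent.Omega.NSix.Base.UU ε i j := (F.eU hij ξ).2 hξ
  have hzz : ε ξ * ε ξ = 1 := F.esq ξ
  obtain ⟨u', hu'⟩ : ∃ u', u' = t * u * t⁻¹ := ⟨_, rfl⟩
  have hu'U : u' ∈ UU ε i j := hu' ▸ UU_normal (hTN htT) hu
  obtain ⟨δ, hδ⟩ : ∃ δ, δ = u * u' := ⟨_, rfl⟩
  have hδU : δ ∈ UU ε i j := hδ ▸ mul_mem hu hu'U
  have huu : u * u = 1 := F.Usq hij u hu
  have huu' : u' * u' = 1 := F.Usq hij u' hu'U
  have hδδ : δ * δ = 1 := F.Usq hij δ hδU
  have c1 : u * u' = u' * u := F.Uab hij _ hu _ hu'U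
  have c2 : ε ξ * u = u * ε ξ := F.Uab hij _ hz _ hu
  have c3 : ε ξ * u' = u' * ε ξ := F.Uab hij _ hz _ hu'U
  have c4 : ε ξ * δ = δ * ε ξ := F.Uab hij _ hz _ hδU
  -- Claim A
  have hA : ∀ a ∈ T, a ∉ K → a * u * a⁻¹ = u' ∨ a * u * a⁻¹ = u' * ε ξ := by
    intro a ha haK
    have h1 := hK2 a ha t htT haK htK
    have h2 : a * u * a⁻¹ = t * (t⁻¹ * a * u * (t⁻¹ * a)⁻¹) * t⁻¹ := by group
    rcases hK _ h1 with h3 | h3
    · left; rw [h2, h3, hu']
    · right
      rw [h2, h3]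
      have h4 : t * (u * ε ξ) * t⁻¹ = t * u * t⁻¹ * (t * ε ξ * t⁻¹) := by group
      rw [h4, hTξ t htT, hu']
  -- Claim B
  have hB : ∀ a ∈ T, a * δ * a⁻¹ = δ ∨ a * δ * a⁻¹ = δ * ε ξ := by
    intro a ha
    have h0 : a * δ * a⁻¹ = a * u * a⁻¹ * (a * t * u * (a * t)⁻¹) := by rw [hδ, hu']; group
    by_cases haK : a ∈ K
    · have hat : a * t ∉ K := fun h1 => htK (by
        have := mul_mem (inv_mem haK) h1
        rwa [inv_mul_cancel_left] at this)
      rw [h0]
      rcases hK a haK with h1 | h1 <;> rcases hA _ (mul_mem ha htT) hat with h2 | h2 <;> rw [h1, h2]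
      · left; exact hδ.symm
      · right; rw [hδ, mul_assoc]
      · right
        rw [hδ, p2 c3]
      · left
        rw [hδ, p3 c3 hzz]
    · have hat : a * t ∈ K := by
        have h1 := hK2 t htT a⁻¹ (inv_mem ha) htK (fun h1 => haK (by simpa using inv_mem h1))
        rwa [inv_inv] at h1
      rw [h0]
      rcases hA a ha haK with h1 | h1 <;> rcases hK _ hat with h2 | h2 <;> rw [h1, h2]
      · left; rw [hδ, c1]
      · right; rw [hδ, c1, mul_assoc]
      · right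
        rw [hδ, c1, p2 c2]
      · left
        rw [hδ, c1, p3 c2 hzz]
  -- Claim C
  obtain ⟨x, hxi, hxj, hx⟩ : ∃ x : Fin n → ZMod 2, x i = 0 ∧ x j = 0 ∧ δ = ε x := by
    refine F.four_all hC hij hδU fun k hki hkj => tl s hnc hij hki hkj hδU hξ fun y hy => ?_
    have hyT : y ∈ T := hXT (mem_XX hki hkj hy)
    have h1 : cm δ y = δ * (y * δ * y⁻¹)⁻¹ := by unfold cm; group
    rcases hB y hyT with h2 | h2
    · left; rw [h1, h2, mul_inv_cancel]
    · right
      rw [h1, h2, mul_inv_rev, F.einv, ← mul_assoc, ← c4, mul_assoc, mul_inv_cancel, mul_one]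
  -- Claim D
  have hD : ∀ k, k ≠ i → k ≠ j → ∀ y ∈ _root_.Cfsg.Agent.Omega.NSix.Base.UU ε i k, cm u y = 1 ∨ cm u y = ε ξ ∨ cm u y = δ ∨ cm u y = δ * ε ξ := by
    intro k hki hkj y hy
    have hyT : y ∈ T := hXT (mem_XX hki hkj hy)
    have h1 : cm u y = u * (y * u * y⁻¹)⁻¹ := by unfold cm; group
    have hui : u⁻¹ = u := inv_eq_of_mul_eq_one_left huu
    have hui' : u'⁻¹ = u' := inv_eq_of_mul_eq_one_left huu'
    by_cases hyK : y ∈ K
    · rcases hK y hyK with h2 | h2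
      · left; rw [h1, h2, mul_inv_cancel]
      · right; left
        rw [h1, h2, mul_inv_rev, F.einv, ← mul_assoc, ← c2, mul_assoc, mul_inv_cancel, mul_one]
    · rcases hA y hyT hyK with h2 | h2
      · right; right; left
        rw [h1, h2, hui', hδ]
      · right; right; right
        rw [h1, h2, mul_inv_rev, F.einv, hui', hδ, c3, mul_assoc]
  have hξx : (ξ + x) i = (ξ + x) j := by
    rw [Pi.add_apply, Pi.add_apply, hξ, hxi, hxj]
  have hδξ : δ * ε ξ = ε (ξ + x) := by rw [hx, ← F.add, add_comm]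
  -- the closing lemma
  obtain ⟨y, -, -, hy⟩ := HTwo.Fr.lem1' F hC hij hu (D := _root_.Subgroup.closure {ε ξ, δ}) fun k hki hkj => by
    by_cases hc : Cen (_root_.Cfsg.Agent.Omega.NSix.Base.UU ε) u i k
    · exact Or.inl hc
    right
    set C := cS u (_root_.Cfsg.Agent.Omega.NSix.Base.UU ε i k) with hCdef
    have hmem : ∀ y ∈ UU ε i k, cm u y ∈ C := fun y hy => mem_cS hy
    apply le_antisymm
    · refine cS_le fun y hy => ?_
      have e1 : ε ξ ∈ _root_.Subgroup.closure ({ε ξ, δ} : Set G) := _root_.Subgroup.subset_closure (by simp)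
      have e2 : δ ∈ _root_.Subgroup.closure ({ε ξ, δ} : Set G) := _root_.Subgroup.subset_closure (by simp)
      rcases hD k hki hkj y hy with h1 | h1 | h1 | h1 <;> rw [h1]
      · exact one_mem _
      · exact e1
      · exact e2
      · exact mul_mem e2 e1
    · by_cases hξC : ε ξ ∈ C
      · by_cases hδC : δ ∈ C
        · rw [closure_le]
          rintro z (rfl | rfl)
          · exact hξC
          · exact hδC
        · exfalso
          refine hc (tl s hnc hij hki hkj hu hξ fun y hy => ?_)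
          rcases hD k hki hkj y hy with h1 | h1 | h1 | h1
          · exact Or.inl h1
          · exact Or.inr h1
          · exact absurd (h1 ▸ hmem y hy) hδC
          · exfalso
            apply hδC
            have h2 := mul_mem (h1 ▸ hmem y hy) hξC
            rwa [mul_assoc, hzz, mul_one] at h2
      · exfalso
        by_cases hδC : δ ∈ C
        · refine hc (tl s hnc hij hki hkj hu (v := x) (by rw [hxi, hxj]) fun y hy => ?_)
          rcases hD k hki hkj y hy with h1 | h1 | h1 | h1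
          · exact Or.inl h1
          · exact absurd (h1 ▸ hmem y hy) hξC
          · exact Or.inr (h1.trans hx)
          · exfalso
            apply hξC
            have h2 := mul_mem hδC (h1 ▸ hmem y hy)
            rwa [← mul_assoc, hδδ, one_mul] at h2
        · refine hc (tl s hnc hij hki hkj hu hξx fun y hy => ?_)
          rcases hD k hki hkj y hy with h1 | h1 | h1 | h1
          · exact Or.inl h1
          · exact absurd (h1 ▸ hmem y hy) hξC
          · exact absurd (h1 ▸ hmem y hy) hδC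
          · exact Or.inr (h1.trans hδξ)
  exact ⟨y, hy⟩

end tl

section four

variable {m : ℕ} {S : Sylow 2 G} {V P : Subgroup G} {ε : (Fin (2 ^ m + 1) → ZMod 2) → G}
  {i j k : Fin (2 ^ m + 1)}

/-- (3) for one minimal parabolic -/
def Key (V : Subgroup G) (ε : (Fin (2 ^ m + 1) → ZMod 2) → G) (i j : Fin (2 ^ m + 1)) : Prop :=
  ∀ D T R : Subgroup G, D ≤ V0 ε i j → rr ε i j ∈ D →
    Syl T (centralizer (D : Set G) ⊓ normalizer (V : Set G)) → IsMinPar T R →
    R ≤ centralizer (D : Set G) → ¬ R ≤ normalizer (Q0 ε i j : Set G) →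
    (∀ g ∈ R, ∀ g' ∈ R, ∀ v ∈ V, ∀ w ∈ V,
      g * v * g⁻¹ * (g' * w * g'⁻¹) = g' * w * g'⁻¹ * (g * v * g⁻¹)) →
    (∀ t ∈ T, ∀ s ∈ T, t ∉ o2 R → s ∉ o2 R → t⁻¹ * s ∈ o2 R) ∧ ¬ XX ε i j ≤ o2 R ∧
      ∀ v ∈ V, (∀ t ∈ T, t * v = v * t) → ∀ r ∈ R, r * v = v * r

theorem sy_of (h : In S V P ε i j) (hm : 3 ≤ m) : Sy S V P ε m := ⟨h.hyp, h.SP, hm, rfl⟩

/-- `D` moves `λ` implies `D ≤ r_ij^⊥` -/
theorem le_V0 (h : In S V P ε i j) {D : Subgroup G} (hD : D ≤ V) (hr : rr ε i j ∈ D)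
    (hmv : ¬ centralizer (D : Set G) ≤ normalizer (Q0 ε i j : Set G)) : D ≤ V0 ε i j := by
  intro d hd
  obtain ⟨x, rfl⟩ := h.hyp.ev.surj d (hD hd)
  refine mem_V0 h.hyp.ev ?_
  by_contra hne
  rw [← Five.mv_iff (centralizer_le_NN h hr)] at hmv
  obtain ⟨g, hg, q, hq, hqK, hgq⟩ := hmv
  have hgN : g ∈ NN ε i j := centralizer_le_NN h hr hg
  have h1 : g * q * g⁻¹ ∈ o2 (NN ε i j) := (mem_normalizer_iff.1 (le_normalizer_o2 _ hgN) _).1 hq
  have h2 : Acts ε (g * q * g⁻¹) (Equiv.swap i j) := (h.hyp.QA h.ij h1).resolve_left hgq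
  have h3 : g * ε x = ε x * g := (mem_centralizer_iff.1 hg _ hd).symm
  have h4 : q * ε x = ε x * q := Fr.Ke hqK x
  have h5 : g * q * g⁻¹ * ε x * (g * q * g⁻¹)⁻¹ = ε x := by
    have e1 : g⁻¹ * ε x = ε x * g⁻¹ := by
      rw [inv_mul_eq_iff_eq_mul, ← mul_assoc, h3, mul_assoc, mul_inv_cancel, mul_one]
    calc g * q * g⁻¹ * ε x * (g * q * g⁻¹)⁻¹ = g * q * (g⁻¹ * ε x) * g * q⁻¹ * g⁻¹ := by group
      _ = g * (q * ε x) * q⁻¹ * g⁻¹ := by rw [e1]; group
      _ = g * ε x * g⁻¹ := by rw [h4]; group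
      _ = ε x := by rw [h3]; group
  rw [h2 x, h.hyp.ev.eq_iff] at h5
  rcases h5 with h5 | h5
  · have h6 := congrFun h5 i
    rw [Function.comp_apply, Equiv.symm_swap, Equiv.swap_apply_left] at h6
    exact hne h6.symm
  · obtain ⟨a, ha1, ha2, -, -⟩ := exists_fifth h.hyp.n5 i j i j
    have h6 := congrFun h5 a
    rw [Function.comp_apply, Equiv.symm_swap, Equiv.swap_apply_of_ne_of_ne ha1 ha2, Pi.add_apply,
      Pi.one_apply] at h6
    exact one_ne_zero (left_eq_add.1 h6)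

/-- **#18920 (4)**: `C_G(r_ij, z_k)` fixes `λ`. -/
theorem four (h : In S V P ε i j) (hm : 3 ≤ m) (hnc : Nc ε) (key : Key V ε i j)
    (hz : ∀ g ∈ centralizer ({zz ε k} : Set G), ∀ g' ∈ centralizer ({zz ε k} : Set G), ∀ v ∈ V, ∀ w ∈ V,
      g * v * g⁻¹ * (g' * w * g'⁻¹) = g' * w * g'⁻¹ * (g * v * g⁻¹)) :
    NN ε i j ⊓ centralizer ({zz ε k} : Set G) ≤ normalizer (Q0 ε i j : Set G) := by
  classical
  by_contra hmv
  have s := sy_of h hm
  obtain ⟨w, F⟩ := h.hyp.exists_fr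
  have hTT : Fact (Nat.Prime 2) := ⟨Nat.prime_two⟩
  -- a maximal `D`
  let 𝒟 : Set (Subgroup G) := {D | rr ε i j ∈ D ∧ zz ε k ∈ D ∧ D ≤ V ∧
    ¬ centralizer (D : Set G) ≤ normalizer (Q0 ε i j : Set G)}
  have hne : 𝒟.Nonempty := by
    refine ⟨_root_.Subgroup.closure {rr ε i j, zz ε k}, _root_.Subgroup.subset_closure (by simp), _root_.Subgroup.subset_closure (by simp), ?_, ?_⟩
    · rw [closure_le]
      rintro x (rfl | rfl)
      · exact rr_mem h.hyp.ev i j
      · exact zz_mem h.hyp.ev k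
    · intro h1
      refine hmv fun g hg => h1 ?_
      rw [centralizer_closure, mem_centralizer_iff]
      rintro x (rfl | rfl)
      · exact (mem_NN.1 hg.1).symm
      · exact (mem_centralizer_singleton_iff.1 hg.2).symm
  obtain ⟨D, hDmax⟩ := (Set.toFinite 𝒟).exists_maximal hne
  obtain ⟨hr, hzk, hDV, hDmv⟩ := hDmax.prop
  have hmax : ∀ D' : Subgroup G, D ≤ D' → D' ≤ V →
      ¬ centralizer (D' : Set G) ≤ normalizer (Q0 ε i j : Set G) → D' ≤ D := fun D' h1 h2 h3 =>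
    hDmax.le_of_ge ⟨h1 hr, h1 hzk, h2, h3⟩ h1
  have hDN : centralizer (D : Set G) ≤ NN ε i j := centralizer_le_NN h hr
  -- the Sylow group
  obtain ⟨T, hT, -⟩ := ZN.ChoiceSit.exists_syl (X := centralizer (D : Set G) ⊓ normalizer (V : Set G))
    (IsPGroup.of_bot (p := 2)) bot_le
  have hTC : T ≤ centralizer (D : Set G) := hT.1.trans inf_le_left
  have hTL : T ≤ normalizer (V : Set G) := hT.1.trans inf_le_right
  have hTN : T ≤ NN ε i j := hTC.trans hDN
  have hXT : XX ε i j ≤ T := XX_le_syl h hDV hT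
  have hTs : Syl T (centralizer (D : Set G)) := syl_D h hDV hr hT
  -- a minimal parabolic which moves `λ`
  obtain ⟨R, hR, hRD, hRmv⟩ : ∃ R : Subgroup G, IsMinPar T R ∧ R ≤ centralizer (D : Set G) ∧
      ¬ R ≤ normalizer (Q0 ε i j : Set G) := by
    by_contra hcon
    push Not at hcon
    exact hDmv (MinSimple.MinParabolic.le_of_forall hTC
      (fun g hg => L_fix h (hDN hg.1) (norm_syl h hDV hr hT hg)) hcon)
  have hRz : R ≤ centralizer ({zz ε k} : Set G) := fun g hg =>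
    mem_centralizer_singleton_iff.2 (mem_centralizer_iff.1 (hRD hg) _ hzk).symm
  obtain ⟨hK2, hXK, hcen⟩ := key D T R (le_V0 h hDV hr hDmv) hr hT hR hRD hRmv
    fun g hg g' hg' => hz g (hRz hg) g' (hRz hg')
  have hKT : o2 R ≤ T := MinSimple.VModule.o2_le_of_sylow hT.2.1 fun h1 =>
    ZN.ChoiceSit.syl_not_dvd hTs (by
      rw [← relIndex_mul_relIndex _ R _ hR.le hRD]
      exact h1.mul_right _)
  -- `D = C_V(T)`
  have hDT : V ⊓ centralizer (T : Set G) ≤ D := by
    refine hmax _ (le_inf hDV fun d hd => mem_centralizer_iff.2 fun t ht =>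
      (mem_centralizer_iff.1 (hTC ht) d hd).symm) inf_le_left fun h1 => hRmv ?_
    refine le_trans (fun r hr' => mem_centralizer_iff.2 fun v hv => ?_) h1
    exact (hcen v hv.1 (fun t ht => mem_centralizer_iff.1 hv.2 t ht) r hr').symm
  -- the action of `T` on the labels
  let f : T →* Equiv.Perm (Fin (2 ^ m + 1)) := (h.evL.hom h.hyp.n3).comp (Subgroup.inclusion hTL)
  have hf : ∀ y : T, Acts ε (y : G) (f y) := fun y => h.evL.acts_hom h.hyp.n3 (Subgroup.inclusion hTL y)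
  have hfij : ∀ (y : T) {k : Fin (2 ^ m + 1)}, k ≠ i → k ≠ j → f y k ≠ i ∧ f y k ≠ j := fun y k hki hkj =>
    pair_of h.hyp.ev h.hyp.n5 h.ij (hf y) (hTN y.2) hki hkj
  -- a label moved by `T`
  obtain ⟨a, hai, haj, y0, hy0⟩ : ∃ a, a ≠ i ∧ a ≠ j ∧ ∃ y0 : T, f y0 a ≠ a := by
    by_contra hcon
    push Not at hcon
    apply hDmv
    have h1 : V0 ε i j ≤ D := by
      refine le_trans (le_inf (V0_le h.hyp) ?_) hDT
      unfold V0
      rw [closure_le]
      rintro x ⟨a, hai, haj, rfl⟩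
      refine mem_centralizer_iff.2 fun t ht => ?_
      have h2 := zz_conj (hf ⟨t, ht⟩) a
      rw [hcon a hai haj] at h2
      exact mul_inv_eq_iff_eq_mul.1 h2
    intro g hg
    obtain ⟨σ, hσ⟩ : g ∈ LL ε := s.CV_le hnc h.ij (fun x => by
      have h2 : ε (TLg.ext i j x) ∈ D := h1 (mem_V0 h.hyp.ev (by rw [TLg.ext_i, TLg.ext_j]))
      exact (mem_centralizer_iff.1 hg _ h2).symm)
    exact fix_of_acts hσ (hDN hg)
  obtain ⟨ν, ν', e1, e2, e3, e4, y1, e5⟩ := exists_half hT.2.1 f hy0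
  obtain ⟨i1, i2⟩ := e3 i fun y => (hfij y hai haj).1
  obtain ⟨j1, j2⟩ := e3 j fun y => (hfij y hai haj).2
  have hνν : ν ≠ ν' := fun h1 => one_ne_zero (e1.symm.trans ((congrFun h1 a).trans e2))
  -- `ξ = ν + ν'` is invariant
  have hinv : ∀ y : T, (ν + ν') ∘ (f y).symm = ν + ν' := by
    intro y
    have hinj : ∀ g g' : Fin (2 ^ m + 1) → ZMod 2, g ∘ (f y).symm = g' ∘ (f y).symm → g = g' := by
      intro g g' hgg
      funext b
      have := congrFun hgg (f y b)
      simpa using this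
    have h1 : ν' ∘ (f y).symm = ν ∨ ν' ∘ (f y).symm = ν' := by
      have h2 := e4 (y * y1)
      have h3 : ν ∘ (f (y * y1)).symm = ν' ∘ (f y).symm := by
        rw [← e5, map_mul]
        rfl
      rwa [h3] at h2
    have h0 : (ν + ν') ∘ (f y).symm = ν ∘ (f y).symm + ν' ∘ (f y).symm := rfl
    rw [h0]
    rcases e4 y with h2 | h2 <;> rcases h1 with h3 | h3
    · exact absurd (hinj _ _ (h2.trans h3.symm)) hνν
    · rw [h2, h3]
    · rw [h2, h3]
      exact add_comm ν' ν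
    · exact absurd (hinj _ _ (h2.trans h3.symm)) hνν
  have hTξ : ∀ t ∈ T, t * ε (ν + ν') * t⁻¹ = ε (ν + ν') := by
    intro t ht
    rw [hf ⟨t, ht⟩, hinv]
  have hξD : ε (ν + ν') ∈ D := hDT (mem_inf.2 ⟨h.hyp.ev.mem _, mem_centralizer_iff.2 fun t ht =>
    mul_inv_eq_iff_eq_mul.1 (hTξ t ht)⟩)
  -- `x ∈ R` moves `λ`
  obtain ⟨x, hxR, hxmv⟩ := Set.not_subset.1 hRmv
  replace hxR : x ∈ R := hxR
  have hxN : x ∈ NN ε i j := hDN (hRD hxR)
  have hxD : ∀ d ∈ D, x * d * x⁻¹ = d := fun d hd => by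
    rw [← mem_centralizer_iff.1 (hRD hxR) d hd, mul_inv_cancel_right]
  -- `V ∩ V^x = D`
  have hVV : V ⊓ V.map (MulAut.conj x).toMonoidHom ≤ D := by
    obtain ⟨c, hc, hcx⟩ := fusion h hxN
    refine hmax _ (le_inf hDV fun d hd => ⟨d, hDV hd, hxD d hd⟩) inf_le_left fun h1 => hxmv ?_
    have hcN : c ∈ NN ε i j := mem_NN.2 (mem_centralizer_iff.1 hc _
      ⟨rr_mem h.hyp.ev i j, rr ε i j, rr_mem h.hyp.ev i j, mem_NN'.1 hxN⟩).symm
    have h2 := mul_mem (h1 hc) (L_fix h (mul_mem (inv_mem hcN) hxN) hcx)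
    rwa [mul_inv_cancel_left] at h2
  -- the end
  have hνU : ε ν ∈ _root_.Cfsg.Agent.Omega.NSix.Base.UU ε i j := (h.hyp.eU h.ij ν).2 (by rw [i1, j1])
  obtain ⟨t, htX, htK⟩ := Set.not_subset.1 hXK
  obtain ⟨x', hx'⟩ := kill s hnc h.ij (T := T) (K := o2 R) hTN hXT
    (fun a ha b hb haK hbK => hK2 b hb a ha hbK haK) htX htK (ξ := ν + ν')
    (by rw [Pi.add_apply, Pi.add_apply, i1, i2, j1, j2]) hTξ (u := x * ε ν * x⁻¹) (UU_normal hxN hνU) (by
      intro b hb
      have hb' : x⁻¹ * b * x ∈ o2 R := by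
        have := (mem_normalizer_iff.1 (inv_mem (le_normalizer_o2 R hxR)) b).1 hb
        rwa [inv_inv] at this
      have h1 : b * (x * ε ν * x⁻¹) * b⁻¹ = x * (x⁻¹ * b * x * ε ν * (x⁻¹ * b * x)⁻¹) * x⁻¹ := by group
      have h2 := hf ⟨_, hKT hb'⟩ ν
      rw [h1]
      change x⁻¹ * b * x * ε ν * (x⁻¹ * b * x)⁻¹ = _ at h2
      rw [h2]
      rcases e4 ⟨_, hKT hb'⟩ with h3 | h3
      · left; rw [h3]
      · right
        rw [h3]
        have h4 : ν' = ν + (ν + ν') := by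
          funext b
          rw [Pi.add_apply, Pi.add_apply, ← add_assoc, CharTwo.add_self_eq_zero, zero_add]
        have h5 : ε ν' = ε ν * ε (ν + ν') := by rw [← h.hyp.ev.add, ← h4]
        rw [h5]
        calc x * (ε ν * ε (ν + ν')) * x⁻¹ = x * ε ν * x⁻¹ * (x * ε (ν + ν') * x⁻¹) := by group
          _ = _ := by rw [hxD _ hξD])
  have hu : x * ε ν * x⁻¹ ∈ D := hVV ⟨hx' ▸ h.hyp.ev.mem x', ε ν, h.hyp.ev.mem ν, rfl⟩
  have h1 : ε ν ∈ D := by
    have h2 := hxD _ hu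
    rwa [mul_left_cancel (mul_right_cancel h2)] at hu
  have h2 := hf y1 ν
  rw [e5, (mem_centralizer_iff.1 (hTC y1.2) _ h1).symm, mul_inv_cancel_right, h.hyp.ev.eq_iff] at h2
  rcases h2 with h2 | h2
  · exact hνν h2
  · have h3 := congrFun h2 i
    rw [Pi.add_apply, i1, i2, Pi.one_apply, zero_add] at h3
    exact zero_ne_one h3

end four

end Cfsg.Agent.Omega.NSix.HT.Four

end

-- merged: Cfsg.Agent.Mrg.Omega.NSix.HTwo.Main
section

section


/-!
# OMEGA N6: (H2) (`S5.SymBig.SymH2`), the top of #18323 (helper480)  (helper840)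

`Pos S P ε` : `P ∈ P*(G,S)`, `V = zl S P` the even subsets of `2^m + 1 ≥ 9` points, `Engine.Hyp V P ε`, and no two
`U_ij`, `U_kl` of disjoint pairs commute.

* `Pos.of` : a counterexample to (H2) in the position of `S5.SymBig.Pr` is a `Pos`;
* `Pos.false` : `Pos`, `⟨P, C_G(Z)⟩` 2-local (THEOREM SN), `T₁ = C_S(r_ij)` Sylow in `C_G(r_ij)` with its normaliser in
  `N_G(V)`, every minimal parabolic over `T₁` in `N_G(V)` or in `C_G(z_0)`: contradiction;
* `Steps K` : these facts on `C_G(r_ij)`; `symH2_of : Steps K → SN.Two K → SymH2 K`;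
  `symBig : Steps K → SN.Two K → S5.Main.SymBig K`.
-/

set_option autoImplicit false

namespace Cfsg.Agent.Omega.NSix.HTwo.Main

open Subgroup Cfsg Cfsg.Agent.Omega.MinPar
open Cfsg.Agent.ZN (o2 zc zl)
open Cfsg.Agent.Omega.Frame (Ctx Cls)
open Cfsg.Agent.Omega.FrameNOFF (CZ)
open Cfsg.Agent.Omega.S5.Def Cfsg.Agent.Omega.S5.Syl
open Cfsg.Agent.Omega.NSix.Base Cfsg.Agent.Omega.NSix.Basic
open Cfsg.Agent.Omega.NSix.Zero (WP)
open Cfsg.Agent.Omega.NSix.Engine (Hyp D4)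
open Cfsg.Agent.Omega.S5.SymBig (H2 Pr SymH2)
open Cfsg.Agent.MinSimple.MinParabolic (IsMinPar)

universe u

section

variable {G : Type u} [Group G] [Finite G]

/-- The situation of #18323. -/
structure Pos (S : Sylow 2 G) (P : Subgroup G) {m : ℕ} (ε : (Fin (2 ^ m + 1) → ZMod 2) → G) : Prop where
  c2 : IsCharacteristicTwoType G
  m3 : 3 ≤ m
  par : IsParS (S : Subgroup G) P
  hyp : Hyp (zl (S : Subgroup G) P) P ε
  fix0 : Fix0 ε (S : Subgroup G)
  nc : ∀ i j k l : Fin (2 ^ m + 1), D4 i j k l → ¬ ∀ u ∈ UU ε i j, ∀ y ∈ UU ε k l, u * y = y * u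

/-- The hypotheses `Engine.Hyp` from a pair. -/
theorem hyp_of {S S' : Sylow 2 G} {V V' P P' : Subgroup G} {m m' : ℕ}
    {ε : (Fin (2 ^ m + 1) → ZMod 2) → G} {ε' : (Fin (2 ^ m' + 1) → ZMod 2) → G} (h : Pr S S' V V' P P' ε ε')
    (hm : 3 ≤ m) : Hyp V P ε := by
  have hs := h.sit hm
  have h5 : 5 ≤ 2 ^ m + 1 := five_le (by omega)
  have hodd : Odd (2 ^ m + 1) := Even.add_one (Nat.even_pow.mpr ⟨even_two, by omega⟩)
  refine Hyp.of h.c2 h5 hodd h.two.even S h.two.le h.zS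
    (fun i j k hij hki hkj q hq => hs.pair hij hki hkj hq) (fun i j hij => hs.o2_le_P hij) ?_
  obtain ⟨i, j, hij, b, hm', hb, hbv⟩ := h.nform'
  exact ⟨i, j, hij, b, hm', hb, hbv⟩

/-- A counterexample to (H2) is a `Pos`. -/
theorem Pos.of {S S' : Sylow 2 G} {V' P P' : Subgroup G} {m m' : ℕ}
    {ε : (Fin (2 ^ m + 1) → ZMod 2) → G} {ε' : (Fin (2 ^ m' + 1) → ZMod 2) → G}
    (h : Pr S S' (zl (S : Subgroup G) P) V' P P' ε ε') (hm : 3 ≤ m) (hP : IsParS (S : Subgroup G) P)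
    (hno : ¬ H2 ε) : Pos S P ε where
  c2 := h.c2
  m3 := hm
  par := hP
  hyp := hyp_of h hm
  fix0 := h.two.fix
  nc := fun i j k l hD hc => hno fun a b c d hab hcd hac had hbc hbd =>
    (hyp_of h hm).hq_of_comm (fun {_ _ _ _} hD' => (hyp_of h hm).comm_transfer hD hD' hc)
      ⟨hab, hac, had, hbc, hbd, hcd⟩

variable {S : Sylow 2 G} {P : Subgroup G} {m : ℕ} {ε : (Fin (2 ^ m + 1) → ZMod 2) → G}

/-- **#18323 (8)**. -/
theorem Pos.false (h : Pos S P ε) (hloc : ¬ NonLoc P (CZ (S : Subgroup G))) {i j : Fin (2 ^ m + 1)} (hij : i ≠ j)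
    (hT : ¬ 2 ∣ ((S : Subgroup G) ⊓ NN ε i j).relIndex (NN ε i j))
    (hNT : NN ε i j ⊓ normalizer (((S : Subgroup G) ⊓ NN ε i j : Subgroup G) : Set G) ≤
      normalizer (zl (S : Subgroup G) P : Set G))
    (hR : ∀ R : Subgroup G, IsMinPar ((S : Subgroup G) ⊓ NN ε i j) R → R ≤ NN ε i j →
      R ≤ normalizer (zl (S : Subgroup G) P : Set G) ∨ R ≤ centralizer ({zz ε 0} : Set G)) : False := by
  have h2 : 2 ≤ m := by have := h.m3; omega
  obtain ⟨e1, e2⟩ := End.le_sup h.c2 h2 h.par h.hyp.ev h.fix0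
  obtain ⟨k, l, hkl, g, hg, -, hgV⟩ := h.hyp.mov
  have h3 := (End.nn_le_normalizer h.c2 h2 h.par h.hyp.ev h.fix0 hloc hij hT (hNT.trans e1)
    (fun R hR1 hR2 => (hR R hR1 hR2).elim (fun h4 => h4.trans e1) fun h4 => h4.trans e2)
    ⟨k, l, hkl, g, hg, hgV⟩).2
  obtain ⟨a, b, c, d, hD⟩ : ∃ a b c d : Fin (2 ^ m + 1), D4 a b c d := by
    have h5 : 5 ≤ 2 ^ m + 1 := five_le h2
    refine ⟨⟨0, by omega⟩, ⟨1, by omega⟩, ⟨2, by omega⟩, ⟨3, by omega⟩, ?_, ?_, ?_, ?_, ?_, ?_⟩ <;>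
      · intro e
        have := congrArg Fin.val e
        simp at this
  refine h.nc a b c d hD fun u hu y hy => ?_
  have hU : ∀ {a b : Fin (2 ^ m + 1)}, a ≠ b → UU ε a b ≤ zl (S : Subgroup G) P := by
    intro a b hab
    unfold UU
    rw [closure_le]
    rintro x ⟨g, hg, k, -, -, rfl⟩
    exact (mem_normalizer_iff.1 (h3 a b hab hg) _).1 (h.hyp.ev.mem _)
  exact h.hyp.ev.comm_mem (hU hD.ij hu) (hU hD.kl hy)

end

/-- **(1), (2), (4) - (7) of #18323.** -/
def Steps (K : Cls.{u}) : Prop :=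
  ∀ (G : Type u) [Group G] [Finite G], Ctx G → K G → ∀ (S : Sylow 2 G) (P : Subgroup G) (m : ℕ)
    (ε : (Fin (2 ^ m + 1) → ZMod 2) → G), Pos S P ε → ∀ i j : Fin (2 ^ m + 1), i ≠ j →
      (∃ a ∈ (S : Subgroup G), Acts ε a (Equiv.swap i j)) →
        ¬ 2 ∣ ((S : Subgroup G) ⊓ NN ε i j).relIndex (NN ε i j) ∧
        NN ε i j ⊓ normalizer (((S : Subgroup G) ⊓ NN ε i j : Subgroup G) : Set G) ≤
          normalizer (zl (S : Subgroup G) P : Set G) ∧
        ∀ R : Subgroup G, IsMinPar ((S : Subgroup G) ⊓ NN ε i j) R → R ≤ NN ε i j →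
          R ≤ normalizer (zl (S : Subgroup G) P : Set G) ∨ R ≤ centralizer ({zz ε 0} : Set G)

/-- **(H2)** of N6. -/
theorem symH2_of {K : Cls.{u}} (hS : Steps K) (h2 : NO3S.SN.Two K) : SymH2 K := by
  intro G _ _ hG hK S _ _ _ _ _ P₁ P₂ y m m' ε ε₂ hm hm' hl _
  by_contra hno
  have hpr := S5.SymBig.pr_of hG.char2 (by omega) hm' hl
  have h := Pos.of hpr hm hl.pair.star₁ hno
  obtain ⟨i, j, hij, hsw⟩ := PairCen.exists_swap_mem (by omega) h.hyp.ev
    (MinSimple.Basic.not_dvd_relIndex S hl.pair.star₁.le)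
  obtain ⟨e1, e2, e3⟩ := hS G hG hK S P₁ m ε h i j hij hsw
  exact h.false (NO3S.SN.theoremSN_even h2 hK hG S hl.pair.star₁ hm hl.even hl.fix0) hij e1 e2 e3

/-- **The leaf II.c.** -/
theorem symBig {K : Cls.{u}} (hS : Steps K) (h2 : NO3S.SN.Two K) : S5.Main.SymBig K :=
  S5.SymBig.symBig_of (symH2_of hS h2)

end Cfsg.Agent.Omega.NSix.HTwo.Main

end

section


/-!
# OMEGA N6, (H2) by #18920 (helper605): (6), the end  (helper821)

`false_of_fixL` : in the position `Pos` (two disjoint `U_ij`, `U_kl` do not commute), `S` inducing `(i j)`,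
`N_N(V_ij) ≤ N_G(V)` (`LemTwo.In`): `N = C_G(r_ij)` does not fix `λ : O₂(N) → F₂`.
-/

set_option autoImplicit false
set_option linter.unusedSectionVars false

namespace Cfsg.Agent.Omega.NSix.HT.Fix

open Subgroup Cfsg
open Cfsg.Agent.ZN (o2 zc zl)
open Cfsg.Agent.MinSimple.VModule (o2_le o2_isPGroup le_normalizer_o2 le_o2)
open Cfsg.Agent.Omega.S5.Def Cfsg.Agent.Omega.S5.Syl
open Cfsg.Agent.Omega.NSix.Base Cfsg.Agent.Omega.NSix.Basic Cfsg.Agent.Omega.NSix.Engine
open Cfsg.Agent.Omega.NSix.HTwo.LemTwo (XX In)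
open Cfsg.Agent.Omega.NSix.HTwo.Main (Pos)
open Cfsg.Agent.Omega.TTn
open Cfsg.Agent.MinSimple.MinParabolic (IsMinPar)

universe u

variable {G : Type u} [Group G] [Finite G] {m : ℕ}

/-- `O₂(C_G(z_i))` centralises `V` -/
theorem o2_le_cent (S : Sylow 2 G) {V P : Subgroup G} {ε : (Fin (2 ^ m + 1) → ZMod 2) → G} (hm : 3 ≤ m)
    (h : EvenSet (2 ^ m + 1) V P ε) (hSP : (S : Subgroup G) ≤ P) (h0 : Fix0 ε (S : Subgroup G))
    (i : Fin (2 ^ m + 1)) : o2 (centralizer ({zz ε i} : Set G)) ≤ centralizer (V : Set G) := by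
  intro x hx
  obtain ⟨p, hp, hps⟩ := h.full (Equiv.swap 0 i)
  have h1 := PtCen.conj_o2_cent (g := p) hx
  rw [zz_conj hps, Equiv.swap_apply_right] at h1
  have h2 := PtCen.o2_le_cent S hm h hSP h0 h1
  rw [mem_centralizer_iff] at h2 ⊢
  intro v hv
  obtain ⟨y, rfl⟩ := h.surj v hv
  have h3 := h2 (p * ε y * p⁻¹) (by rw [hps y]; exact h.mem _)
  have h4 : p * (ε y * x) * p⁻¹ = p * (x * ε y) * p⁻¹ := by
    calc p * (ε y * x) * p⁻¹ = p * ε y * p⁻¹ * (p * x * p⁻¹) := by group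
      _ = p * x * p⁻¹ * (p * ε y * p⁻¹) := h3
      _ = _ := by group
  exact mul_left_cancel (mul_right_cancel h4)

/-- the elements of `C_G(z_i)` normalise `Z(O₂(C_G(z_i)))` -/
theorem conj_center {z g a : G} (hg : g * z = z * g)
    (ha : a ∈ o2 (centralizer ({z} : Set G)) ⊓ centralizer (o2 (centralizer ({z} : Set G)) : Set G)) :
    g * a * g⁻¹ ∈ o2 (centralizer ({z} : Set G)) ⊓ centralizer (o2 (centralizer ({z} : Set G)) : Set G) := by
  have hgC : g ∈ centralizer ({z} : Set G) := mem_centralizer_singleton_iff.2 hg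
  have hn := le_normalizer_o2 _ hgC
  refine ⟨(mem_normalizer_iff.1 hn a).1 ha.1, mem_centralizer_iff.2 fun y hy => ?_⟩
  have h1 : g⁻¹ * y * g ∈ o2 (centralizer ({z} : Set G)) := by
    have := (mem_normalizer_iff.1 (inv_mem hn) y).1 hy
    rwa [inv_inv] at this
  have h2 := mem_centralizer_iff.1 ha.2 _ h1
  calc y * (g * a * g⁻¹) = g * (g⁻¹ * y * g * a) * g⁻¹ := by group
    _ = g * (a * (g⁻¹ * y * g)) * g⁻¹ := by rw [h2]
    _ = _ := by group

variable {S : Sylow 2 G} {P : Subgroup G} {ε : (Fin (2 ^ m + 1) → ZMod 2) → G} {i j : Fin (2 ^ m + 1)}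

/-- the elements of `N ∩ N_G(V)` fix `{z_i, z_j}` -/
theorem zz_of_mem {V : Subgroup G} (hI : In S V P ε i j) {g : G} (hg : g ∈ NN ε i j)
    (hgL : g ∈ normalizer (V : Set G)) : g * zz ε i * g⁻¹ = zz ε i ∨ g * zz ε i * g⁻¹ = zz ε j := by
  obtain ⟨σ, hσ⟩ := hI.evL.perm g hgL
  rw [zz_conj hσ]
  rcases hI.cosetHyp.pair_of_acts hσ (mem_NN.1 hg) with ⟨h1, -⟩ | ⟨h1, -⟩
  · left; rw [h1]
  · right; rw [h1]

/-- `N` fixes the coset `z_i U` if it fixes `λ` -/
theorem coset {V : Subgroup G} (hI : In S V P ε i j) (hfix : FixL ε i j) :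
    NN ε i j ≤ CU ε i j {zz ε i} := by
  have hij := hI.ij
  have hL : ∀ g ∈ NN ε i j, g ∈ normalizer (V : Set G) → g ∈ CU ε i j ({zz ε i} : Set G) := by
    intro g hg hgL
    refine ⟨hg, fun x hx => ?_⟩
    rw [Set.mem_singleton_iff] at hx
    subst hx
    rcases zz_of_mem hI hg hgL with h1 | h1
    · rw [h1, mul_inv_cancel]; exact one_mem _
    · rw [h1]
      have h2 : (zz ε i)⁻¹ = zz ε i := inv_eq_of_mul_eq_one_left (zz_sq hI.hyp.ev i)
      rw [h2]
      obtain ⟨w, F⟩ := hI.hyp.exists_fr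
      have h3 := F.rU hij.symm
      rwa [F.Usym] at h3
  have hK : CU ε i j (WW V ε i j : Set G) ≤ CU ε i j ({zz ε i} : Set G) :=
    CU_mono (Set.singleton_subset_iff.2 (V_le_WW (zz_mem hI.hyp.ev i)))
  refine MinSimple.MinParabolic.le_of_forall (S := (S : Subgroup G) ⊓ NN ε i j) inf_le_right
    (fun g hg => hL g hg.1 (hI.norm_T_le hg)) fun R hR hRN => ?_
  by_cases hRL : R ≤ normalizer (V : Set G)
  · exact fun g hg => hL g (hRN hg) (hRL hg)
  have hXo := hI.not_le_o2 hR.le hRN hRL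
  have hT : ¬ 2 ∣ ((S : Subgroup G) ⊓ NN ε i j).relIndex R := fun h1 => hI.not_dvd (by
    rw [← relIndex_mul_relIndex _ R (NN ε i j) hR.le hRN]
    exact h1.mul_right _)
  have hf : Fact (Nat.Prime 2) := ⟨Nat.prime_two⟩
  rcases hR.sup_eq_or_inf_le (N := CU ε i j (WW V ε i j : Set G) ⊓ R) hI.T_two hT inf_le_right (fun g hg =>
    DiCoreAbs.mem_norm_of fun x hx => mem_inf.2 ⟨CU_WW_conj (hRN hg) hx.1, mul_mem (mul_mem hg hx.2) (inv_mem hg)⟩) with
    h1 | h1
  · rw [← h1]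
    exact sup_le (inf_le_left.trans hK) fun g hg => hL g hg.2 (hI.SL hg.1)
  · exfalso
    refine hXo (le_trans (le_inf hI.XX_le_T (le_inf (XX_le_CU hI.hyp hij hfix) (hI.XX_le_T.trans hR.le))) h1)

/-- **(6) of #18920**: `N` moves `λ`. -/
theorem false_of_fixL (h : Pos S P ε) (hI : In S (zl (S : Subgroup G) P) P ε i j) (hfix : FixL ε i j) :
    False := by
  have hij := hI.ij
  have hU : _root_.Cfsg.Agent.Omega.NSix.Base.UU ε i j ≤ zl (S : Subgroup G) P := by
    refine UU_le_V h.hyp hij (T := (S : Subgroup G) ⊓ NN ε i j)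
      (A := o2 (centralizer ({zz ε i} : Set G)) ⊓ centralizer (o2 (centralizer ({zz ε i} : Set G)) : Set G))
      inf_le_right ?_ ?_ ?_ ?_ ?_ ?_
    · rw [← Nat.not_even_iff_odd, even_iff_two_dvd]
      exact hI.not_dvd
    · exact fun t ht => zz_of_mem hI ht.2 (hI.SL ht.1)
    · exact fun g hg => (coset hI hfix hg).2 _ rfl
    · refine le_inf (PtCen.le_o2_cent h.c2 S h.m3 h.hyp.ev h.par.le h.fix0 i) fun v hv => ?_
      refine mem_centralizer_iff.2 fun x hx => ?_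
      exact (mem_centralizer_iff.1 (o2_le_cent S h.m3 h.hyp.ev h.par.le h.fix0 i hx) v hv).symm
    · exact fun g hg a ha => conj_center hg ha
    · exact fun a ha b hb => mem_centralizer_iff.1 hb.2 a ha.1
  obtain ⟨a, b, c, d, hD⟩ : ∃ a b c d : Fin (2 ^ m + 1), D4 a b c d := by
    have h5 : 5 ≤ 2 ^ m + 1 := five_le hI.hm
    refine ⟨⟨0, by omega⟩, ⟨1, by omega⟩, ⟨2, by omega⟩, ⟨3, by omega⟩, ?_, ?_, ?_, ?_, ?_, ?_⟩ <;>
      · intro e
        have := congrArg Fin.val e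
        simp at this
  exact h.nc a b c d hD fun u hu y hy =>
    h.hyp.ev.comm_mem (UU_le_V_all h.hyp hij hU hD.ij hu) (UU_le_V_all h.hyp hij hU hD.kl hy)

/-- `N` moves `λ`: some `g ∈ N` does not normalise `O₂(N) ∩ C_G(V)` -/
theorem exists_mover (h : Pos S P ε) (hI : In S (zl (S : Subgroup G) P) P ε i j) :
    ∃ g ∈ NN ε i j, ∃ q ∈ o2 (NN ε i j), q ∈ KK ε ∧ ¬ g * q * g⁻¹ ∈ KK ε := by
  by_contra hc
  push Not at hc
  exact false_of_fixL h hI fun g hg q hq hqK => hc g hg q hq hqK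

/-- the same with 537's `Q0` -/
theorem not_le_normalizer (h : Pos S P ε) (hI : In S (zl (S : Subgroup G) P) P ε i j) :
    ¬ NN ε i j ≤ normalizer (Five.Q0 ε i j : Set G) :=
  (Five.mv_iff le_rfl).1 (exists_mover h hI)

end Cfsg.Agent.Omega.NSix.HT.Fix

end

end

-- merged: Cfsg.Agent.Mrg.Omega.NSix.NoBlk.Sym
section

section


/-!
# THEOREM BL* (OMEGA #18620, helper107), part 5: the symmetric group

`noBlock` : `P` induces the symmetric group of degree `2^(m+1) + 1` on the even-subset module `E`; there is no block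
`(L, V)` over `B = bau S` satisfying `Ctx`.
-/

set_option autoImplicit false

namespace Cfsg.Agent.Omega.NSix.NoBlk.Sym

open Subgroup Cfsg Cfsg.Agent.PLocal.ThompsonJ Cfsg.Agent.ZN Cfsg.Agent.ZN.ChoiceBase
open Cfsg.Agent.ZN.ChoiceSit
open Cfsg.Agent.Omega.SQ1.BauK.InK (QL mem_QL not_QL)
open Cfsg.Agent.Omega.NO3b.FPB.Base Cfsg.Agent.Omega.NO3b.FPB.Claim
open Cfsg.Agent.Omega.NSix.NoBlk.Pair Cfsg.Agent.Omega.NSix.NoBlk.XB
open Cfsg.Agent.Omega.NSix.NoBlk.Core Cfsg.Agent.Omega.S5.Def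

universe u

variable {G : Type u} [Group G] {S : Sylow 2 G} {P Q E L V W : Subgroup G} {n : ℕ}
  {ε : (Fin n → ZMod 2) → G}

/-! ### pull-backs -/

/-- The vectors whose image lies in `H`. -/
def pull (ev : EvenSet n E P ε) (H : Subgroup G) : AddSubgroup (Fin n → ZMod 2) where
  carrier := {x | ε x ∈ H}
  zero_mem' := by
    change ε 0 ∈ H
    rw [ev.zero]
    exact one_mem _
  add_mem' {x y} hx hy := by
    change ε (x + y) ∈ H
    rw [ev.add]
    exact mul_mem hx hy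
  neg_mem' {x} hx := by
    change ε (-x) ∈ H
    have h1 : -x = x := by
      rw [neg_eq_iff_add_eq_zero]
      exact add_self x
    rw [h1]
    exact hx

theorem mem_pull {ev : EvenSet n E P ε} {H : Subgroup G} {x : Fin n → ZMod 2} :
    x ∈ pull ev H ↔ ε x ∈ H := Iff.rfl

theorem one_mem_pull (ev : EvenSet n E P ε) (H : Subgroup G) : 1 ∈ pull ev H := by
  rw [mem_pull, ev.one]
  exact one_mem _

/-- The permutations induced by the elements of `H`. -/
def ind (ε : (Fin n → ZMod 2) → G) (H : Subgroup G) : Subgroup (Equiv.Perm (Fin n)) where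
  carrier := {σ | ∃ y ∈ H, Acts ε y σ}
  one_mem' := ⟨1, one_mem _, Acts.one⟩
  mul_mem' {σ τ} hσ hτ := by
    obtain ⟨y, hy, hyσ⟩ := hσ
    obtain ⟨z, hz, hzτ⟩ := hτ
    exact ⟨y * z, mul_mem hy hz, hyσ.mul hzτ⟩
  inv_mem' {σ} hσ := by
    obtain ⟨y, hy, hyσ⟩ := hσ
    exact ⟨y⁻¹, inv_mem hy, hyσ.inv⟩

/-- `N_P(C_B(V)) ∩ N(V Z_J)` -/
def DD (S : Sylow 2 G) (P V : Subgroup G) : Subgroup G :=
  P ⊓ normalizer (QL (S : Subgroup G) V : Set G) ⊓
    normalizer ((V ⊔ zj (S : Subgroup G) : Subgroup G) : Set G)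

theorem mem_DD {y : G} : y ∈ DD S P V ↔ (y ∈ P ∧ y ∈ normalizer (QL (S : Subgroup G) V : Set G)) ∧
    y ∈ normalizer ((V ⊔ zj (S : Subgroup G) : Subgroup G) : Set G) := by
  unfold DD
  rw [mem_inf, mem_inf]

/-! ### 2-elements -/

theorem two_part [Finite G] (y : G) (N : ℕ) :
    ∃ k, IsPGroup 2 (zpowers (y ^ k)) ∧ k ≡ 1 [MOD 2 ^ N] := by
  have hy : 0 < orderOf y := orderOf_pos y
  obtain ⟨a, r, hr, hor⟩ := Nat.exists_eq_two_pow_mul_odd (Nat.pos_iff_ne_zero.1 hy)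
  have hco : Nat.Coprime r (2 ^ N) := Nat.Coprime.pow_right N (Nat.coprime_two_right.2 hr)
  obtain ⟨k, hk1, hk2⟩ := Nat.chineseRemainder hco 0 1
  refine ⟨k, ?_, hk2⟩
  have h1 : r ∣ k := (Nat.modEq_zero_iff_dvd).1 hk1
  have h2 : (y ^ k) ^ 2 ^ a = 1 := by
    obtain ⟨t, rfl⟩ := h1
    rw [← pow_mul, show r * t * 2 ^ a = 2 ^ a * r * t by ring, ← hor, pow_mul, pow_orderOf_eq_one,
      one_pow]
  rintro ⟨z, hz⟩
  obtain ⟨i, rfl⟩ := mem_zpowers_iff.1 hz
  refine ⟨a, ?_⟩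
  rw [Subtype.ext_iff]
  push_cast
  rw [← zpow_natCast, ← zpow_mul, mul_comm, zpow_mul, zpow_natCast, h2, one_zpow]

theorem Acts_pow {y : G} {σ : Equiv.Perm (Fin n)} (hy : Acts ε y σ) (k : ℕ) :
    Acts ε (y ^ k) (σ ^ k) := by
  induction k with
  | zero =>
    rw [pow_zero, pow_zero]
    exact Acts.one
  | succ k ih =>
    rw [pow_succ, pow_succ]
    exact ih.mul hy

/-- A 2-element of `H` inducing `σ`. -/
theorem exists_two [Finite G] {H : Subgroup G} {σ : Equiv.Perm (Fin n)} {N : ℕ}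
    (hσ : σ ^ 2 ^ N = 1) (h : σ ∈ ind ε H) :
    ∃ y ∈ H, Acts ε y σ ∧ IsPGroup 2 (zpowers y) := by
  obtain ⟨y, hy, hyσ⟩ := h
  obtain ⟨k, hk, hk1⟩ := two_part y N
  refine ⟨y ^ k, pow_mem hy k, ?_, hk⟩
  have h1 := Acts_pow hyσ k
  have h2 : σ ^ k = σ := by
    conv_rhs => rw [← pow_one σ]
    rw [pow_eq_pow_iff_modEq]
    exact hk1.of_dvd (orderOf_dvd_of_pow_eq_one hσ)
  rwa [h2] at h1

section

variable [Finite G] (h : _root_.Cfsg.Agent.Omega.NSix.NoBlk.Core.Ctx S P Q E L V) (ev : EvenSet n E P ε)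
include h ev

theorem Q_acts {s : G} (hs : s ∈ Q) : Acts ε s 1 := fun x => by
  rw [h.QE s hs _ (ev.mem x)]
  change ε x * s * s⁻¹ = ε x
  group

theorem DD_cj {y : G} (hy : y ∈ DD S P V) :
    cj y (V ⊔ zj (S : Subgroup G)) = V ⊔ zj (S : Subgroup G) :=
  mem_normalizer_iff_cj.1 (mem_DD.1 hy).2

/-- An element inducing a permutation which fixes a nontrivial element of `C_E(L)`. -/
theorem ind_or {b d y : G} (hb : b ∈ bau (S : Subgroup G)) (hd : d ∈ E) (hd1 : d ≠ 1)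
    (hL : ∀ l ∈ L, l * d = d * l) (hy : y ∈ P) (hyd : y * d * y⁻¹ = d)
    {σ : Equiv.Perm (Fin n)} (hσ : Acts ε y σ) :
    σ ∈ ind ε (DD S P V) ∨
      ∀ x ∈ pull ev (EB E Q (V ⊔ zj (S : Subgroup G)) b), x ∘ σ ∈ pull ev (centralizer (L : Set G)) := by
  have key : ∀ {z : G}, z * d * z⁻¹ = d → ∀ l ∈ cj z L, l * d = d * l := by
    intro z hz l hl
    obtain ⟨l', hl', rfl⟩ := mem_cj_iff.1 hl
    have h1 := comm_conj_iff (g := z) |>.2 (hL l' hl')
    rwa [hz] at h1
  by_cases hs : ∃ s ∈ Q, cj y (QL (S : Subgroup G) V) = cj s (QL (S : Subgroup G) V)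
  · left
    obtain ⟨s, hs, he⟩ := hs
    have hy' : s⁻¹ * y ∈ P := mul_mem (inv_mem (h.QP hs)) hy
    have hd' : s⁻¹ * y * d * (s⁻¹ * y)⁻¹ = d := by
      have h1 : s * d * s⁻¹ = d := by rw [h.QE s hs d hd]; group
      calc s⁻¹ * y * d * (s⁻¹ * y)⁻¹ = s⁻¹ * (y * d * y⁻¹) * s := by group
        _ = s⁻¹ * (s * d * s⁻¹) * s := by rw [hyd, h1]
        _ = d := by group
    have he' : cj (s⁻¹ * y) (QL (S : Subgroup G) V) = QL (S : Subgroup G) V := by
      rw [← cj_cj, he, cj_inv_cj]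
    refine ⟨s⁻¹ * y, mem_DD.2 ⟨⟨hy', mem_normalizer_iff_cj.2 he'⟩, mem_normalizer_iff_cj.2
      (h.same hy' he' hd hd1 hL (key hd'))⟩, ?_⟩
    have h2 := (Q_acts h ev hs).inv.mul hσ
    rwa [inv_one, one_mul] at h2
  · right
    push Not at hs
    intro x hx
    rw [mem_pull, mem_centralizer_iff]
    intro l hl
    have h1 := h.apartQ hy hd hd1 hL (key hyd) hs hb (ε x) hx (y * l * y⁻¹) (conj_mem_cj hl)
    have h2 : ε x = y * ε (x ∘ σ) * y⁻¹ := by
      rw [hσ]
      congr 1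
      funext i
      simp
    rw [h2] at h1
    exact comm_conj_iff.1 h1

/-- `E_b^σ ∩ C_E(L) = 1` -/
theorem dis {b y : G} (hb : Good (S : Subgroup G) Q V b) (hy : y ∈ DD S P V)
    {σ : Equiv.Perm (Fin n)} (hσ : Acts ε y σ) {x : Fin n → ZMod 2}
    (hx : x ∈ pull ev (EB E Q (V ⊔ zj (S : Subgroup G)) b))
    (hxK : x ∘ σ.symm ∈ pull ev (centralizer (L : Set G))) : x = 0 ∨ x = 1 := by
  have hyD := mem_DD.1 hy
  have h1 : ε (x ∘ σ.symm) ∈ EB E Q (V ⊔ zj (S : Subgroup G)) (y * b * y⁻¹) := by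
    rw [← h.cj_EB hyD.1.1 (DD_cj h ev hy), ← hσ]
    exact conj_mem_cj hx
  have h2 := h.EB_disj (h.good_conj hb hyD.1.1 hyD.1.2) h1 fun l hl =>
    mem_centralizer_iff.1 hxK l hl
  rw [← hσ] at h2
  have h3 : ε x = 1 := by
    calc ε x = y⁻¹ * (y * ε x * y⁻¹) * y := by group
      _ = 1 := by rw [h2]; group
  exact (ev.ker x).1 h3

/-- `E = E_b C_E(L)^σ` -/
theorem spl {b y : G} (hb : Good (S : Subgroup G) Q V b) (hy : y ∈ DD S P V)
    {σ : Equiv.Perm (Fin n)} (hσ : Acts ε y σ) (x : Fin n → ZMod 2) :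
    ∃ u ∈ pull ev (EB E Q (V ⊔ zj (S : Subgroup G)) b),
      ∃ c ∈ pull ev (centralizer (L : Set G)), x = u + c ∘ σ.symm := by
  have hy' : y⁻¹ ∈ DD S P V := inv_mem hy
  have hyD := mem_DD.1 hy'
  have hP := (mem_DD.1 hy).1.1
  have h1 : y⁻¹ * ε x * y ∈ E := conj_mem_of_norm' h.PE hP (ev.mem x)
  obtain ⟨u', hu', c', hc', hc, he⟩ := h.EB_split (h.good_conj hb hyD.1.1 hyD.1.2) h1
  rw [← h.cj_EB hyD.1.1 (DD_cj h ev hy')] at hu'
  obtain ⟨u, hu, rfl⟩ := mem_cj_iff.1 hu'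
  obtain ⟨ux, rfl⟩ := ev.surj u (mem_inf.1 hu).1
  obtain ⟨cx, rfl⟩ := ev.surj c' hc'
  have h2 : ε x = ε (ux + cx ∘ σ.symm) := by
    rw [ev.add, ← hσ]
    calc ε x = y * (y⁻¹ * ε x * y) * y⁻¹ := by group
      _ = _ := by rw [he]; group
  rcases ev.eq_iff.1 h2 with h3 | h3
  · exact ⟨ux, hu, cx, mem_centralizer_iff.2 hc, h3⟩
  · refine ⟨ux + 1, AddSubgroup.add_mem _ (show ux ∈ pull ev _ from hu) (one_mem_pull ev _), cx,
      mem_centralizer_iff.2 hc, ?_⟩
    rw [h3]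
    abel

/-- A good element for a 2-element of `N_P(C_B(V)) ∩ N(V Z_J)`. -/
theorem good_inv {y : G} (hy : y ∈ DD S P V) (hy2 : IsPGroup 2 (zpowers y)) :
    ∃ b, Good (S : Subgroup G) Q V b ∧
      cj y (EB E Q (V ⊔ zj (S : Subgroup G)) b) = EB E Q (V ⊔ zj (S : Subgroup G)) b := by
  have hyD := mem_DD.1 hy
  set Q1 := Q ⊓ normalizer (QL (S : Subgroup G) V : Set G) with hQ1
  have hyQ : zpowers y ≤ normalizer (Q1 : Set G) := by
    rw [zpowers_le, mem_normalizer_iff]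
    intro z
    rw [hQ1, mem_inf, mem_inf]
    refine and_congr (mem_normalizer_iff.1 (h.PQ hyD.1.1) z) ⟨fun hz => ?_, fun hz => ?_⟩
    · exact mul_mem (mul_mem hyD.1.2 hz) (inv_mem hyD.1.2)
    · have h1 := mul_mem (mul_mem (inv_mem hyD.1.2) hz) hyD.1.2
      have h2 : y⁻¹ * (y * z * y⁻¹) * y = z := by group
      rwa [h2] at h1
  obtain ⟨b, hb, hbP, hbR⟩ := exists_good h.k (R := Q1 ⊔ zpowers y)
    (IsPGroup.to_sup_of_normal_left' (h.Q2.to_le inf_le_left) hy2 hyQ)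
    (sup_le (inf_le_left.trans (h.QP.trans h.nB)) (by rw [zpowers_le]; exact h.nB hyD.1.1))
    (sup_le inf_le_right (by rw [zpowers_le]; exact hyD.1.2))
  refine ⟨b, ⟨hb, hbP, fun s hs hsn => hbR s (mem_sup_left ⟨hs, hsn⟩)⟩, ?_⟩
  rw [h.cj_EB hyD.1.1 (DD_cj h ev hy)]
  have h1 := hbR y (mem_sup_right (mem_zpowers y))
  have e : y * b * y⁻¹ = b * (b⁻¹ * (y * b * y⁻¹)) := by group
  rw [e, h.EB_coset hb h1]

theorem inv_pull {b y : G} {σ : Equiv.Perm (Fin n)} (hσ : Acts ε y σ)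
    (he : cj y (EB E Q (V ⊔ zj (S : Subgroup G)) b) = EB E Q (V ⊔ zj (S : Subgroup G)) b) :
    ∀ x ∈ pull ev (EB E Q (V ⊔ zj (S : Subgroup G)) b),
      x ∘ σ.symm ∈ pull ev (EB E Q (V ⊔ zj (S : Subgroup G)) b) := by
  intro x hx
  rw [mem_pull, ← hσ, ← he]
  exact conj_mem_cj hx

theorem good_ex : ∃ b, Good (S : Subgroup G) Q V b := by
  obtain ⟨b, hb, -⟩ := good_inv h ev (y := 1) (one_mem _) (by
    rw [zpowers_one_eq_bot]
    exact IsPGroup.of_bot)
  exact ⟨b, hb⟩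

theorem pull_ne {b : G} (hb : Good (S : Subgroup G) Q V b) :
    ∃ u ∈ pull ev (EB E Q (V ⊔ zj (S : Subgroup G)) b), u ≠ 0 ∧ u ≠ 1 := by
  obtain ⟨e, he, he1⟩ := h.EB_ne hb
  obtain ⟨u, rfl⟩ := ev.surj e (mem_inf.1 he).1
  refine ⟨u, he, fun h0 => he1 ?_, fun h0 => he1 ?_⟩
  · rw [h0, ev.zero]
  · rw [h0, ev.one]

/-- Steps (3), (4): `|C_E(L)| > 2` is impossible. -/
theorem big {m : ℕ} (hn : n = 2 ^ (m + 1) + 1) {d d' : G} (hd : d ∈ E) (hd1 : d ≠ 1)
    (hL : ∀ l ∈ L, l * d = d * l) (hd' : d' ∈ E) (hd1' : d' ≠ 1) (hL' : ∀ l ∈ L, l * d' = d' * l)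
    (hne : d ≠ d') : False := by
  have hcard : Fintype.card (Fin n) = 2 ^ (m + 1) + 1 := by rw [Fintype.card_fin, hn]
  have hodd : Odd (Fintype.card (Fin n)) := by
    rw [hcard]
    exact Even.add_one (Nat.even_pow.2 ⟨even_two, by omega⟩)
  obtain ⟨x, rfl⟩ := ev.surj d hd
  obtain ⟨x', rfl⟩ := ev.surj d' hd'
  set K := pull ev (centralizer (L : Set G)) with hK
  have hxK : x ∈ K := mem_centralizer_iff.2 hL
  have hxK' : x' ∈ K := mem_centralizer_iff.2 hL'
  have hne0 : ∀ z : Fin n → ZMod 2, ε z ≠ 1 ↔ z ≠ 0 ∧ z ≠ 1 := by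
    intro z
    rw [Ne, ev.ker, not_or]
  -- a nontrivial element of `C_E(L)` fixed by a given transposition
  have hfix : ∀ a c : Fin n, ∃ z ∈ K, ε z ≠ 1 ∧ z a = z c := by
    intro a c
    by_cases h1 : x a = x c
    · exact ⟨x, hxK, hd1, h1⟩
    by_cases h2 : x' a = x' c
    · exact ⟨x', hxK', hd1', h2⟩
    refine ⟨x + x', K.add_mem hxK hxK', ?_, ?_⟩
    · rw [ev.add]
      intro h3
      exact hne ((mul_eq_one_iff_eq_inv.1 h3).trans (ev.inv x'))
    · rw [Pi.add_apply, Pi.add_apply]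
      rcases Comb.zmod_two (x a) with h3 | h3 <;> rcases Comb.zmod_two (x c) with h4 | h4 <;>
      rcases Comb.zmod_two (x' a) with h5 | h5 <;> rcases Comb.zmod_two (x' c) with h6 | h6 <;>
      rw [h3, h4] at h1 <;> rw [h5, h6] at h2 <;> rw [h3, h4, h5, h6] <;> first
        | exact absurd rfl h1 | exact absurd rfl h2 | decide
  obtain ⟨b0, hb0⟩ := good_ex h ev
  obtain ⟨u, hu, hu0, hu1⟩ := pull_ne h ev hb0
  have htop : ind ε (DD S P V) = ⊤ := by
    refine Comb.allSwap (U := pull ev (EB E Q (V ⊔ zj (S : Subgroup G)) b0)) (K := K) hodd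
      (one_mem_pull ev _) hu hu0 hu1 ?_ ?_
    · intro z hz hzK
      refine dis h ev hb0 (one_mem _) Acts.one hz ?_
      exact hzK
    · intro a c hac
      obtain ⟨z, hz, hz1, hzac⟩ := hfix a c
      obtain ⟨y, hy, hya⟩ := ev.full (Equiv.swap a c)
      rcases ind_or h ev hb0.mem (ev.mem z) hz1 (fun l hl => mem_centralizer_iff.1 hz l hl) hy
        (by
          rw [hya]
          congr 1
          exact Comb.comp_swap_eq z hzac) hya with h1 | h1
      · exact absurd h1 hac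
      · exact h1
  obtain ⟨ρ, hρ, hρc⟩ := Comb.exists_cycle hcard
  have hρo : ρ⁻¹ ^ 2 ^ (m + 1) = 1 := by
    rw [inv_pow, ← hρc, ← hρ.orderOf, pow_orderOf_eq_one, inv_one]
  obtain ⟨y, hy, hyρ, hy2⟩ := exists_two (H := DD S P V) (ε := ε) hρo (by rw [htop]; trivial)
  obtain ⟨b, hb, hyb⟩ := good_inv h ev hy hy2
  obtain ⟨v, hv, hv0, hv1⟩ := pull_ne h ev hb
  have hact : ∀ σ : Equiv.Perm (Fin n), ∃ y ∈ DD S P V, Acts ε y σ := by
    intro σ
    have h1 : σ ∈ ind ε (DD S P V) := by rw [htop]; trivial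
    exact h1
  refine Comb.noCycle hcard hρ hρc (U := pull ev (EB E Q (V ⊔ zj (S : Subgroup G)) b)) (K := K)
    (one_mem_pull ev _) (one_mem_pull ev _) ?_ hxK ((hne0 x).1 hd1).1 ((hne0 x).1 hd1).2
    (inv_pull h ev hyρ hyb) ?_ ?_
  · intro hKt
    have h1 : v ∈ K := by rw [hKt]; trivial
    rcases dis h ev hb (one_mem _) Acts.one hv h1 with h2 | h2
    · exact hv0 h2
    · exact hv1 h2
  · intro σ z hz hzK
    obtain ⟨y', hy', hyσ⟩ := hact σ⁻¹
    exact dis h ev hb hy' hyσ hz hzK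
  · intro σ z
    obtain ⟨y', hy', hyσ⟩ := hact σ⁻¹
    exact spl h ev hb hy' hyσ z

/-- Step (5): `|C_E(L)| = 2` is impossible. -/
theorem small {m : ℕ} (hn : n = 2 ^ (m + 1) + 1) {d : G} (hd : d ∈ E) (hd1 : d ≠ 1)
    (hL : ∀ l ∈ L, l * d = d * l) (hK : ∀ c ∈ E, (∀ l ∈ L, l * c = c * l) → c = 1 ∨ c = d) :
    False := by
  have hcard : Fintype.card (Fin n) = 2 ^ (m + 1) + 1 := by rw [Fintype.card_fin, hn]
  have hodd : Odd (Fintype.card (Fin n)) := by
    rw [hcard]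
    exact Even.add_one (Nat.even_pow.2 ⟨even_two, by omega⟩)
  obtain ⟨x0, rfl⟩ := ev.surj d hd
  -- the even representative
  obtain ⟨x, hx0, hx1, hxs, hxx⟩ : ∃ x : Fin n → ZMod 2, x ≠ 0 ∧ x ≠ 1 ∧ ∑ i, x i = 0 ∧
      ε x = ε x0 := by
    have h1 : x0 ≠ 0 ∧ x0 ≠ 1 := by
      rwa [Ne, ev.ker, not_or] at hd1
    obtain ⟨x, -, hx0, hx1, hxs, hxx⟩ := Comb.exists_even hodd (A := ⊤) (AddSubgroup.mem_top 1)
      (AddSubgroup.mem_top x0) h1.1 h1.2
    refine ⟨x, hx0, hx1, hxs, ?_⟩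
    rcases hxx with rfl | rfl
    · rfl
    · rw [ev.add, ev.one, mul_one]
  rw [← hxx] at hd1 hL hK hd
  set K := pull ev (centralizer (L : Set G)) with hKdef
  have hxK : x ∈ K := mem_centralizer_iff.2 hL
  obtain ⟨b0, hb0⟩ := good_ex h ev
  obtain ⟨u, hu, hu0, hu1⟩ := pull_ne h ev hb0
  have hsw : ∀ a c, x a = x c → Equiv.swap a c ∈ ind ε (DD S P V) := by
    intro a c hac
    obtain ⟨y, hy, hya⟩ := ev.full (Equiv.swap a c)
    have hyd : y * ε x * y⁻¹ = ε x := by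
      rw [hya]
      congr 1
      exact Comb.comp_swap_eq x hac
    rcases ind_or h ev hb0.mem (ev.mem x) hd1 hL hy hyd hya with h1 | h1
    · exact h1
    · exfalso
      have h2 := h1 u hu
      have h3 : ε u = 1 ∨ ε u = ε x := by
        have h4 : ε u = y * ε (u ∘ Equiv.swap a c) * y⁻¹ := by
          rw [hya]
          congr 1
          funext i
          simp
        rcases hK _ (ev.mem _) (fun l hl => mem_centralizer_iff.1 h2 l hl) with h5 | h5
        · left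
          rw [h4, h5]
          group
        · right
          rw [h4, h5, hyd]
      have h4 : ε u ∈ centralizer (L : Set G) := by
        rcases h3 with h3 | h3
        · rw [h3]; exact one_mem _
        · rw [h3]; exact hxK
      rcases dis h ev hb0 (one_mem _) Acts.one hu h4 with h5 | h5
      · exact hu0 h5
      · exact hu1 h5
  obtain ⟨k, hk⟩ := Comb.even_weight hxs
  obtain ⟨θ, e, hθ, hθ2, hθf, -, hes⟩ := Comb.exists_pairing k _ hk
  have hex : e + e ∘ θ = x := by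
    rw [hes]
    funext i
    rcases Comb.zmod_two (x i) with h1 | h1
    · simp only [h1, _root_.Finset.mem_filter, _root_.Finset.mem_univ, _root_.zero_ne_one, _root_.and_false, ↓ _root_.reduceIte]
    · simp only [h1, _root_.Finset.mem_filter, _root_.Finset.mem_univ, _root_.and_self, ↓ _root_.reduceIte]
  have hθD : θ ∈ ind ε (DD S P V) := by
    refine (closure_le _).2 ?_ hθ
    rintro σ ⟨a, ha, c, hc, rfl⟩
    refine hsw a c ?_
    rw [Finset.mem_filter] at ha hc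
    rw [ha.2, hc.2]
  obtain ⟨y, hy, hyθ, hy2⟩ := exists_two (N := 1) (by rw [pow_one, pow_two, hθ2]) hθD
  obtain ⟨b, hb, hyb⟩ := good_inv h ev hy hy2
  have hθs : θ.symm = θ := by
    have h1 : θ⁻¹ = θ := inv_eq_of_mul_eq_one_left hθ2
    exact h1
  have hinv := inv_pull h ev hyθ hyb
  rw [hθs] at hinv
  have hxθ : x ∘ θ = x := by
    rw [← hex]
    have h1 : (e + e ∘ θ) ∘ θ = e ∘ θ + (e ∘ θ) ∘ θ := rfl
    have h2 : (e ∘ θ) ∘ θ = e := by
      funext i
      have h3 : θ (θ i) = i := by rw [← Equiv.Perm.mul_apply, hθ2]; rfl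
      simp only [Function.comp_apply, h3]
    rw [h1, h2, add_comm]
  have hxU : x ∈ pull ev (EB E Q (V ⊔ zj (S : Subgroup G)) b) := by
    refine Comb.mem_of_pairing hxθ hex ?_ hinv
    intro z
    obtain ⟨w, hw, c, hc, hcL, hz⟩ := h.EB_split hb (ev.mem z)
    rcases hK c hc hcL with h1 | h1
    · left
      rw [mem_pull, hz, h1, mul_one]
      exact hw
    · right
      rw [mem_pull, ev.add, hz, h1, mul_assoc, ev.sq, mul_one]
      exact hw
  rcases dis h ev hb (one_mem _) Acts.one hxU hxK with h5 | h5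
  · exact hx0 h5
  · exact hx1 h5

/-- THEOREM BL* -/
theorem noBlock {m : ℕ} (hn : n = 2 ^ (m + 1) + 1) : False := by
  obtain ⟨d, hd, hd1, hL⟩ := h.nK
  by_cases hK : ∀ c ∈ E, (∀ l ∈ L, l * c = c * l) → c = 1 ∨ c = d
  · exact small h ev hn hd hd1 hL hK
  · push Not at hK
    obtain ⟨c, hc, hcL, hc1, hcd⟩ := hK
    exact big h ev hn hd hd1 hL hc hc1 hcL (Ne.symm hcd)

end

end Cfsg.Agent.Omega.NSix.NoBlk.Sym

end

section


/-!
# THEOREM BL* (OMEGA #18620, helper107)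

`G` of characteristic 2 type, `S ∈ Syl₂(P)`, `Q = O₂(P)`, `E = Ω₁(Z(Q))` the even-subset module of degree
`n = 2^m + 1` (`P` induces `Sym(n)`, `C_S(E) ≤ Q`), `J(S) ≤ Q`.

* `no_blk`: no Baumann block `(L, V)` over `bau S` satisfying (N) (for `T ≥ Q`) centralises `1 ≠ d ∈ E`;
* `hasBlk_of`: the FF theorem gives a block satisfying (N);
* `cen`: `Q ≤ T`, `X ≤ C_G(d)` a minimal parabolic over `T ∈ Syl₂(X)` of characteristic 2 with `J(S) ≰ O₂(X)`:
  then `O²(X)` centralises `⟨Ω₁(Z(T))^X⟩`.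
-/

set_option autoImplicit false

namespace Cfsg.Agent.Omega.NSix.NoBlk.Main

open Subgroup Cfsg Cfsg.Agent.PLocal.ThompsonJ Cfsg.Agent.ZN Cfsg.Agent.ZN.ChoiceBase
open Cfsg.Agent.ZN.ChoiceSit
open Cfsg.Agent.Omega.SQ1.BauK.InK (QL mem_QL not_QL)
open Cfsg.Agent.Omega.NO3b.FPB.Base Cfsg.Agent.Omega.NO3b.FPB.Claim
open Cfsg.Agent.Omega.NSix.NoBlk.Pair Cfsg.Agent.Omega.NSix.NoBlk.Core
open Cfsg.Agent.Omega.S5.Def
open Cfsg.Agent.MinSimple.MinParabolic (IsMinPar)
open Cfsg.Agent.MinSimple.VModule (oddGen)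

universe u

variable {G : Type u} [Group G] {T X L V : Subgroup G}

/-- (N) : `N_T(C_B(V))` normalises `C_{Z_J}(L)`. -/
def NN (T L V : Subgroup G) : Prop :=
  ∀ s ∈ T, s ∈ normalizer (QL T V : Set G) → ∀ z ∈ zj T, (∀ l ∈ L, l * z = z * l) →
    ∀ l ∈ L, l * (s * z * s⁻¹) = (s * z * s⁻¹) * l

/-- A Baumann block over `bau T` in `X` satisfying (N). -/
def HasBlk (T X : Subgroup G) : Prop := ∃ L V : Subgroup G, L ≤ X ∧ PB T L V ∧ NN T L V

theorem hasBlk_nat [Finite G] {H T Q V V0 : Subgroup G} {ι : Type} {N A : ι → Subgroup G} {q : ℕ}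
    (h : SQ1.BauK.InK H T Q V V0 N A q) (i : ι) : HasBlk T H := by
  obtain ⟨L, k⟩ := h.exists_blk i
  refine ⟨L, NO3b.FPB.OfInK.N0 N i L, k.LH h, ⟨NO3b.FPB.OfInK.blk k h, ?_,
    NO3b.FPB.OfInK.bk k h le_top (PB.le_norm_top L)⟩, fun s hs hn z hz hc =>
    Nrm.nrmK k h hs hn hz hc⟩
  exact isElementaryAbelian_mono
    (isElementaryAbelian_iff.2 ⟨fun v hv w hw => h.VcQ v (h.VQ hv) w hw, h.Vsq⟩)
    ((NO3b.FPB.OfInK.N0_le k h).trans (h.NV i))

theorem hasBlk_sym [Finite G] {H T Q V : Subgroup G} {ι : Type} {N : ι → Subgroup G} {d t r : ι → G}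
    (hT : Syl T H) (h : SQ1.BauS.In H T Q V N d t r) (i : ι) : HasBlk T H := by
  obtain ⟨L, k⟩ := h.exists_blk i
  exact ⟨L, N i, k.LP.trans (h.PP_le i), ⟨NO3b.FPB.OfS.blk k h,
    isElementaryAbelian_mono h.Velem (h.NV i),
    NO3b.FPB.OfS.bk k h le_top (PB.le_norm_top L)⟩, fun s hs hn z hz hc =>
    Nrm.nrmS hT k h hs hn hz hc⟩

/-- The FF theorem gives a block satisfying (N). -/
theorem hasBlk_of [Finite G] (hFF : FFThm.Stmt.{u}) (hT : Syl T X)
    (hP : IsMinPar T X) (hc : X ⊓ centralizer (o2 X : Set G) ≤ o2 X) (hJ : ¬ jj T ≤ o2 X)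
    (hne : (X ⊓ centralizer (zl T X : Set G)) ⊔ T ≠ X) : HasBlk T X := by
  rcases NO3b.FPB.OfStmt.of_stmt hFF hT hP hc hJ hne with
    ⟨ι, N, A, q, ⟨i⟩, h⟩ | ⟨ι, N, d, t, r, ⟨i⟩, h, -⟩
  · exact hasBlk_nat h i
  · exact hasBlk_sym hT h i

/-- The data of `P`: `E = Ω₁(Z(O₂(P)))` is the even-subset module of degree `2^m + 1`, `J(S) ≤ O₂(P)`. -/
structure Dat (S : Sylow 2 G) (P E : Subgroup G) {n : ℕ} (ε : (Fin n → ZMod 2) → G) : Prop where
  hG : IsCharacteristicTwoType G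
  SP : (S : Subgroup G) ≤ P
  ev : EvenSet n E P ε
  zE : zc (o2 P) = E
  cE : (S : Subgroup G) ⊓ centralizer (E : Set G) ≤ o2 P
  J : jj (S : Subgroup G) ≤ o2 P

namespace Dat

variable {S : Sylow 2 G} {P E : Subgroup G} {n : ℕ} {ε : (Fin n → ZMod 2) → G}

theorem QS [Finite G] (D : Dat S P E ε) : o2 P ≤ (S : Subgroup G) :=
  o2_le_syl (MinSimple.EmptyTI.syl_of_le D.SP)

theorem EZ [Finite G] (D : Dat S P E ε) : E ≤ zj (S : Subgroup G) := by
  intro e he
  rw [← D.zE, ChoiceBase.mem_zc] at he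
  have hc : ∀ j ∈ jj (S : Subgroup G), j * e = e * j := fun j hj => he.2.2 j (D.J hj)
  exact ChoiceBase.mem_zj.2 ⟨mem_jj_of_comm (D.QS he.1) he.2.1 hc, he.2.1, hc⟩

theorem BQ [Finite G] (D : Dat S P E ε) : bau (S : Subgroup G) ≤ o2 P := fun b hb =>
  D.cE ⟨ChoiceBase.bau_le _ hb, mem_centralizer_iff.2 fun e he => (mem_bau.1 hb).2 e (D.EZ he)⟩

theorem bauQ [Finite G] (D : Dat S P E ε) : bau (o2 P) = bau (S : Subgroup G) :=
  LemmaK.Main.bau_eq S (ZN.isPGroup_o2 P) D.BQ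

theorem nB [Finite G] (D : Dat S P E ε) : P ≤ normalizer (bau (S : Subgroup G) : Set G) := by
  rw [← D.bauQ]
  exact (ZN.le_normalizer_o2 P).trans (normalizer_le_bau _)

theorem ctx [Finite G] (D : Dat S P E ε) (hQT : o2 P ≤ T) (hT2 : IsPGroup 2 T) (k : PB T L V)
    (hN : NN T L V) {d : G} (hd : d ∈ E) (hd1 : d ≠ 1) (hL : ∀ l ∈ L, l * d = d * l) :
    _root_.Cfsg.Agent.Omega.NSix.NoBlk.Core.Ctx S P (o2 P) E L V := by
  have hb : bau T = bau (S : Subgroup G) := LemmaK.Main.bau_eq S hT2 (D.BQ.trans hQT)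
  have hz : zj T = zj (S : Subgroup G) := NO3b.FPB.Move.zj_eq hb
  have hq : QL T V = QL (S : Subgroup G) V := by unfold QL; rw [hb]
  exact
    { hG := D.hG
      k := k.of_bau hb
      nB := D.nB
      Q2 := ZN.isPGroup_o2 P
      QP := ZN.o2_le P
      PQ := ZN.le_normalizer_o2 P
      EZ := D.EZ
      PE := D.ev.le_normalizer
      QE := fun s hs e he => by
        rw [← D.zE, ChoiceBase.mem_zc] at he
        exact he.2.2 s hs
      CE := fun z hz hc => by
        rw [← D.zE, ChoiceBase.mem_zc]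
        have hz' := ChoiceBase.mem_zj.1 hz
        exact ⟨D.J hz'.1, hz'.2.1, hc⟩
      nK := ⟨d, hd, hd1, hL⟩
      nrm := fun t ht htn z hz' hc => hN t (hQT ht) (by rw [hq]; exact htn) z (by rw [hz]; exact hz')
        hc }

end Dat

variable {S : Sylow 2 G} {P E : Subgroup G} {m : ℕ} {ε : (Fin (2 ^ m + 1) → ZMod 2) → G}

/-- **THEOREM BL\*** -/
theorem no_blk [Finite G] (D : Dat S P E ε) (hm : 1 ≤ m) (hQT : o2 P ≤ T) (hT2 : IsPGroup 2 T)
    (k : PB T L V) (hN : NN T L V) {d : G} (hd : d ∈ E) (hd1 : d ≠ 1)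
    (hL : ∀ l ∈ L, l * d = d * l) : False := by
  obtain ⟨m, rfl⟩ : ∃ k, m = k + 1 := ⟨m - 1, by omega⟩
  exact Sym.noBlock (D.ctx hQT hT2 k hN hd hd1 hL) D.ev rfl

/-- **COR.** of THEOREM BL*. -/
theorem cen [Finite G] (hFF : FFThm.Stmt.{u}) (D : Dat S P E ε) (hm : 1 ≤ m) (hQT : o2 P ≤ T)
    (hT : Syl T X) (hP : IsMinPar T X) (hc : X ⊓ centralizer (o2 X : Set G) ≤ o2 X) {d : G}
    (hd : d ∈ E) (hd1 : d ≠ 1) (hX : X ≤ centralizer {d}) (hJ : ¬ jj (S : Subgroup G) ≤ o2 X) :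
    oddGen X ≤ centralizer (zl T X : Set G) := by
  by_contra hne
  have hBT : bau (S : Subgroup G) ≤ T := D.BQ.trans hQT
  have hJT : ¬ jj T ≤ o2 X := by rwa [LemmaK.Main.jj_eq S hT.2.1 hBT]
  obtain ⟨L, V, hLX, k, hN⟩ := hasBlk_of hFF hT hP hc hJT (NO3b.FPB.Cen.cent_sup_ne hT hne)
  refine no_blk D hm hQT hT.2.1 k hN hd hd1 fun l hl => ?_
  exact (mem_centralizer_iff.1 (hX (hLX hl)) d (Set.mem_singleton d)).symm

/-- `Ω₁(Z(T)) ≤ C(O²(X))`. -/
theorem cen_zc [Finite G] (hFF : FFThm.Stmt.{u}) (D : Dat S P E ε) (hm : 1 ≤ m) (hQT : o2 P ≤ T)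
    (hT : Syl T X) (hP : IsMinPar T X) (hc : X ⊓ centralizer (o2 X : Set G) ≤ o2 X) {d : G}
    (hd : d ∈ E) (hd1 : d ≠ 1) (hX : X ≤ centralizer {d}) (hJ : ¬ jj (S : Subgroup G) ≤ o2 X) :
    zc T ≤ centralizer (oddGen X : Set G) :=
  SQ1.VOf.zc_le_zl.trans (le_centralizer_iff.1 (cen hFF D hm hQT hT hP hc hd hd1 hX hJ))

/-- The data for a minimal parabolic `P ∈ P*(S)` with `V_P` the even-subset module. -/
theorem dat_par [Finite G] (hG : IsCharacteristicTwoType G) (hP : MinPar.IsParS (S : Subgroup G) P)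
    {n : ℕ} {ε : (Fin n → ZMod 2) → G} (ev : EvenSet n (zl (S : Subgroup G) P) P ε)
    (hZ : zc (o2 P) = zl (S : Subgroup G) P) (hJ : jj (S : Subgroup G) ≤ o2 P) :
    Dat S P (zl (S : Subgroup G) P) ε where
  hG := hG
  SP := hP.isLoc.le
  ev := ev
  zE := hZ
  cE := (hP.inf_centralizer S hG).le
  J := hJ

end Cfsg.Agent.Omega.NSix.NoBlk.Main

end

end

-- merged: Cfsg.Agent.Mrg.Omega.NSix.HTwo.StepFour
section

/-!
# #18323 (4) (helper480): the minimal parabolics of `C_G(r_ij)` which move `Ω₁(Z(T₁))`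

`V = zl S P` even subsets, `T₁ = S ∩ C_G(r_ij)`, `R ≤ C_G(r_ij)` a minimal parabolic over `T₁`, `W = zl T₁ R`.

* `char2_of` : `R` has characteristic 2;
* `zc_le` : `Ω₁(Z(T₁)) ≤ V ∩ UU ε i j`; `zl_le` : `W ≤ UU ε i j`;
* `comm` : if `UU ε a b` is trivial or an offender on `W` for all pairs `a, b` disjoint from `i, j`, then
  `[W, UU ε a b] = 1` for all of them;
* `not_cent` : `X ≤ T₁`, `X ≰ O₂(R)` implies `[W, X] ≠ 1`;
* `main` : all this for `R ≰ N_G(V)`, `R ≰ C_G(z_0)` in the situation `LemTwo.In`, with `NoOverM W R`.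
-/

set_option autoImplicit false

namespace Cfsg.Agent.Omega.NSix.HTwo.StepFour

open Subgroup Cfsg
open Cfsg.Agent.ZN.ChoiceSit (Syl)
open Cfsg.Agent.ZN (zc zl o2)
open Cfsg.Agent.MinSimple.MinParabolic (IsMinPar)
open Cfsg.Agent.MinSimple.VModule (mem_zc zc_le le_centralizer_zc le_normalizer_o2 o2_le o2_isPGroup le_o2)
open Cfsg.Agent.Omega.MinPar Cfsg.Agent.Omega.FFThm
open Cfsg.Agent.Omega.S5.Def Cfsg.Agent.Omega.S5.Syl
open Cfsg.Agent.Omega.NSix.Base Cfsg.Agent.Omega.NSix.Basic Cfsg.Agent.Omega.NSix.Engine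

universe u

variable {G : Type u} [Group G] {n : ℕ} {V P T R : Subgroup G} {ε : (Fin n → ZMod 2) → G} {i j : Fin n}

theorem le_norm_UU (i j : Fin n) : NN ε i j ≤ normalizer (UU ε i j : Set G) := by
  intro g hg
  rw [mem_normalizer_iff]
  intro x
  refine ⟨fun hx => UU_normal hg hx, fun hx => ?_⟩
  have h1 := UU_normal (inv_mem hg) hx
  have e : g⁻¹ * (g * x * g⁻¹) * g⁻¹⁻¹ = x := by group
  rwa [e] at h1

theorem zl_le (hRN : R ≤ NN ε i j) (hE : zc T ≤ UU ε i j) : zl T R ≤ UU ε i j :=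
  MinSimple.VModule.zl_le hE (hRN.trans (le_norm_UU i j))

/-- a group between a Sylow 2-subgroup (or any `T ≥ O₂(N)`) and `N` of characteristic 2 has characteristic 2 -/
theorem char2_of [Finite G] {N : Subgroup G} (hN : N ⊓ centralizer (o2 N : Set G) ≤ o2 N) (hRN : R ≤ N)
    (hO : o2 N ≤ R) : R ⊓ centralizer (o2 R : Set G) ≤ o2 R := by
  have h1 : o2 N ≤ o2 R := le_o2 hO (o2_isPGroup N) (hRN.trans (le_normalizer_o2 N))
  intro x hx
  exact h1 (hN ⟨hRN hx.1, centralizer_le h1 hx.2⟩)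

section

variable [Finite G] {S : Sylow 2 G}

/-- `Ω₁(Z(T₁)) ≤ V ∩ UU ε i j` -/
theorem zc_le (hG : IsCharacteristicTwoType G) (hP : IsParS (S : Subgroup G) P)
    (h : Hyp (zl (S : Subgroup G) P) P ε) (hij : i ≠ j)
    (hOS : o2 (NN ε i j) ≤ (S : Subgroup G)) :
    zc ((S : Subgroup G) ⊓ NN ε i j) ≤ zl (S : Subgroup G) P ⊓ UU ε i j := by
  intro x hx
  obtain ⟨hxT, hxc, hx2⟩ := mem_zc.1 hx
  have hO : OmegaOne.Hyp (zl (S : Subgroup G) P) P S ε := by
    refine ⟨h.ev, hP.le, MinSimple.VModule.zc_le_zl _ _, h.pair, h.le, ?_⟩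
    obtain ⟨a, b, hab, g, hg, -, hgV⟩ := h.mov
    exact ⟨a, b, hab, g, hg, hgV⟩
  have hV : zl (S : Subgroup G) P ≤ zc (o2 P) := hP.isLoc.zl_le S hG
  have hinf := hP.inf_centralizer S hG
  have hQT : o2 P ≤ (S : Subgroup G) ⊓ NN ε i j := by
    intro q hq
    have h1 : q ∈ (S : Subgroup G) ⊓ centralizer (zl (S : Subgroup G) P : Set G) := by rw [hinf]; exact hq
    exact ⟨h1.1, mem_NN.2 (mem_centralizer_iff.1 h1.2 _ (rr_mem h.ev i j)).symm⟩
  have hVT : zl (S : Subgroup G) P ≤ (S : Subgroup G) ⊓ NN ε i j := (hV.trans (MinSimple.VModule.zc_le _)).trans hQT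
  have hxQ : x ∈ o2 P := by
    rw [← hinf]
    exact ⟨hxT.1, mem_centralizer_iff.2 fun v hv => hxc v (hVT hv)⟩
  have hxV : x ∈ zl (S : Subgroup G) P := by
    rw [← OmegaOne.zc_o2_par hG h.n5 hP hO]
    exact mem_zc.2 ⟨hxQ, fun b hb => hxc b (hQT hb), hx2⟩
  refine ⟨hxV, ?_⟩
  obtain ⟨y, rfl⟩ := h.ev.surj x hxV
  refine (h.eU hij y).2 ?_
  obtain ⟨w, hw, hwa⟩ := h.exists_w hij
  have hwN : w ∈ o2 (NN ε i j) := h.W2_leQ hij hw
  have h1 := hxc w ⟨hOS hwN, o2_le _ hwN⟩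
  have h2 := hwa y
  rw [h1, mul_inv_cancel_right, h.ev.eq_iff] at h2
  rcases h2 with h2 | h2
  · have h3 := congrFun h2 i
    rwa [Function.comp_apply, Equiv.symm_swap, Equiv.swap_apply_left] at h3
  · exfalso
    obtain ⟨k, hk1, hk2, -, -⟩ := exists_fifth h.n5 i j i i
    have h3 := congrFun h2 k
    rw [Pi.add_apply, Function.comp_apply, Equiv.symm_swap, Equiv.swap_apply_of_ne_of_ne hk1 hk2, Pi.one_apply] at h3
    revert h3
    generalize y k = t
    revert t
    decide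

/-- **(4)**: `[W, UU ε a b] = 1` -/
theorem comm (h : Hyp V P ε) (hij : i ≠ j) (hFF : StmtM.{u}) (hT : Syl T R) (hR : IsMinPar T R) (hRN : R ≤ NN ε i j)
    (hc : R ⊓ centralizer (o2 R : Set G) ≤ o2 R) (hE : zc T ≤ UU ε i j)
    (hU : ∀ a b, D4 i j a b → UU ε a b ≤ T)
    (hoff : ∀ a b, D4 i j a b → UU ε a b ≤ centralizer (zl T R : Set G) ∨ OffM (zl T R) (UU ε a b))
    {a b : Fin n} (hD : D4 i j a b) : UU ε a b ≤ centralizer (zl T R : Set G) := by
  by_contra hn
  set 𝒜 : Set (Subgroup G) := {A | ∃ a b, D4 i j a b ∧ A = UU ε a b} with h𝒜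
  obtain ⟨ν, hν, E, h1, ⟨A, ⟨a', b', hD', rfl⟩, u, hu, hne⟩, h3⟩ := Vec.exists_vec hFF hT hR hc (𝒜 := 𝒜)
    (by rintro A ⟨a, b, hab, rfl⟩; exact hU a b hab)
    (by rintro A ⟨a, b, hab, rfl⟩; exact hoff a b hab)
    ⟨_, ⟨a, b, hD, rfl⟩, hn⟩
  have h4 := HTwo.Hyp.lemP_set h hij (zl_le hRN hE hν) (E := E) (fun a b hD => h1 _ ⟨a, b, hD, rfl⟩) ⟨a', b', hD', u, hu, hne⟩
  have h5 : Vec.cms ν (UU ε a' b') = E := (h1 _ ⟨a', b', hD', rfl⟩).resolve_left fun h => hne (h u hu)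
  have h6 : u * ν * u⁻¹ * ν⁻¹ ∈ E := by
    rw [← h5]
    exact ⟨u, hu, rfl⟩
  have h7 := h3 _ h6 fun g hg => by
    have h8 : g * rr ε i j = rr ε i j * g := mem_NN.1 (hRN hg)
    obtain ⟨k, hk⟩ := mem_zpowers_iff.1 (h4 _ h6)
    rw [← hk]
    exact (show Commute g (rr ε i j) from h8).zpow_right k
  apply hne
  have e : u * ν * u⁻¹ * ν⁻¹ = u * ν * (ν * u)⁻¹ := by group
  rw [e] at h7
  exact mul_inv_eq_one.1 h7

/-- `X ≤ T`, `X ≰ O₂(R)` moves `W` -/
theorem not_cent {X : Subgroup G} (hT : Syl T R) (hR : IsMinPar T R) (hZ : ¬ R ≤ centralizer (zc T : Set G))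
    (hX : X ≤ T) (hXo : ¬ X ≤ o2 R) : ¬ X ≤ centralizer (zl T R : Set G) :=
  fun h => hXo fun _ hx => OM.BlkGen.inf_cent hT hR hZ ⟨hX hx, h hx⟩

/-- `z_0 ∈ Ω₁(Z(T₁))` -/
theorem zz_mem_zc (hG : IsCharacteristicTwoType G) (hP : IsParS (S : Subgroup G) P)
    (h : Hyp (zl (S : Subgroup G) P) P ε) {c : Fin n} (hz : ∀ s ∈ (S : Subgroup G), s * zz ε c = zz ε c * s) :
    zz ε c ∈ zc ((S : Subgroup G) ⊓ NN ε i j) := by
  have hV : zl (S : Subgroup G) P ≤ zc (o2 P) := hP.isLoc.zl_le S hG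
  have hVS : zl (S : Subgroup G) P ≤ (S : Subgroup G) := by
    have h1 := hP.inf_centralizer S hG
    exact (hV.trans (MinSimple.VModule.zc_le _)).trans (h1.ge.trans inf_le_left)
  refine mem_zc.2 ⟨⟨hVS (zz_mem h.ev c), ?_⟩, fun b hb => hz b hb.1, by rw [pow_two]; exact zz_sq h.ev c⟩
  exact mem_NN.2 (h.ev.comm_mem (zz_mem h.ev c) (rr_mem h.ev i j))

end

section

variable [Finite G] {S : Sylow 2 G} {m : ℕ} {ε : (Fin (2 ^ m + 1) → ZMod 2) → G} {i j : Fin (2 ^ m + 1)}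

/-- **(4)** for a minimal parabolic `R` of `C_G(r_ij)` over `T₁ = S ∩ C_G(r_ij)` -/
theorem main (hFF : StmtM.{u}) (hG : IsCharacteristicTwoType G) (hP : IsParS (S : Subgroup G) P)
    (hI : LemTwo.In S (zl (S : Subgroup G) P) P ε i j) (hR : IsMinPar ((S : Subgroup G) ⊓ NN ε i j) R)
    (hRN : R ≤ NN ε i j) (hRV : ¬ R ≤ normalizer (zl (S : Subgroup G) P : Set G))
    (hRz : ¬ R ≤ centralizer ({zz ε 0} : Set G))
    (hoff : ∀ W ≤ UU ε i j, ∀ a b, D4 i j a b → UU ε a b ≤ centralizer (W : Set G) ∨ OffM W (UU ε a b)) :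
    zl ((S : Subgroup G) ⊓ NN ε i j) R ≤ UU ε i j ∧
      (∀ a b, D4 i j a b → UU ε a b ≤ centralizer (zl ((S : Subgroup G) ⊓ NN ε i j) R : Set G)) ∧
      ¬ LemTwo.XX ε i j ≤ centralizer (zl ((S : Subgroup G) ⊓ NN ε i j) R : Set G) ∧
      NoOverM (zl ((S : Subgroup G) ⊓ NN ε i j) R) R ∧ Syl ((S : Subgroup G) ⊓ NN ε i j) R := by
  set T := (S : Subgroup G) ⊓ NN ε i j with hTdef
  have hTR : T ≤ R := hR.le
  have hT : Syl T R := by
    obtain ⟨h1, h2, h3⟩ := hI.syl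
    exact ⟨hTR, h2, fun Q hQR hQ hTQ => h3 Q (hQR.trans hRN) hQ hTQ⟩
  have hcN : NN ε i j ⊓ centralizer (o2 (NN ε i j) : Set G) ≤ o2 (NN ε i j) :=
    MinSimple.Basic.char2_centralizer hG (by rw [pow_two]; exact rr_sq hI.hyp.ev i j)
      (rr_ne_one hI.hyp.ev hI.three hI.ij)
  have hc : R ⊓ centralizer (o2 R : Set G) ≤ o2 R := char2_of hcN hRN (hI.o2_le_T.trans hTR)
  have hE : zc T ≤ UU ε i j := (zc_le hG hP hI.hyp hI.ij (hI.o2_le_T.trans inf_le_left)).trans inf_le_right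
  have hZ : ¬ R ≤ centralizer (zc T : Set G) := by
    intro h1
    apply hRz
    refine h1.trans (centralizer_le ?_)
    rw [Set.singleton_subset_iff]
    refine zz_mem_zc hG hP hI.hyp fun s hs => ?_
    obtain ⟨σ, hσ⟩ := hI.hyp.ev.perm s (hP.le hs)
    have h2 := zz_conj hσ 0
    rw [hI.fix0 s hs σ hσ] at h2
    exact mul_inv_eq_iff_eq_mul.1 h2
  have hU : ∀ a b, D4 i j a b → UU ε a b ≤ T := fun a b hD =>
    le_inf ((LemTwo.UU_le_o2 hI.hyp hD.kl).trans hI.o2_KK_le) ((hI.hyp.UK hD.kl).trans (LemTwo.KK_le_NN i j))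
  refine ⟨zl_le hRN hE, fun a b hD => ?_, ?_, Vec.noOverM hFF hT hR hc, hT⟩
  · exact comm hI.hyp hI.ij hFF hT hR hRN hc hE hU (fun a b hD => hoff _ (zl_le hRN hE) a b hD) hD
  · exact not_cent hT hR hZ hI.XX_le_T (hI.not_le_o2 hTR hRN hRV)

end

end Cfsg.Agent.Omega.NSix.HTwo.StepFour

end

-- merged: Cfsg.Agent.Mrg.Omega.NSix.HTwo.StepC
section

/-!
# #18323 (helper480): (H2) of N6, the assembly of the steps (1)-(7)  (helper546)

`T₁ = C_S(r_ij)`, `S` induces `(i j)`, `N = C_G(r_ij)`, `V = zl S P`.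

* `in_of` : the input of 537's `LemTwo` from `Main.Pos` and 395's `TLEnd` (#16633 (1), (4));
* `two_pairs` : two disjoint pairs off `{i, j}` induced by `S`;
* `off_of` : (2), 940's `Off` with `T₁`; `lab_of` : (5)-(7), 480's `Star`; (4) is 778's `StepFour.main`;
* `steps_of : MLK → StmtM → Main.Steps K`; `symH2 : MLK → StmtM → SN.Two K → SymH2 K`; `symBig`.
-/

set_option autoImplicit false
set_option linter.unusedSectionVars false

namespace Cfsg.Agent.Omega.NSix.HTwo.StepC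

open Subgroup Cfsg Cfsg.Agent.Omega.MinPar
open Cfsg.Agent.ZN (o2 zc zl)
open Cfsg.Agent.ZN.ChoiceSit (Syl)
open Cfsg.Agent.MinSimple.VModule (o2_le o2_isPGroup le_normalizer_o2 le_o2 mem_zc)
open Cfsg.Agent.Omega.S5.Def Cfsg.Agent.Omega.S5.Syl
open Cfsg.Agent.Omega.NSix.Base Cfsg.Agent.Omega.NSix.Basic Cfsg.Agent.Omega.NSix.Engine
open Cfsg.Agent.Omega.NSix.Engine.Fr (Cen)
open Cfsg.Agent.Omega.NSix.CosetAct (V0 mem_V0)
open Cfsg.Agent.Omega.NSix.HTwo.LemTwo (XX In)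
open Cfsg.Agent.Omega.NSix.HTwo.Main (Pos Steps)
open Cfsg.Agent.Omega.Frame (Ctx Cls)
open Cfsg.Agent.Omega.TTn.Di (cm cj cm_one_iff)
open Cfsg.Agent.MinSimple.MinParabolic (IsMinPar)

universe u

variable {G : Type u} [Group G] [Finite G] {S : Sylow 2 G} {P : Subgroup G} {m : ℕ}
  {ε : (Fin (2 ^ m + 1) → ZMod 2) → G} {i j : Fin (2 ^ m + 1)}

/-- the situation of 395's `TLEnd` -/
theorem sy_of (h : Pos S P ε) : TLEnd.Sy S (zl (S : Subgroup G) P) P ε m := ⟨h.hyp, h.par.le, h.m3, rfl⟩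

theorem nc_of (h : Pos S P ε) : TLEnd.Nc ε := by
  have h9 : 9 ≤ 2 ^ m + 1 := (sy_of h).nine
  have hD : D4 (⟨0, by omega⟩ : Fin (2 ^ m + 1)) ⟨1, by omega⟩ ⟨2, by omega⟩ ⟨3, by omega⟩ := by
    refine ⟨?_, ?_, ?_, ?_, ?_, ?_⟩ <;>
      · intro e
        have := congrArg Fin.val e
        simp at this
  have h1 := h.nc _ _ _ _ hD
  push Not at h1
  obtain ⟨u, hu, y, hy, hne⟩ := h1
  exact ⟨_, _, _, _, hD, u, hu, y, hy, hne⟩

/-- the input of `LemTwo` -/
theorem in_of (h : Pos S P ε) (hij : i ≠ j) (hsw : ∃ a ∈ (S : Subgroup G), Acts ε a (Equiv.swap i j)) :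
    In S (zl (S : Subgroup G) P) P ε i j :=
  LemTwo.In.of h.hyp (by have := h.m3; omega) h.par.le h.fix0 hij hsw fun _ hg hx =>
    (sy_of h).norm_le (nc_of h) hij hg hx

/-! ### Two more pairs -/

section pairs

variable {V : Subgroup G} (h : In S V P ε i j)
include h

theorem mate {k l : Fin (2 ^ m + 1)} (hki : k ≠ i) (hkj : k ≠ j)
    (hb : ∃ b ∈ (S : Subgroup G), Acts ε b (Equiv.swap k l)) : l ≠ i ∧ l ≠ j := by
  obtain ⟨b, hbS, hb⟩ := hb
  constructor
  · rintro rfl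
    -- `b` fixes `j`, so `i`
    have hc := h.cosetHyp' h.ij.symm (by obtain ⟨a, ha, h1⟩ := h.swap; exact ⟨a, ha, by rwa [Equiv.swap_comm]⟩)
    have h2 := hc.fix_j hbS hb (Equiv.swap_apply_of_ne_of_ne hkj.symm h.ij.symm)
    rw [Equiv.swap_apply_right] at h2
    exact hki h2
  · rintro rfl
    have h2 := h.cosetHyp.fix_j hbS hb (Equiv.swap_apply_of_ne_of_ne hki.symm h.ij)
    rw [Equiv.swap_apply_right] at h2
    exact hkj h2

/-- the pair of a label -/
theorem exists_mate {k : Fin (2 ^ m + 1)} (hk0 : k ≠ 0) :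
    ∃ l, k ≠ l ∧ l ≠ 0 ∧ ∃ b ∈ (S : Subgroup G), Acts ε b (Equiv.swap k l) := by
  obtain ⟨s, hs, σ, hσ, h1⟩ := S5.Syl.trans (by have := h.hm; omega) h.hyp.ev h.SP
    (MinSimple.Basic.not_dvd_relIndex S h.SP) h.fix0 h.cosetHyp.i_ne_zero hk0
  obtain ⟨a, ha, hsw⟩ := h.swap
  have hj0 : j ≠ 0 := by
    have hc := h.cosetHyp' h.ij.symm ⟨a, ha, by rwa [Equiv.swap_comm]⟩
    exact hc.i_ne_zero
  refine ⟨σ j, ?_, ?_, s * a * s⁻¹, mul_mem (mul_mem hs ha) (inv_mem hs), ?_⟩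
  · rw [← h1]; exact σ.injective.ne h.ij
  · rw [← h.fix0 s hs σ hσ]
    exact σ.injective.ne hj0
  · have h3 := hσ.conj hsw
    rwa [← Equiv.swap_apply_apply, h1] at h3

/-- **two disjoint pairs off `{i, j}` induced by `S`** -/
theorem two_pairs (hm : 3 ≤ m) : ∃ k l k' l' : Fin (2 ^ m + 1), D4 i j k l ∧ D4 i j k' l' ∧ D4 k l k' l' ∧
    (∃ b ∈ (S : Subgroup G), Acts ε b (Equiv.swap k l)) ∧
    ∃ b ∈ (S : Subgroup G), Acts ε b (Equiv.swap k' l') := by
  classical
  have h9 : 9 ≤ 2 ^ m + 1 := by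
    have h1 : 2 ^ 3 ≤ 2 ^ m := Nat.pow_le_pow_right (by norm_num) hm
    omega
  have hex : ∀ s : Finset (Fin (2 ^ m + 1)), s.card ≤ 5 → ∃ k, k ∉ s := by
    intro s hs
    by_contra hcon
    push Not at hcon
    have h1 : (Finset.univ : Finset (Fin (2 ^ m + 1))) ⊆ s := fun k _ => hcon k
    have h2 := Finset.card_le_card h1
    rw [Finset.card_univ, Fintype.card_fin] at h2
    omega
  obtain ⟨k, hk⟩ := hex {0, i, j} (Finset.card_le_three.trans (by norm_num))
  simp only [Finset.mem_insert, Finset.mem_singleton, not_or] at hk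
  obtain ⟨hk0, hki, hkj⟩ := hk
  obtain ⟨l, hkl, hl0, hb⟩ := exists_mate h hk0
  obtain ⟨hli, hlj⟩ := mate h hki hkj hb
  obtain ⟨k', hk'⟩ := hex {0, i, j, k, l} Finset.card_le_five
  simp only [Finset.mem_insert, Finset.mem_singleton, not_or] at hk'
  obtain ⟨hk0', hki', hkj', hkk, hkl0⟩ := hk'
  obtain ⟨l', hkl', hl0', hb'⟩ := exists_mate h hk0'
  obtain ⟨hli', hlj'⟩ := mate h hki' hkj' hb'
  have hlk : l' ≠ k ∧ l' ≠ l := by
    obtain ⟨b', hbS', hb2⟩ := hb'
    constructor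
    · rintro rfl
      have hc := h.cosetHyp' hkl.symm (by obtain ⟨a, ha, h1⟩ := hb; exact ⟨a, ha, by rwa [Equiv.swap_comm]⟩)
      have h2 := hc.fix_j hbS' hb2 (Equiv.swap_apply_of_ne_of_ne (Ne.symm hkl0) hkl.symm)
      rw [Equiv.swap_apply_right] at h2
      exact hkk h2
    · rintro rfl
      have h2 := (h.cosetHyp' hkl hb).fix_j hbS' hb2 (Equiv.swap_apply_of_ne_of_ne (Ne.symm hkk) hkl)
      rw [Equiv.swap_apply_right] at h2
      exact hkl0 h2
  exact ⟨k, l, k', l', ⟨h.ij, Ne.symm hki, hli.symm, Ne.symm hkj, hlj.symm, hkl⟩,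
    ⟨h.ij, Ne.symm hki', hli'.symm, Ne.symm hkj', hlj'.symm, hkl'⟩,
    ⟨hkl, Ne.symm hkk, hlk.1.symm, Ne.symm hkl0, hlk.2.symm, hkl'⟩, hb, hb'⟩

end pairs

/-! ### (2) and (5)-(7) -/

theorem NN_ne_top (hG : Ctx G) (h : Pos S P ε) (hij : i ≠ j) : NN ε i j ≠ ⊤ := by
  intro h0
  have hn : 3 ≤ 2 ^ m + 1 := by have := h.hyp.n5; omega
  have hr := rr_ne_one h.hyp.ev hn hij
  have hs := hG.simple
  have hc : rr ε i j ∈ center G := by
    rw [mem_center_iff]
    intro g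
    exact mem_NN.1 (h0 ▸ mem_top g : g ∈ NN ε i j)
  rcases hs.eq_bot_or_eq_top_of_normal (center G) inferInstance with h1 | h1
  · rw [h1, mem_bot] at hc
    exact hr hc
  · exact hG.nonComm ⟨⟨fun a b => mem_center_iff.1 (h1 ▸ mem_top b : b ∈ center G) a⟩⟩

/-- **(2)**: `U_ab` centralises `W` or is an offender on `W` -/
theorem off_of (hML : ML.Final.MLK.{u, u}) (hG : Ctx G) (h : Pos S P ε)
    (hI : In S (zl (S : Subgroup G) P) P ε i j) {a b : Fin (2 ^ m + 1)} (hD : D4 i j a b) {W : Subgroup G}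
    (hW : W ≤ UU ε i j) : UU ε a b ≤ centralizer (W : Set G) ∨ FFThm.OffM W (UU ε a b) := by
  obtain ⟨T, hTi, hTk, hT2, hTo⟩ := Off.exists_syl hI.hm h.hyp hI.ij (inf_le_left.trans hI.SP) inf_le_right
    hI.T_two hI.not_dvd hD
  exact Off.offM h.hyp hML (hG.kproper _ (NN_ne_top hG h hI.ij)) hD hTi hTk hT2 hTo hW

/-- **(5)-(7)** -/
theorem lab_of (h : Pos S P ε) (hI : In S (zl (S : Subgroup G) P) P ε i j) {W R : Subgroup G}
    (hTR : (S : Subgroup G) ⊓ NN ε i j ≤ R) (hNO : FFThm.NoOverM W R) (hW : W ≤ UU ε i j)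
    (hU : ∀ a b, D4 i j a b → UU ε a b ≤ centralizer (W : Set G)) : ∀ y ∈ W, ∃ x, y = ε x := by
  obtain ⟨w, F⟩ := h.hyp.exists_fr
  obtain ⟨k, l, k', l', hp, hq, hpq, hb, hb'⟩ := two_pairs hI h.m3
  refine Star.main F h.hyp.thC (fun {_ _ _ _} hD y hy hc => Hyp.mem_Q h.hyp hD hy hc) hp hq hpq (R := R)
    (fun y hy => ⟨hW hy, fun a b hD x hx => ?_⟩) hNO
    (fun c hc _ => hTR (hI.W2_le_T' hp.kl hp.ik.symm hp.jk.symm hp.il.symm hp.jl.symm hb hc))
    (fun c hc _ => hTR (hI.W2_le_T' hq.kl hq.ik.symm hq.jk.symm hq.il.symm hq.jl.symm hb' hc))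
  exact mem_centralizer_iff.1 (hU a b hD hx) y hy

/-! ### The assembly -/

/-- **(1)-(7) of #18323** from (ML) and the FF theorem -/
theorem steps_of {K : Cls.{u}} (hML : ML.Final.MLK.{u, u}) (hFF : FFThm.StmtM.{u}) : Steps K := by
  intro G _ _ hG hK S P m ε h i j hij hsw
  have hI := in_of h hij hsw
  refine ⟨hI.not_dvd, hI.norm_T_le, fun R hR hRN => ?_⟩
  by_contra hcon
  rw [not_or] at hcon
  obtain ⟨hRL, hRz⟩ := hcon
  obtain ⟨hW, hU, hX, hNO, -⟩ := StepFour.main hFF h.c2 h.par hI hR hRN hRL hRz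
    fun W hW a b hD => off_of hML hG h hI hD hW
  refine hX fun x hx => mem_centralizer_iff.2 fun y hy => ?_
  obtain ⟨v, rfl⟩ := lab_of h hI hR.le hNO hW hU y hy
  exact (mem_KK'.1 (LemTwo.XX_le_KK h.hyp hx) v).symm

/-- **(H2) of N6** from (ML), the FF theorem and THEOREM SN -/
theorem symH2 {K : Cls.{u}} (hML : ML.Final.MLK.{u, u}) (hFF : FFThm.StmtM.{u}) (h2 : NO3S.SN.Two K) :
    S5.SymBig.SymH2 K :=
  Main.symH2_of (steps_of hML hFF) h2

/-- **the leaf II.c** -/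
theorem symBig {K : Cls.{u}} (hML : ML.Final.MLK.{u, u}) (hFF : FFThm.StmtM.{u}) (h2 : NO3S.SN.Two K) :
    S5.Main.SymBig K :=
  Main.symBig (steps_of hML hFF) h2

end Cfsg.Agent.Omega.NSix.HTwo.StepC

end

-- merged: Cfsg.Agent.Mrg.Omega.NSix.CaseJ.PBlock
section

section


/-!
# OMEGA N6, case `J(S) ≰ O₂(P)`: FF-blocks over `B = bau S` lie in `N_G(V)`

`hp : PB (bau S) L W W1 W0 q` is an FF-block over `B` (arbitrary `q`, arbitrary extension of the natural module by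
a trivial one), some involution `d i₀` of a pair commutes with `L`:

* `W_le_Q` : `W ≤ O₂(P)`;
* `W_le_V_two` (`q = 2`, LEMMA Q), `W_le_V_big` (`q > 2`, exact offenders);
* `q_eq_two`;
* `L_le` : `L ≤ N_G(V)` (LEMMA K and LEMMA N).
-/

set_option autoImplicit false
set_option linter.unusedSectionVars false

namespace Cfsg.Agent.Omega.NSix.CaseJ.PBlock

open Subgroup Cfsg Cfsg.Agent.PLocal.ThompsonJ Cfsg.Agent.ZN Cfsg.Agent.ZN.ChoiceBase
open Cfsg.Agent.ZN.ChoiceSit Cfsg.Agent.PLocal.ElemAbSup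
open Cfsg.Agent.Omega.MinPar
open Cfsg.Agent.Omega.S5.Def Cfsg.Agent.Omega.S5.Syl Cfsg.Agent.Omega.S5.Pair
open Cfsg.Agent.Omega.NSix.Base Cfsg.Agent.Omega.NSix.Basic
open Cfsg.Agent.Omega.SQ1.Bau (elem_comm elem_sq mem_sup_comm card_sup_comm Mv)
open Cfsg.Agent.Omega.LemmaK (Block WeakNormal)
open Cfsg.Agent.Omega.OM (PB)
open Cfsg.Agent.Omega.NSix.CaseJ.Base Cfsg.Agent.Omega.NSix.CaseJ.Exact
open Cfsg.Agent.Omega.NSix.CaseJ.LemQ Cfsg.Agent.Omega.NSix.CaseJ.Blk Cfsg.Agent.Omega.NSix.CaseJ.Norm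
open Cfsg.Agent.Omega.NSix.CaseJ.Fus

universe u

variable {G : Type u} [Group G] [Finite G] {S : Sylow 2 G} {P : Subgroup G} {m : ℕ}
  {ε : (Fin (2 ^ m + 1) → ZMod 2) → G} {ι : Type} {X Y : ι → Fin (2 ^ m + 1)} {N : ι → Subgroup G}
  {t r : ι → G} {L W W1 W0 : Subgroup G} {q : ℕ}

theorem weak (S : Sylow 2 G) : WeakNormal 2 (bau (S : Subgroup G)) := fun _ hR hBR =>
  LemmaK.Main.le_normalizer_bau S hR hBR

/-! ### General facts -/

theorem W1_le (hp : PB (bau (S : Subgroup G)) L W W1 W0 q) : W1 ≤ zj (S : Subgroup G) := by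
  intro n hn
  rw [← ChoiceBase.zc_bau, ChoiceBase.mem_zc]
  have h1 := hp.N1N hn
  exact ⟨hp.NB h1, elem_sq hp.el n h1, fun b hb => hp.N1c b hb n hn⟩

theorem W1_le_V (h : Hyp S P ε) (hp : PB (bau (S : Subgroup G)) L W W1 W0 q) :
    W1 ≤ zl (S : Subgroup G) P := (W1_le hp).trans (LemQ.zj_le h)

theorem W0_le_V (h : Hyp S P ε) (hp : PB (bau (S : Subgroup G)) L W W1 W0 q) :
    W0 ≤ zl (S : Subgroup G) P := hp.N01.trans (W1_le_V h hp)

/-- The elements of `W1` commuting with `L` lie in `W0`. -/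
theorem mem_W0 (hp : PB (bau (S : Subgroup G)) L W W1 W0 q) {z : G} (hz : z ∈ W1)
    (hc : ∀ l ∈ L, l * z = z * l) : z ∈ W0 := by
  obtain ⟨l, hl, hm⟩ := hp.mv
  have e : l * z * l⁻¹ = z := by rw [hc l hl]; group
  have := hp.opp l hl hm z hz (by rw [e]; exact hz)
  rwa [e] at this

/-- The block of a pair as a `PB`. -/
theorem pb_i (hd : Dat S P ε X Y N t r) {i : ι} {L : Subgroup G} (k : Bk S P ε X Y r i L) :
    PB (bau (S : Subgroup G)) L (N i) (zpowers (rr ε (X i) (Y i))) ⊥ 2 :=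
  OM.FBS.pb hd.bas (weak S) k

theorem comm_i (hd : Dat S P ε X Y N t r) {i : ι} {L : Subgroup G} (k : Bk S P ε X Y r i L) :
    ⁅N i, L⁆ = N i := OM.FBS.comm_eq hd.bas (weak S) k

/-- **LEMMA K** for two FF-blocks over conjugates of `B` commuting with a common involution. -/
theorem comm_pb (h : Hyp S P ε) {L' W' W1' W0' : Subgroup G} {q' : ℕ}
    (hp : PB (bau (S : Subgroup G)) L W W1 W0 q) (hp' : PB (bau (S : Subgroup G)) L' W' W1' W0' q')
    {x y w : G} (hw1 : w ≠ 1) (hw2 : w * w = 1)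
    (hx : ∀ l ∈ L, (x * l * x⁻¹) * w = w * (x * l * x⁻¹))
    (hy : ∀ l ∈ L', (y * l * y⁻¹) * w = w * (y * l * y⁻¹)) {a b : G}
    (ha : a ∈ (⁅W, L⁆ : Subgroup G)) (hb : b ∈ (⁅W', L'⁆ : Subgroup G)) :
    (x * a * x⁻¹) * (y * b * y⁻¹) = (y * b * y⁻¹) * (x * a * x⁻¹) := by
  have b1 := OM.BlkGen.block_conj (hp.block (weak S)) x
  have b2 := OM.BlkGen.block_conj (hp'.block (weak S)) y
  have key : ∀ (x : G) (L : Subgroup G), (∀ l ∈ L, (x * l * x⁻¹) * w = w * (x * l * x⁻¹)) →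
      cj x L ≤ normalizer (zpowers w : Set G) := by
    intro x L hx
    rintro _ ⟨l, hl, rfl⟩
    refine mem_normalizer_of_cj_le ?_
    rintro _ ⟨v, hv, rfl⟩
    have h1 := hx l hl
    change (x * l * x⁻¹) * v * (x * l * x⁻¹)⁻¹ ∈ _
    rcases mem_zp hw2 hv with rfl | rfl
    · have e : (x * l * x⁻¹) * 1 * (x * l * x⁻¹)⁻¹ = 1 := by group
      rw [e]; exact one_mem _
    · rw [h1, mul_inv_cancel_right]; exact mem_zpowers _
  have h1 := b1.commutator_eq_bot_of_local h.hG b2 (U := zpowers w)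
    (isPGroup_of_isElementaryAbelian (zp_elem hw2)) (by rwa [Ne, zpowers_eq_bot]) (key x L hx)
    (key y L' hy)
  rw [commutator_eq_bot_iff_le_centralizer] at h1
  exact (mem_centralizer_iff.1 (h1 ⟨a, ha, rfl⟩) _ ⟨b, hb, rfl⟩).symm

/-! ### Step 1: `W ≤ O₂(P)` -/

theorem W_le_Q (h : Hyp S P ε) (hd : Dat S P ε X Y N t r) (hp : PB (bau (S : Subgroup G)) L W W1 W0 q)
    {i₀ : ι} (hc : ∀ l ∈ L, l * rr ε (X i₀) (Y i₀) = rr ε (X i₀) (Y i₀) * l) : W ≤ o2 P := by
  choose Li hLi using fun i => hd.bas.exists_blk i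
  intro w hw
  have hwB := hp.NB hw
  refine h.cS (ChoiceBase.bau_le _ hwB) ?_
  have key : ∀ i, ∀ v ∈ N i, w * v = v * w := by
    intro i v hv
    by_cases hi : i = i₀
    · subst hi
      by_contra hne
      have hvV := hd.bas.NV i hv
      have h1 : w * v * w⁻¹ = rr ε (X i) (Y i) * v := by
        rcases bau_N hd hwB hv with h1 | h1
        · exact absurd (comm_of_conj h1) hne
        · exact h1
      have h2 : v * w * v⁻¹ * w⁻¹ = rr ε (X i) (Y i) := by
        have h3 : w * v⁻¹ * w⁻¹ = v⁻¹ * rr ε (X i) (Y i) := by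
          have h4 : w * v⁻¹ * w⁻¹ = (w * v * w⁻¹)⁻¹ := by group
          rw [h4, h1, mul_inv_rev, rr_inv h.ev]
        calc v * w * v⁻¹ * w⁻¹ = v * (w * v⁻¹ * w⁻¹) := by group
          _ = rr ε (X i) (Y i) := by rw [h3]; group
      have hvB := VB h hvV
      have h3 := hp.quad v hvB w hw
      rw [h2] at h3
      have h4 : v * w * v⁻¹ * w⁻¹ ∈ W0 := by rw [h2]; exact mem_W0 hp h3 hc
      have h5 := hp.cent v hvB ⟨w, hw, fun e => hne e.symm⟩ w hw h4
      exact hne (hp.N1c v hvB w h5).symm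
    · obtain ⟨u, hu, n, hn, rfl⟩ := hp.exists_V hw
      have hvV := hd.bas.NV i hv
      have h1 := comm_pb h hp (pb_i hd (hLi i)) (x := 1) (y := 1)
        (rr_ne_one h.ev h.three (hd.ne i₀)) (rr_sq h.ev _ _)
        (fun l hl => by
          have := hc l hl
          rw [inv_one, mul_one, one_mul]; exact this)
        (fun l hl => by
          have := LemmaK.OfIn.cent_d (hLi i) hd.bas hi l hl
          rw [inv_one, mul_one, one_mul]; exact this) hu
        (by rw [comm_i hd (hLi i)]; exact hv)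
      simp only [inv_one, mul_one, one_mul] at h1
      have h2 : n * v = v * n := h.ev.comm_mem (W0_le_V h hp hn) hvV
      calc u * n * v = u * (v * n) := by rw [mul_assoc, h2]
        _ = v * u * n := by rw [← mul_assoc, h1]
        _ = v * (u * n) := mul_assoc _ _ _
  have h1 : (⨆ i, N i) ≤ centralizer ({w} : Set G) := iSup_le fun i v hv =>
    mem_centralizer_singleton_iff.2 (key i v hv).symm
  intro v hv
  exact (mem_centralizer_singleton_iff.1 (h1 (V_le_iSup h hd hv))).symm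

/-! ### Step 2, `q = 2` -/

theorem W_le_V_two (h : Hyp S P ε) (hp : PB (bau (S : Subgroup G)) L W W1 W0 2) (hWQ : W ≤ o2 P) :
    W ≤ zl (S : Subgroup G) P := by
  intro u hu
  by_cases hu1 : u ∈ W1
  · exact W1_le_V h hp hu1
  have huu : u * u = 1 := by
    have := elem_sq hp.el u hu
    rwa [pow_two] at this
  by_cases hs : ∀ s ∈ o2 P, s * u = u * s
  · exact oz h (hWQ hu) huu hs
  push Not at hs
  obtain ⟨s₀, hs₀, hne⟩ := hs
  have hB : ∀ {s : G}, s ∈ o2 P → s ∈ bau (S : Subgroup G) := fun hs => QB h hs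
  have hzW := hp.quad s₀ (hB hs₀) u hu
  refine LemQ.mem h (v := s₀ * u * s₀⁻¹ * u⁻¹) (hWQ hu) huu (W1_le_V h hp hzW) ?_ fun s hs => ?_
  · intro e
    apply hne
    calc s₀ * u = (s₀ * u * s₀⁻¹ * u⁻¹) * u * s₀ := by group
      _ = u * s₀ := by rw [e, one_mul]
  · by_cases hsW : ∀ v ∈ W, s * v = v * s
    · left; rw [hsW u hu]; group
    · right
      have h2 : (bau (S : Subgroup G) ⊓ centralizer (W : Set G)).relIndex (bau (S : Subgroup G)) = 2 := by
        have h3 := CosetAct.Hyp.card_mul_relIndex' (H := bau (S : Subgroup G) ⊓ centralizer (W : Set G))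
          (K := bau (S : Subgroup G)) inf_le_left
        rw [hp.cardB] at h3
        exact Nat.eq_of_mul_eq_mul_left Nat.card_pos h3
      have hmem : ∀ {s : G}, (hs : s ∈ bau (S : Subgroup G)) →
          ((⟨s, hs⟩ : bau (S : Subgroup G)) ∈
            (bau (S : Subgroup G) ⊓ centralizer (W : Set G)).subgroupOf (bau (S : Subgroup G)) ↔
            ∀ v ∈ W, s * v = v * s) := by
        intro s hs
        rw [mem_subgroupOf, mem_inf, mem_centralizer_iff]
        exact ⟨fun h0 v hv => (h0.2 v hv).symm, fun h0 => ⟨hs, fun v hv => (h0 v hv).symm⟩⟩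
      have h3 : (⟨s₀⁻¹, inv_mem (hB hs₀)⟩ * ⟨s, hB hs⟩ : bau (S : Subgroup G)) ∈
          (bau (S : Subgroup G) ⊓ centralizer (W : Set G)).subgroupOf (bau (S : Subgroup G)) := by
        rw [Subgroup.mul_mem_iff_of_index_two h2]
        constructor
        · intro h0
          exfalso
          have h4 := (hmem _).1 h0 u hu
          apply hne
          calc s₀ * u = s₀ * (u * s₀⁻¹) * s₀ := by group
            _ = s₀ * (s₀⁻¹ * u) * s₀ := by rw [h4]
            _ = u * s₀ := by group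
        · intro h0
          exact absurd ((hmem _).1 h0) hsW
      have h4 := (hmem (mul_mem (inv_mem (hB hs₀)) (hB hs))).1 h3 u hu
      calc s * u * s⁻¹ = s₀ * ((s₀⁻¹ * s) * u) * (s₀⁻¹ * s)⁻¹ * s₀⁻¹ := by group
        _ = s₀ * (u * (s₀⁻¹ * s)) * (s₀⁻¹ * s)⁻¹ * s₀⁻¹ := by rw [h4]
        _ = s₀ * u * s₀⁻¹ * u⁻¹ * u := by group

/-! ### Step 3: `q = 2` -/

theorem q_eq_two (h : Hyp S P ε) (hd : Dat S P ε X Y N t r)
    (hp : PB (bau (S : Subgroup G)) L W W1 W0 q) (hWV : W ≤ zl (S : Subgroup G) P) : q = 2 := by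
  have hex : ∃ i, ∃ v ∈ W, t i * v ≠ v * t i := by
    by_contra hcon
    push Not at hcon
    obtain ⟨b, hb, v, hv, hne⟩ := hp.exists_b
    have h1 : SQ1.BauS.In.EE t (o2 P) ≤ centralizer ({v} : Set G) := by
      refine sup_le ?_ fun x hx => ?_
      · rw [closure_le]
        rintro _ ⟨i, rfl⟩
        exact mem_centralizer_singleton_iff.2 (hcon i v hv)
      · exact mem_centralizer_singleton_iff.2 (h.VcQ hx (hWV hv))
    exact hne (mem_centralizer_singleton_iff.1 (h1 (hd.bas.bau_EE hb)))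
  obtain ⟨i, v, hv, hne⟩ := hex
  have hti := hd.bas.t_bau i
  have hv1 : v ∉ W1 := fun h1 => hne (hp.N1c _ hti v h1)
  have hmv : ∀ y ∈ W, y ∉ W1 → t i * y * (t i)⁻¹ = rr ε (X i) (Y i) * y := by
    intro y hy hy1
    rcases hd.bas.t_comm i y (hWV hy) with h1 | h1
    · exfalso
      apply hy1
      refine hp.cent (t i) hti ⟨v, hv, hne⟩ y hy ?_
      rw [h1, mul_inv_cancel]
      exact one_mem _
    · exact h1
  have h1 : Nat.card W ≤ 2 * Nat.card W1 := by
    refine card_le_two (c := v) fun y hy hy1 => ?_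
    refine hp.cent (t i) hti ⟨v, hv, hne⟩ _ (mul_mem (inv_mem hv) hy) ?_
    have e : t i * (v⁻¹ * y) * (t i)⁻¹ * (v⁻¹ * y)⁻¹ =
        (t i * v * (t i)⁻¹)⁻¹ * (t i * y * (t i)⁻¹) * (v⁻¹ * y)⁻¹ := by group
    rw [e, hmv v hv hv1, hmv y hy hy1]
    have e2 : (rr ε (X i) (Y i) * v)⁻¹ * (rr ε (X i) (Y i) * y) * (v⁻¹ * y)⁻¹ = 1 := by group
    rw [e2]
    exact one_mem _
  have h2 := hp.card
  rw [h2, mul_comm] at h1
  have h3 := Nat.le_of_mul_le_mul_right h1 Nat.card_pos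
  have h4 := hp.one
  omega

/-! ### Step 4: `L ≤ N_G(V)` -/

theorem card_HH_pb (hp : PB (bau (S : Subgroup G)) L W W1 W0 2) :
    Nat.card (zj (S : Subgroup G)) ≤ 2 * Nat.card (HH S L) := by
  by_cases hle : zj (S : Subgroup G) ≤ HH S L
  · have := Subgroup.card_le_of_le hle
    omega
  obtain ⟨c, hcZ, hcH⟩ := Set.not_subset.1 hle
  replace hcZ : c ∈ zj (S : Subgroup G) := hcZ
  have hsplit : ∀ z ∈ zj (S : Subgroup G), z ∉ HH S L → ∃ z' ∈ HH S L, ∃ n ∈ W1, n ∉ W0 ∧ z = z' * n := by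
    intro z hz hzH
    rw [← ChoiceBase.zc_bau] at hz
    obtain ⟨z', hz', hz'L, n, hn, e⟩ := hp.Z_split hz
    have hz'H : z' ∈ HH S L := mem_HH.2 ⟨by rw [← ChoiceBase.zc_bau]; exact hz', hz'L⟩
    refine ⟨z', hz'H, n, hn, fun hn0 => hzH ?_, e⟩
    rw [e]
    exact mul_mem hz'H (mem_HH.2 ⟨W1_le hp hn, fun l hl => hp.N0c l hl n hn0⟩)
  refine card_le_two (c := c) fun y hy hyH => ?_
  obtain ⟨c', hc', n, hn, hn0, ec⟩ := hsplit c hcZ hcH
  obtain ⟨y', hy', n', hn', hn0', ey⟩ := hsplit y hy hyH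
  -- `n⁻¹ n' ∈ W0`
  have h1 : n⁻¹ * n' ∈ W0 := by
    by_contra hnn
    have h2 : 2 * Nat.card W0 < Nat.card W1 ∨ n⁻¹ * n' ∈ W0 := by
      right
      have h3 : W0.relIndex W1 = 2 := by
        have h4 := CosetAct.Hyp.card_mul_relIndex' hp.N01
        rw [hp.card1] at h4
        exact Nat.eq_of_mul_eq_mul_left Nat.card_pos h4
      have h4 : (⟨n⁻¹, inv_mem hn⟩ * ⟨n', hn'⟩ : W1) ∈ W0.subgroupOf W1 := by
        rw [Subgroup.mul_mem_iff_of_index_two h3, mem_subgroupOf, mem_subgroupOf]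
        exact ⟨fun h0 => absurd ((inv_mem_iff).1 h0) hn0, fun h0 => absurd h0 hn0'⟩
      exact h4
    rcases h2 with h2 | h2
    · rw [hp.card1] at h2; omega
    · exact hnn h2
  have hnZ := W1_le hp hn
  have e : c⁻¹ * y = (c'⁻¹ * y') * (n⁻¹ * n') := by
    rw [ec, ey, mul_inv_rev]
    have h2 := zj_comm (inv_mem hnZ) (mul_mem (inv_mem (mem_HH.1 hc').1) (mem_HH.1 hy').1)
    calc n⁻¹ * c'⁻¹ * (y' * n') = (n⁻¹ * (c'⁻¹ * y')) * n' := by group
      _ = ((c'⁻¹ * y') * n⁻¹) * n' := by rw [h2]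
      _ = _ := by group
  rw [e]
  exact mul_mem (mul_mem (inv_mem hc') hy') (mem_HH.2 ⟨W1_le hp (hp.N01 h1), fun l hl => hp.N0c l hl _ h1⟩)

theorem L_le_of_V (h : Hyp S P ε) (h3 : 3 ≤ m) (hd : Dat S P ε X Y N t r)
    (hp : PB (bau (S : Subgroup G)) L W W1 W0 2) (hWV : W ≤ zl (S : Subgroup G) P) :
    L ≤ normalizer (zl (S : Subgroup G) P : Set G) := by
  choose Li hLi using fun i => hd.bas.exists_blk i
  intro g hg
  -- `R = C_B(W)`
  have hR : ∀ x ∈ bau (S : Subgroup G), (∀ v ∈ W, x * v = v * x) → ∀ l ∈ L,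
      l * x * l⁻¹ ∈ bau (S : Subgroup G) ∧ ∀ v ∈ W, (l * x * l⁻¹) * v = v * (l * x * l⁻¹) := by
    intro x hx hxW l hl
    refine ⟨hp.cor l hl x hx hxW, fun v hv => ?_⟩
    have h1 : l⁻¹ * v * l ∈ W := by
      have := hp.Nn l⁻¹ (inv_mem hl) v hv
      rwa [inv_inv] at this
    have h2 := hxW _ h1
    calc l * x * l⁻¹ * v = l * (x * (l⁻¹ * v * l)) * l⁻¹ := by group
      _ = l * ((l⁻¹ * v * l) * x) * l⁻¹ := by rw [h2]
      _ = v * (l * x * l⁻¹) := by group
  have hVR : ∀ v ∈ zl (S : Subgroup G) P, ∀ w ∈ W, v * w = w * v := fun v hv w hw =>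
    h.ev.comm_mem hv (hWV hw)
  have hVgB : ∀ v ∈ zl (S : Subgroup G) P, g * v * g⁻¹ ∈ bau (S : Subgroup G) := fun v hv =>
    (hR v (VB h hv) (hVR v hv) g hg).1
  -- the modules commute
  have hcomm : ∀ a ∈ zl (S : Subgroup G) P, ∀ b ∈ zl (S : Subgroup G) P,
      (1 * a * 1⁻¹) * (g * b * g⁻¹) = (g * b * g⁻¹) * (1 * a * 1⁻¹) := by
    intro a ha b hb
    refine comm_all h hd (fun i j a ha b hb => ?_) ha hb
    obtain ⟨y, ⟨⟨hy1, hy2⟩, hy3⟩, hy⟩ := exists_three h hd h3 (A := HH S L) (B := HH S (Li i))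
      (C := HH S (Li j)) inf_le_left inf_le_left inf_le_left (card_HH_pb hp) (card_HH h hd (hLi i))
      (card_HH h hd (hLi j))
    have hy1' := mem_HH.1 hy1
    have hy2' := mem_HH.1 hy2
    have hy3' := mem_HH.1 hy3
    have hyy : y * y = 1 := h.ev.sq_mem (LemQ.zj_le h hy1'.1)
    refine comm_conj h hd (hLi i) (hLi j) hy hyy (fun l hl => ?_) (fun l hl => ?_) ha hb
    · have := hy2'.2 l hl
      calc 1 * l * 1⁻¹ * y = l * y := by group
        _ = y * l := this
        _ = y * (1 * l * 1⁻¹) := by group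
    · have h1 := hy3'.2 l hl
      have h2 := hy1'.2 g hg
      have h4 : g⁻¹ * y = y * g⁻¹ := by
        calc g⁻¹ * y = g⁻¹ * (y * g) * g⁻¹ := by group
          _ = g⁻¹ * (g * y) * g⁻¹ := by rw [h2]
          _ = y * g⁻¹ := by group
      calc g * l * g⁻¹ * y = g * l * (g⁻¹ * y) := by group
        _ = g * (l * y) * g⁻¹ := by rw [h4]; group
        _ = (g * y) * l * g⁻¹ := by rw [h1]; group
        _ = y * (g * l * g⁻¹) := by rw [h2]; group
  refine LemN.main h (fun v hv => ?_) fun s hs v hv => ?_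
  · refine h.cS (ChoiceBase.bau_le _ (hVgB v hv)) fun w hw => ?_
    have h1 := hcomm w hw v hv
    have e : (1 : G) * w * 1⁻¹ = w := by group
    rw [e] at h1
    exact h1.symm
  · -- `Q ≤ R^g`
    have hsW : ∀ w ∈ W, s * w = w * s := fun w hw => h.VcQ hs (hWV hw)
    have h1 := hR s (QB h hs) hsW g⁻¹ (inv_mem hg)
    rw [inv_inv] at h1
    have h2 : g⁻¹ * s * g ∈ P := h.SP (ChoiceBase.bau_le _ h1.1)
    have h4 := h.Vn h2 hv
    rw [mem_cj]
    have e : g⁻¹ * (s * (g * v * g⁻¹) * s⁻¹) * g = (g⁻¹ * s * g) * v * (g⁻¹ * s * g)⁻¹ := by group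
    rw [e]
    exact h4

end Cfsg.Agent.Omega.NSix.CaseJ.PBlock

end

section


/-!
# OMEGA N6, case `J(S) ≰ O₂(P)`: FF-blocks over `B = bau S` with `q > 2`

`hp : PB (bau S) L W W1 W0 q`, `q > 2`, `W ≤ O₂(P)`, `L` commutes with some `d i₀`.

* `exists_tor` : some `h₀ ∈ N_L(B)` moves `Z_J`; it permutes the pairs;
* `exists_pp` : pairs `p ≠ p'` such that the transposition `(X p, X p')` centralises `C_{Z_J}(L)`, but not `W1`;
* `conj_mem` : for an exact offender for this transposition `W^a ≤ V W`;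
* `W_le_V_big` : `W ≤ V`.
-/

set_option autoImplicit false
set_option linter.unusedSectionVars false

namespace Cfsg.Agent.Omega.NSix.CaseJ.PBlock

open Subgroup Cfsg Cfsg.Agent.PLocal.ThompsonJ Cfsg.Agent.ZN Cfsg.Agent.ZN.ChoiceBase
open Cfsg.Agent.ZN.ChoiceSit Cfsg.Agent.PLocal.ElemAbSup
open Cfsg.Agent.Omega.MinPar
open Cfsg.Agent.Omega.S5.Def Cfsg.Agent.Omega.S5.Syl Cfsg.Agent.Omega.S5.Pair
open Cfsg.Agent.Omega.NSix.Base Cfsg.Agent.Omega.NSix.Basic
open Cfsg.Agent.Omega.SQ1.Bau (elem_comm elem_sq mem_sup_comm card_sup_comm Mv)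
open Cfsg.Agent.Omega.LemmaK (Block WeakNormal)
open Cfsg.Agent.Omega.OM (PB)
open Cfsg.Agent.Omega.NSix.CaseJ.Base Cfsg.Agent.Omega.NSix.CaseJ.Exact
open Cfsg.Agent.Omega.NSix.CaseJ.LemQ Cfsg.Agent.Omega.NSix.CaseJ.Blk Cfsg.Agent.Omega.NSix.CaseJ.Norm
open Cfsg.Agent.Omega.NSix.CaseJ.Fus

universe u

variable {G : Type u} [Group G] [Finite G] {S : Sylow 2 G} {P : Subgroup G} {m : ℕ}
  {ε : (Fin (2 ^ m + 1) → ZMod 2) → G} {ι : Type} {X Y : ι → Fin (2 ^ m + 1)} {N : ι → Subgroup G}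
  {t r : ι → G} {L W W1 W0 : Subgroup G} {q : ℕ}

/-! ### Coordinates of `Z_J` -/

theorem zj_coord (h : Hyp S P ε) (hd : Dat S P ε X Y N t r) {x : Fin (2 ^ m + 1) → ZMod 2}
    (hx : ε x ∈ zj (S : Subgroup G)) (p : ι) : x (X p) = x (Y p) :=
  (swap_comm_iff h.ev h.three (hd.ne p) (hd.tA p) x).1
    ((ChoiceBase.mem_zj.1 hx).2.2 (t p) (hd.bas.tJ p))

theorem rr_not_zj (h : Hyp S P ε) (hd : Dat S P ε X Y N t r) {p p' : ι} (hpp : p ≠ p') :
    rr ε (X p) (X p') ∉ zj (S : Subgroup G) := by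
  intro h0
  rw [rr_eq h.ev] at h0
  have h1 := zj_coord h hd h0 p
  obtain ⟨d1, d2, d3, d4⟩ := hd.disj p p' hpp
  rw [Pi.add_apply, Pi.add_apply, Pi.single_eq_same, Pi.single_eq_of_ne d1,
    Pi.single_eq_of_ne (hd.ne p).symm, Pi.single_eq_of_ne d3, add_zero, add_zero] at h1
  exact one_ne_zero h1

theorem pair_of_zj (h : Hyp S P ε) (hd : Dat S P ε X Y N t r) {a b : Fin (2 ^ m + 1)} (hab : a ≠ b)
    (hz : rr ε a b ∈ zj (S : Subgroup G)) : ∃ p, (a = X p ∧ b = Y p) ∨ (a = Y p ∧ b = X p) := by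
  have key : ∀ {a b : Fin (2 ^ m + 1)}, a ≠ b → rr ε a b ∈ zj (S : Subgroup G) → a ≠ 0 →
      ∃ p, (a = X p ∧ b = Y p) ∨ (a = Y p ∧ b = X p) := by
    intro a b hab hz ha
    rw [rr_eq h.ev] at hz
    obtain ⟨p, h1 | h1⟩ := hd.cov a ha
    · refine ⟨p, Or.inl ⟨h1.symm, ?_⟩⟩
      by_contra hb
      have h2 := zj_coord h hd hz p
      rw [Pi.add_apply, Pi.add_apply, h1, Pi.single_eq_same, Pi.single_eq_of_ne hab,
        Pi.single_eq_of_ne (by rw [← h1]; exact (hd.ne p).symm), Pi.single_eq_of_ne (Ne.symm hb),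
        add_zero, add_zero] at h2
      exact one_ne_zero h2
    · refine ⟨p, Or.inr ⟨h1.symm, ?_⟩⟩
      by_contra hb
      have h2 := zj_coord h hd hz p
      rw [Pi.add_apply, Pi.add_apply, h1, Pi.single_eq_same, Pi.single_eq_of_ne hab,
        Pi.single_eq_of_ne (by rw [← h1]; exact hd.ne p), Pi.single_eq_of_ne (Ne.symm hb),
        add_zero, add_zero] at h2
      exact zero_ne_one h2
  by_cases ha : a = 0
  · have hb : b ≠ 0 := fun h0 => hab (ha.trans h0.symm)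
    rw [rr_symm h.ev] at hz
    obtain ⟨p, h1 | h1⟩ := key hab.symm hz hb
    · exact ⟨p, Or.inr ⟨h1.2, h1.1⟩⟩
    · exact ⟨p, Or.inl ⟨h1.2, h1.1⟩⟩
  · exact key hab hz ha

/-! ### The torus -/

theorem exists_tor (hp : PB (bau (S : Subgroup G)) L W W1 W0 q) (hq : 2 < q) :
    ∃ g ∈ L, g ∈ normalizer ((bau (S : Subgroup G) : Subgroup G) : Set G) ∧
      ∃ z ∈ zj (S : Subgroup G), g * z ≠ z * g := by
  have h0 : 0 < Nat.card W0 := Nat.card_pos
  have hlt : 2 * Nat.card W0 < Nat.card W1 := by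
    rw [hp.card1, mul_comm 2]
    exact Nat.mul_lt_mul_of_pos_left hq h0
  obtain ⟨z, hz, hz0⟩ : ∃ z ∈ W1, z ∉ W0 := by
    by_contra hcon
    push Not at hcon
    have := Subgroup.card_le_of_le (show W1 ≤ W0 from hcon)
    omega
  obtain ⟨y, hy, hy0, hzy⟩ : ∃ y ∈ W1, y ∉ W0 ∧ z⁻¹ * y ∉ W0 := by
    by_contra hcon
    push Not at hcon
    have := card_le_two (A := W1) (C := W0) (c := z) hcon
    omega
  obtain ⟨g, hg, hgB, hgz⟩ := hp.tor z hz hz0 y hy hy0
  refine ⟨g, hg, hgB, z, W1_le hp hz, fun e => hzy ?_⟩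
  have h1 : g * z * g⁻¹ = z := by rw [e]; group
  rw [h1] at hgz
  have h2 := inv_mem hgz
  have h3 : (z * y⁻¹)⁻¹ = z⁻¹ * y := by
    have h4 : z⁻¹ * y = y * z⁻¹ := hp.comm (inv_mem (hp.N1N hz)) (hp.N1N hy)
    rw [h4]; group
  rwa [h3] at h2

/-- A permutation fixing a vector modulo complements fixes it. -/
theorem comp_eq (hm : 1 ≤ m) (h : EvenSet (2 ^ m + 1) (zl (S : Subgroup G) P) P ε)
    {x : Fin (2 ^ m + 1) → ZMod 2} {σ : Equiv.Perm (Fin (2 ^ m + 1))} (he : ε (x ∘ σ.symm) = ε x) :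
    x ∘ σ.symm = x := by
  rcases h.eq_iff.1 he with h1 | h1
  · exact h1
  · exfalso
    have h2 : ∑ i, (x ∘ σ.symm) i = ∑ i, x i := Equiv.sum_comp σ.symm x
    rw [h1] at h2
    simp only [Pi.add_apply, Pi.one_apply, Finset.sum_add_distrib, Finset.sum_const, Finset.card_univ,
      Fintype.card_fin, nsmul_eq_mul, mul_one] at h2
    rw [S5.Of.cast_odd hm, add_eq_left] at h2
    exact one_ne_zero h2

/-- An element normalising `B` permutes the pairs. -/
theorem norm_pair (h : Hyp S P ε) (h3 : 3 ≤ m) (hd : Dat S P ε X Y N t r) {g : G}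
    (hg : g ∈ normalizer ((bau (S : Subgroup G) : Subgroup G) : Set G))
    {σ : Equiv.Perm (Fin (2 ^ m + 1))} (hσ : Acts ε g σ) (p : ι) :
    ∃ p', (σ (X p) = X p' ∧ σ (Y p) = Y p') ∨ (σ (X p) = Y p' ∧ σ (Y p) = X p') := by
  refine pair_of_zj h hd (σ.injective.ne (hd.ne p)) ?_
  rw [← rr_conj hσ]
  have h1 := normalizer_le_of_cj (F := zj) zj_cj (bau (S : Subgroup G)) hg
  rw [ChoiceBase.zj_bau] at h1
  exact (mem_normalizer_iff.1 h1 _).1 (hd.bas.d_mem_Z p)

/-- Two pairs such that `(X p, X p')` centralises `C_{Z_J}(L)`. -/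
theorem exists_pp (h : Hyp S P ε) (h3 : 3 ≤ m) (hd : Dat S P ε X Y N t r)
    (hp : PB (bau (S : Subgroup G)) L W W1 W0 q) (hq : 2 < q) :
    ∃ p p', p ≠ p' ∧ ∀ x : Fin (2 ^ m + 1) → ZMod 2, ε x ∈ HH S L → x (X p) = x (X p') := by
  have hm : 1 ≤ m := by omega
  obtain ⟨g, hgL, hgB, z, hz, hgz⟩ := exists_tor hp hq
  have hM := Cfsg.Agent.Omega.NSix.Norm.evenSet' h.hm S h.ev h.SP h.fix0
  obtain ⟨σ, hσ⟩ := hM.perm g (_root_.Cfsg.Agent.Omega.NSix.CaseJ.Norm.bau_le h h3 hgB)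
  have hpair := norm_pair h h3 hd hgB hσ
  -- some pair is moved
  have hmv : ∃ p p', p ≠ p' ∧ (σ (X p) = X p' ∨ σ (X p) = Y p') := by
    by_contra hcon
    push Not at hcon
    have hfix : ∀ p, (σ (X p) = X p ∧ σ (Y p) = Y p) ∨ (σ (X p) = Y p ∧ σ (Y p) = X p) := by
      intro p
      obtain ⟨p', h1⟩ := hpair p
      have : p = p' := by
        by_contra hne
        rcases h1 with h1 | h1
        · exact (hcon p p' hne).1 h1.1
        · exact (hcon p p' hne).2 h1.1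
      subst this
      exact h1
    apply hgz
    obtain ⟨x, rfl⟩ := h.ev.surj z (LemQ.zj_le h hz)
    have hxx : x ∘ σ = x := by
      funext y
      rw [Function.comp_apply]
      by_cases hy : y = 0
      · subst hy
        by_cases h0 : σ 0 = 0
        · rw [h0]
        · exfalso
          obtain ⟨p, h1 | h1⟩ := hd.cov _ h0
          · rcases hfix p with h2 | h2
            · rw [← h2.1] at h1
              exact hd.X0 p (σ.injective h1)
            · rw [← h2.2] at h1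
              exact hd.Y0 p (σ.injective h1)
          · rcases hfix p with h2 | h2
            · rw [← h2.2] at h1
              exact hd.Y0 p (σ.injective h1)
            · rw [← h2.1] at h1
              exact hd.X0 p (σ.injective h1)
      · have hc := zj_coord h hd hz
        obtain ⟨p, h1 | h1⟩ := hd.cov y hy
        · rw [← h1]
          rcases hfix p with h2 | h2
          · rw [h2.1]
          · rw [h2.1, hc]
        · rw [← h1]
          rcases hfix p with h2 | h2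
          · rw [h2.2]
          · rw [h2.2, hc]
    have h1 := hσ x
    have h2 : x ∘ σ.symm = x := by
      funext y
      have := congrFun hxx (σ.symm y)
      rw [Function.comp_apply, Equiv.apply_symm_apply] at this
      exact this.symm
    rw [h2] at h1
    exact LemQ.comm_of_conj h1
  obtain ⟨p, p', hpp, h1⟩ := hmv
  refine ⟨p, p', hpp, fun x hx => ?_⟩
  have hx' := mem_HH.1 hx
  have h2 := hσ x
  have h4 : g * ε x * g⁻¹ = ε x := by rw [hx'.2 g hgL]; group
  rw [h4] at h2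
  have h5 := comp_eq hm h.ev h2.symm
  have h6 : ∀ y, x (σ y) = x y := fun y => by
    have := congrFun h5 (σ y)
    rw [Function.comp_apply, Equiv.symm_apply_apply] at this
    exact this.symm
  rw [← h6 (X p)]
  rcases h1 with h1 | h1
  · rw [h1]
  · rw [h1, zj_coord h hd hx'.1]

/-! ### Exact offenders -/

section big

variable (h : Hyp S P ε) (hp : PB (bau (S : Subgroup G)) L W W1 W0 q) {i j : Fin (2 ^ m + 1)}
  {A : Subgroup G} (hA : Ex P ε i j A) (hij : i ≠ j) (hrr : rr ε i j ∉ zj (S : Subgroup G)) {a : G}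
  (ha : a ∈ A) (ha' : Acts ε a (Equiv.swap i j)) (ha0 : ∀ n ∈ W0, a * n = n * a)
  (hmv : ∃ n ∈ W1, a * n ≠ n * a) (hWQ : W ≤ o2 P)
  (hcW : ∀ u ∈ W, ∀ v ∈ W, u * (a * v * a⁻¹) = (a * v * a⁻¹) * u)

include h hp hA hrr ha in
theorem fix_e {e : G} (he : e ∈ W1) (he' : a * e * a⁻¹ ∈ zj (S : Subgroup G)) : a * e = e * a := by
  rcases hA.comm_V h ha (W1_le_V h hp he) with h1 | h1
  · exact LemQ.comm_of_conj h1
  · exfalso
    apply hrr
    have h2 := mul_mem (inv_mem (W1_le hp he)) he'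
    rw [h1, inv_mul_cancel_left] at h2
    exact h2

include hp ha0 in
/-- If the values of a homomorphism of rank `q` avoiding `W0` are fixed by `a`, then `W1` is. -/
theorem fix_W1 {A' : Type*} [Group A'] [Finite A'] (φ : A' →* W1)
    (hker : Nat.card φ.ker * q ≤ Nat.card A') (h0 : ∀ b, (φ b : G) ∈ W0 → φ b = 1)
    (hfix : ∀ b, a * (φ b : G) = φ b * a) : ∀ n ∈ W1, a * n = n * a := by
  set E : Subgroup G := φ.range.map W1.subtype with hE
  have hEW : E ≤ W1 := by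
    rintro _ ⟨x, -, rfl⟩
    exact x.2
  have hcE : q ≤ Nat.card E := by
    have h1 : Nat.card E = Nat.card φ.range := Subgroup.card_map_of_injective W1.subtype_injective
    have h2 : Nat.card A' = Nat.card φ.ker * Nat.card φ.range := by
      rw [← φ.ker.card_mul_index, Subgroup.index_ker]
    rw [h1]
    rw [h2] at hker
    exact Nat.le_of_mul_le_mul_left hker Nat.card_pos
  have hinf : E ⊓ W0 = ⊥ := by
    rw [eq_bot_iff]
    rintro _ ⟨⟨x, ⟨b, rfl⟩, rfl⟩, hx0⟩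
    have h1 := h0 b hx0
    change ((φ b : W1) : G) = 1
    rw [h1]; rfl
  have hcm : ∀ x ∈ E, ∀ y ∈ W0, x * y = y * x := fun x hx y hy =>
    hp.comm (hp.N1N (hEW hx)) (hp.N1N (hp.N01 hy))
  have h1 := card_sup_comm hcm
  rw [hinf, Subgroup.card_bot, mul_one] at h1
  have h2 : E ⊔ W0 = W1 := by
    refine Subgroup.eq_of_le_of_card_ge (sup_le hEW hp.N01) ?_
    rw [h1, hp.card1, mul_comm]
    exact Nat.mul_le_mul_right _ hcE
  have h3 : E ⊔ W0 ≤ centralizer ({a} : Set G) := by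
    refine sup_le ?_ fun n hn => mem_centralizer_singleton_iff.2 (ha0 n hn).symm
    rintro _ ⟨x, ⟨b, rfl⟩, rfl⟩
    exact mem_centralizer_singleton_iff.2 (hfix b).symm
  rw [h2] at h3
  exact fun n hn => (mem_centralizer_singleton_iff.1 (h3 hn)).symm

include h hp hA hij hrr ha ha' ha0 hmv hWQ hcW

/-- `W^a ≤ V W`. -/
theorem conj_mem {u : G} (hu : u ∈ W) :
    ∃ v ∈ zl (S : Subgroup G) P, ∃ w ∈ W, a * u * a⁻¹ = v * w := by
  classical
  obtain ⟨V, hV⟩ : ∃ V, V = zl (S : Subgroup G) P := ⟨_, rfl⟩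
  have haa := hA.sq ha
  have hai : a⁻¹ = a := inv_eq_of_mul_eq_one_left haa
  have haP := hA.AP ha
  have hVQ : V ≤ o2 P := hV ▸ h.VQ
  have hVc : ∀ {s v : G}, s ∈ o2 P → v ∈ V → s * v = v * s := fun hs hv => h.VcQ hs (hV ▸ hv)
  have hVaV : ∀ v ∈ V, a * v * a⁻¹ ∈ V := fun v hv => hV ▸ h.Vn haP (hV ▸ hv)
  have hA0Q : A ⊓ centralizer (V : Set G) ≤ o2 P := hV ▸ (hA.A0_le h hij).1.trans (ChoiceBase.jj_le _)
  set A0 := A ⊓ centralizer (V : Set G) with hA0
  have hWa : cj a W ≤ o2 P := by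
    rintro _ ⟨w, hw, rfl⟩
    exact h.Qn haP (hWQ hw)
  have hVW : ∀ v ∈ V, ∀ w ∈ W, v * w = w * v := fun v hv w hw => (hVc (hWQ hw) hv).symm
  set M₁ := V ⊔ W with hM₁
  have hM₁e : IsElementaryAbelian 2 M₁ := sup_elem (hV ▸ V_elem h) hp.el hVW
  have hM₁a : ∀ x ∈ M₁, ∀ y ∈ cj a W, x * y = y * x := by
    have h1 : M₁ ≤ centralizer (cj a W : Set G) := by
      refine sup_le (fun v hv => mem_centralizer_iff.2 fun y hy => hVc (hWa hy) hv) fun w hw =>
        mem_centralizer_iff.2 ?_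
      rintro _ ⟨v, hv, rfl⟩
      exact (hcW w hw v hv).symm
    exact fun x hx y hy => (mem_centralizer_iff.1 (h1 hx) y hy).symm
  set X := M₁ ⊔ cj a W with hX
  have hXe : IsElementaryAbelian 2 X := sup_elem hM₁e (isElementaryAbelian_cj a hp.el) hM₁a
  have hVX : V ≤ X := le_sup_left.trans le_sup_left
  have haW : a * u * a⁻¹ ∈ cj a W := ⟨u, hu, rfl⟩
  -- the conclusion from `a u a⁻¹ ∈ M₁`
  have hconcl : a * u * a⁻¹ ∈ M₁ → ∃ v ∈ zl (S : Subgroup G) P, ∃ w ∈ W, a * u * a⁻¹ = v * w := by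
    intro h1
    obtain ⟨v, hv, w, hw, e⟩ := mem_sup_comm hVW h1
    exact ⟨v, hV ▸ hv, w, hw, e⟩
  by_cases hcase : ∀ b ∈ A0, ∀ w ∈ W, b * w = w * b
  · -- `A` is a transvection on `X`
    apply hconcl
    have hAX : ∀ b ∈ A0, ∀ x ∈ X, b * x = x * b := by
      intro b hb x hx
      have h1 : X ≤ centralizer ({b} : Set G) := by
        refine sup_le (sup_le (fun v hv => mem_centralizer_singleton_iff.2 ?_)
          fun w hw => mem_centralizer_singleton_iff.2 (hcase b hb w hw).symm) ?_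
        · exact (hVc (hA0Q hb) hv).symm
        · rintro _ ⟨w, hw, rfl⟩
          rw [mem_centralizer_singleton_iff]
          have h2 : a * b = b * a := elem_comm hA.elem a ha b hb.1
          have h3 := hcase b hb w hw
          change a * w * a⁻¹ * b = b * (a * w * a⁻¹)
          have h4 : a⁻¹ * b = b * a⁻¹ := by rw [hai]; exact h2
          calc a * w * a⁻¹ * b = a * w * (a⁻¹ * b) := by group
            _ = a * (w * b) * a⁻¹ := by rw [h4]; group
            _ = (a * b) * w * a⁻¹ := by rw [← h3]; group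
            _ = b * (a * w * a⁻¹) := by rw [h2]; group
      exact (mem_centralizer_singleton_iff.1 (h1 hx)).symm
    have huX : u ∈ X := mem_sup_left (mem_sup_right hu)
    rcases hA.transv h hij hXe (hV ▸ hVX) (by rw [← hV]; exact hAX) ha huX with h1 | h1
    · rw [h1]; exact mem_sup_right hu
    · rw [h1]
      exact mul_mem (mem_sup_right hu) (mem_sup_left (hV ▸ rr_mem h.ev i j))
  push Not at hcase
  obtain ⟨b₀, hb₀, w₀, hw₀, hne⟩ := hcase
  have hA0B : A0 ≤ bau (S : Subgroup G) := hA0Q.trans (QB h)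
  have hb₀B := hA0B hb₀
  have hb₀c : ∀ w ∈ W, b₀ * w = w * b₀ → w ∈ W1 := by
    intro w hw hc
    refine hp.cent b₀ hb₀B ⟨w₀, hw₀, hne⟩ w hw ?_
    have e : b₀ * w * b₀⁻¹ * w⁻¹ = 1 := by rw [hc]; group
    rw [e]; exact one_mem _
  have hW1V : W1 ≤ V := hV ▸ W1_le_V h hp
  have hVW1 : V ⊓ W = W1 := by
    apply le_antisymm
    · rintro v ⟨hv, hw⟩
      exact hb₀c v hw (hVc (hA0Q hb₀) hv)
    · exact le_inf hW1V hp.N1N
  have hcM₁ : Nat.card M₁ = Nat.card V * q := by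
    have h1 := card_sup_comm hVW
    rw [hVW1, hp.card, ← mul_assoc] at h1
    have h2 : Nat.card M₁ * Nat.card W1 = (Nat.card V * q) * Nat.card W1 := by
      rw [hM₁, h1]; ring
    exact Nat.eq_of_mul_eq_mul_right Nat.card_pos h2
  -- centralisers in `A`
  set K₀ := A0 ⊓ centralizer (W : Set G) with hK₀
  have hcA : Nat.card A = 2 * Nat.card A0 := by
    have := hA.card_A0 h hij
    rwa [← hV] at this
  have hK₀X : K₀ ≤ A ⊓ centralizer (X : Set G) := by
    rintro b ⟨hb, hbW⟩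
    refine ⟨hb.1, ?_⟩
    have hbW' := mem_centralizer_iff.1 hbW
    have h1 : X ≤ centralizer ({b} : Set G) := by
      refine sup_le (sup_le (fun v hv => mem_centralizer_singleton_iff.2 ?_)
        fun w hw => mem_centralizer_singleton_iff.2 (hbW' w hw)) ?_
      · exact (hVc (hA0Q hb) hv).symm
      · rintro _ ⟨w, hw, rfl⟩
        rw [mem_centralizer_singleton_iff]
        have h2 : a * b = b * a := elem_comm hA.elem a ha b hb.1
        have h3 := hbW' w hw
        change a * w * a⁻¹ * b = b * (a * w * a⁻¹)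
        have h4 : a⁻¹ * b = b * a⁻¹ := by rw [hai]; exact h2
        calc a * w * a⁻¹ * b = a * w * (a⁻¹ * b) := by group
          _ = a * (w * b) * a⁻¹ := by rw [h4]; group
          _ = (a * b) * w * a⁻¹ := by rw [h3]; group
          _ = b * (a * w * a⁻¹) := by rw [h2]; group
    exact mem_centralizer_iff.2 fun x hx => mem_centralizer_singleton_iff.1 (h1 hx)
  have hAq : Nat.card A0 ≤ q * Nat.card K₀ := by
    -- `|A0 : A0 ∩ C_B(W)| ≤ |B : C_B(W)|`
    set C := bau (S : Subgroup G) ⊓ centralizer (W : Set G) with hC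
    have h1 : C.relIndex (bau (S : Subgroup G)) = q := by
      have h3 := CosetAct.Hyp.card_mul_relIndex' (H := C) (K := bau (S : Subgroup G)) inf_le_left
      rw [hp.cardB] at h3
      exact Nat.eq_of_mul_eq_mul_left Nat.card_pos h3
    have h2 : C ⊓ A0 = K₀ := by
      apply le_antisymm
      · exact fun x hx => ⟨hx.2, hx.1.2⟩
      · exact fun x hx => ⟨⟨hA0B hx.1, hx.2⟩, hx.1⟩
    have h3 := CosetAct.Hyp.card_mul_relIndex' (H := C ⊓ A0) (K := A0) inf_le_right
    rw [inf_relIndex_right, h2] at h3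
    have h4 : C.relIndex A0 ≤ C.relIndex (bau (S : Subgroup G)) := by
      refine Subgroup.relIndex_le_of_le_right hA0B ?_
      rw [h1]
      have := hp.one
      omega
    rw [h1] at h4
    rw [← h3, mul_comm]
    exact Nat.mul_le_mul_right _ h4
  set CX := X ⊓ centralizer (A0 : Set G) with hCX
  have hC2 : 2 * Nat.card ↥(X ⊓ centralizer (A : Set G)) ≤ Nat.card CX := by
    refine two_mul_card_le (inf_le_inf_left _ (centralizer_le (by exact_mod_cast inf_le_left)))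
      fun hle => ?_
    have h1 : rr ε i j * ε (Pi.single i 1) ∈ V := hV ▸ mul_mem (rr_mem h.ev i j) (h.ev.mem _)
    have hvV : ε (Pi.single i 1) ∈ V := hV ▸ h.ev.mem _
    have h2 : ε (Pi.single i 1) ∈ CX := ⟨hVX hvV, mem_centralizer_iff.2 fun b hb => hVc (hA0Q hb) hvV⟩
    have h4 := mem_centralizer_iff.1 (hle h2).2 a ha
    have h5 := (swap_comm_iff h.ev h.three hij ha' (Pi.single i 1)).1 h4
    rw [Pi.single_eq_same, Pi.single_eq_of_ne hij.symm] at h5
    exact one_ne_zero h5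
  have hcount := count hA.elem hXe hA.card
  have hI : Nat.card X * Nat.card K₀ ≤ Nat.card A0 * Nat.card CX := by
    calc Nat.card X * Nat.card K₀
        ≤ Nat.card X * Nat.card ↥(A ⊓ centralizer (X : Set G)) :=
          Nat.mul_le_mul_left _ (Subgroup.card_le_of_le hK₀X)
      _ ≤ Nat.card A * Nat.card ↥(X ⊓ centralizer (A : Set G)) := hcount
      _ = Nat.card A0 * (2 * Nat.card ↥(X ⊓ centralizer (A : Set G))) := by rw [hcA]; ring
      _ ≤ Nat.card A0 * Nat.card CX := Nat.mul_le_mul_left _ hC2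
  have hCXM : CX ⊓ M₁ ≤ V := by
    rintro x ⟨hx, hxM⟩
    obtain ⟨v, hv, w, hw, rfl⟩ := mem_sup_comm hVW hxM
    have h1 := mem_centralizer_iff.1 hx.2 b₀ hb₀
    have h2 : b₀ * v = v * b₀ := hVc (hA0Q hb₀) hv
    have h3 : b₀ * w = w * b₀ := by
      have h4 : v * (b₀ * w) = v * (w * b₀) := by
        calc v * (b₀ * w) = (b₀ * v) * w := by rw [h2]; group
          _ = b₀ * (v * w) := by group
          _ = v * w * b₀ := h1
          _ = v * (w * b₀) := by group
      exact mul_left_cancel h4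
    exact mul_mem hv (hW1V (hb₀c w hw h3))
  have hII : Nat.card CX * q ≤ Nat.card X := by
    have hcm : ∀ x ∈ CX, ∀ y ∈ M₁, x * y = y * x := fun x hx y hy =>
      elem_comm hXe x hx.1 y (mem_sup_left hy)
    have h1 := card_sup_comm hcm
    have h2 : Nat.card ↥(CX ⊔ M₁) ≤ Nat.card X := Subgroup.card_le_of_le (sup_le inf_le_left le_sup_left)
    have h3 : Nat.card ↥(CX ⊓ M₁) ≤ Nat.card V := Subgroup.card_le_of_le hCXM
    rw [hcM₁] at h1
    have h4 : (Nat.card CX * q) * Nat.card V ≤ Nat.card X * Nat.card V := by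
      calc (Nat.card CX * q) * Nat.card V = Nat.card CX * (Nat.card V * q) := by ring
        _ = Nat.card ↥(CX ⊔ M₁) * Nat.card ↥(CX ⊓ M₁) := h1.symm
        _ ≤ Nat.card X * Nat.card V := Nat.mul_le_mul h2 h3
    exact Nat.le_of_mul_le_mul_right h4 Nat.card_pos
  have hIII : Nat.card K₀ * q ≤ Nat.card A0 := by
    have h1 : (Nat.card K₀ * q) * Nat.card X ≤ Nat.card A0 * Nat.card X := by
      calc (Nat.card K₀ * q) * Nat.card X = (Nat.card X * Nat.card K₀) * q := by ring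
        _ ≤ (Nat.card A0 * Nat.card CX) * q := Nat.mul_le_mul_right _ hI
        _ = Nat.card A0 * (Nat.card CX * q) := by ring
        _ ≤ Nat.card A0 * Nat.card X := Nat.mul_le_mul_left _ hII
    exact Nat.le_of_mul_le_mul_right h1 Nat.card_pos
  -- `C_X(A0) ≤ V`
  have hCXV : CX ≤ V := by
    rintro x ⟨hx, hxc⟩
    obtain ⟨y, hy, u', hu', rfl⟩ := mem_sup_comm hM₁a hx
    obtain ⟨v, hv, w, hw, rfl⟩ := mem_sup_comm hVW hy
    obtain ⟨s, hs, rfl⟩ := hu'
    change v * w * (a * s * a⁻¹) ∈ V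
    replace hxc : ∀ b ∈ A0, b * (v * w * (a * s * a⁻¹)) = v * w * (a * s * a⁻¹) * b :=
      mem_centralizer_iff.1 hxc
    have hab : ∀ b ∈ A0, a * b * a⁻¹ = b := fun b hb => by
      rw [elem_comm hA.elem a ha b hb.1]; group
    -- the commutators
    have hαβ : ∀ b ∈ A0, (b * w * b⁻¹ * w⁻¹) * (a * (b * s * b⁻¹ * s⁻¹) * a⁻¹) = 1 := by
      intro b hb
      have h1 : b * v = v * b := hVc (hA0Q hb) hv
      have h2 := hxc b hb
      have e1 : a * (b * s * b⁻¹) * a⁻¹ = b * (a * s * a⁻¹) * b⁻¹ := by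
        calc a * (b * s * b⁻¹) * a⁻¹ = (a * b * a⁻¹) * (a * s * a⁻¹) * (a * b * a⁻¹)⁻¹ := by group
          _ = _ := by rw [hab b hb]
      have h4 : (b * w * b⁻¹) * (a * (b * s * b⁻¹) * a⁻¹) = w * (a * s * a⁻¹) := by
        rw [e1]
        have h5 : v * ((b * w * b⁻¹) * (b * (a * s * a⁻¹) * b⁻¹)) = v * (w * (a * s * a⁻¹)) := by
          calc v * ((b * w * b⁻¹) * (b * (a * s * a⁻¹) * b⁻¹))
              = (v * b) * w * (a * s * a⁻¹) * b⁻¹ := by group
            _ = b * (v * w * (a * s * a⁻¹)) * b⁻¹ := by rw [← h1]; group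
            _ = v * (w * (a * s * a⁻¹)) := by rw [h2]; group
        exact mul_left_cancel h5
      have hbw : b * w * b⁻¹ ∈ W := hp.Nn b (hp.BL (hA0B hb)) w hw
      have h6 := hcW w hw s hs
      calc (b * w * b⁻¹ * w⁻¹) * (a * (b * s * b⁻¹ * s⁻¹) * a⁻¹)
          = b * w * b⁻¹ * (w⁻¹ * (a * (b * s * b⁻¹) * a⁻¹)) * (a * s * a⁻¹)⁻¹ := by group
        _ = b * w * b⁻¹ * ((a * (b * s * b⁻¹) * a⁻¹) * w⁻¹) * (a * s * a⁻¹)⁻¹ := by
          rw [hcW _ (inv_mem hw) _ (hp.Nn b (hp.BL (hA0B hb)) s hs)]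
        _ = ((b * w * b⁻¹) * (a * (b * s * b⁻¹) * a⁻¹)) * w⁻¹ * (a * s * a⁻¹)⁻¹ := by group
        _ = (w * (a * s * a⁻¹)) * w⁻¹ * (a * s * a⁻¹)⁻¹ := by rw [h4]
        _ = 1 := by rw [h6]; group
    by_cases hw1 : w ∈ W1
    · -- then `s ∈ W1`
      have h1 := hαβ b₀ hb₀
      have h2 : b₀ * w * b₀⁻¹ * w⁻¹ = 1 := by rw [hp.N1c b₀ hb₀B w hw1]; group
      rw [h2, one_mul] at h1
      have h4 : b₀ * s * b₀⁻¹ * s⁻¹ = 1 := by
        calc b₀ * s * b₀⁻¹ * s⁻¹ = a⁻¹ * (a * (b₀ * s * b₀⁻¹ * s⁻¹) * a⁻¹) * a := by group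
          _ = 1 := by rw [h1]; group
      have h5 : s ∈ W1 := by
        refine hp.cent b₀ hb₀B ⟨w₀, hw₀, hne⟩ s hs ?_
        rw [h4]; exact one_mem _
      exact mul_mem (mul_mem hv (hW1V hw1)) (hVaV s (hW1V h5))
    · exfalso
      -- all `[b, w]` are fixed by `a`
      have hαW : ∀ b ∈ A0, b * w * b⁻¹ * w⁻¹ ∈ W1 := fun b hb => hp.quad b (hA0B hb) w hw
      have hfix : ∀ b ∈ A0, a * (b * w * b⁻¹ * w⁻¹) = (b * w * b⁻¹ * w⁻¹) * a := by
        intro b hb
        refine fix_e h hp hA hrr ha (hαW b hb) ?_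
        have h1 := hαβ b hb
        have h2 : b * w * b⁻¹ * w⁻¹ = (a * (b * s * b⁻¹ * s⁻¹) * a⁻¹)⁻¹ :=
          eq_inv_of_mul_eq_one_left h1
        have h4 : a * (b * w * b⁻¹ * w⁻¹) * a⁻¹ = (b * s * b⁻¹ * s⁻¹)⁻¹ := by
          rw [h2]
          calc a * (a * (b * s * b⁻¹ * s⁻¹) * a⁻¹)⁻¹ * a⁻¹
              = (a * a) * (b * s * b⁻¹ * s⁻¹)⁻¹ * (a * a)⁻¹ := by group
            _ = _ := by rw [haa]; group
        rw [h4]
        exact W1_le hp (inv_mem (hp.quad b (hA0B hb) s hs))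
      let φ : ↥A0 →* ↥W1 := MonoidHom.mk' (fun b => ⟨(b : G) * w * (b : G)⁻¹ * w⁻¹, hαW b b.2⟩) (by
        intro b b'
        apply Subtype.ext
        show (b : G) * b' * w * ((b : G) * b')⁻¹ * w⁻¹ =
          (b : G) * w * (b : G)⁻¹ * w⁻¹ * ((b' : G) * w * (b' : G)⁻¹ * w⁻¹)
        have h1 := hp.N1c b (hA0B b.2) _ (hαW b' b'.2)
        have h2 := hp.comm (hp.N1N (hαW b b.2)) (hp.N1N (hαW b' b'.2))
        calc (b : G) * b' * w * ((b : G) * b')⁻¹ * w⁻¹
            = ((b : G) * ((b' : G) * w * (b' : G)⁻¹ * w⁻¹)) * w * (b : G)⁻¹ * w⁻¹ := by group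
          _ = ((b' : G) * w * (b' : G)⁻¹ * w⁻¹) * ((b : G) * w * (b : G)⁻¹ * w⁻¹) := by rw [h1]; group
          _ = _ := h2.symm)
      have hφ : ∀ b, (φ b : G) = (b : G) * w * (b : G)⁻¹ * w⁻¹ := fun b => rfl
      have hcen : ∀ b : ↥A0, (φ b : G) ∈ W0 → ∀ v ∈ W, (b : G) * v = v * b := by
        intro b hb
        by_contra hcon
        push Not at hcon
        exact hw1 (hp.cent b (hA0B b.2) hcon w hw hb)
      obtain ⟨n, hn, hn'⟩ := hmv
      refine hn' (fix_W1 hp ha0 φ ?_ (fun b hb => ?_) (fun b => hfix b b.2) n hn)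
      · refine le_trans (Nat.mul_le_mul_right _ ?_) hIII
        refine Nat.card_le_card_of_injective (fun b : φ.ker => (⟨(b : ↥A0), ⟨(b : ↥A0).2,
          mem_centralizer_iff.2 fun v hv => (hcen b ?_ v hv).symm⟩⟩ : ↥K₀)) ?_
        · have h1 : φ (b : ↥A0) = 1 := b.2
          rw [h1]; exact one_mem _
        · intro b b' hbb
          exact Subtype.ext (Subtype.ext (congrArg (fun x : ↥K₀ => (x : G)) hbb))
      · have h1 := hcen b hb w hw
        apply Subtype.ext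
        rw [hφ, h1]
        show w * (b : G) * (b : G)⁻¹ * w⁻¹ = 1
        group
  -- so `X = M₁`
  have hXM : X = M₁ := by
    refine (Subgroup.eq_of_le_of_card_ge le_sup_left ?_).symm
    rw [hcM₁]
    have h1 : Nat.card CX ≤ Nat.card V := Subgroup.card_le_of_le hCXV
    have h2 : Nat.card X * Nat.card K₀ ≤ (Nat.card V * q) * Nat.card K₀ := by
      calc Nat.card X * Nat.card K₀ ≤ Nat.card A0 * Nat.card CX := hI
        _ ≤ (q * Nat.card K₀) * Nat.card V := Nat.mul_le_mul hAq h1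
        _ = _ := by ring
    exact Nat.le_of_mul_le_mul_right h2 Nat.card_pos
  apply hconcl
  rw [← hXM]
  exact mem_sup_right haW

/-- `W ≤ V`. -/
theorem W_le_V_of : W ≤ zl (S : Subgroup G) P := by
  have haP := hA.AP ha
  by_contra hnot
  have hex : ∃ s ∈ o2 P, ∃ w ∈ W, s * w ≠ w * s := by
    by_contra hcon
    push Not at hcon
    apply hnot
    intro w hw
    refine oz h (hWQ hw) ?_ fun s hs => hcon s hs w hw
    have := elem_sq hp.el w hw
    rwa [pow_two] at this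
  obtain ⟨s, hs, w₀, hw₀, hne⟩ := hex
  have hsB := QB h hs
  have hψW : ∀ w ∈ W, s * w * s⁻¹ * w⁻¹ ∈ W1 := fun w hw => hp.quad s hsB w hw
  have hWc : ∀ {v w : G}, v ∈ W → w ∈ W → v * w = w * v := fun hv hw => hp.comm hv hw
  let ψ : ↥W →* ↥W1 := MonoidHom.mk' (fun w => ⟨s * (w : G) * s⁻¹ * (w : G)⁻¹, hψW w w.2⟩) (by
    intro w w'
    apply Subtype.ext
    show s * ((w : G) * w') * s⁻¹ * ((w : G) * w')⁻¹ =
      s * (w : G) * s⁻¹ * (w : G)⁻¹ * (s * (w' : G) * s⁻¹ * (w' : G)⁻¹)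
    have h1 := hWc (inv_mem w.2) (hp.N1N (hψW w' w'.2))
    calc s * ((w : G) * w') * s⁻¹ * ((w : G) * w')⁻¹
        = (s * (w : G) * s⁻¹) * ((s * (w' : G) * s⁻¹ * (w' : G)⁻¹) * (w : G)⁻¹) := by group
      _ = _ := by rw [← h1]; group)
  have hker : ∀ w : ↥W, (ψ w : G) ∈ W0 → (w : G) ∈ W1 := fun w hw =>
    hp.cent s hsB ⟨w₀, hw₀, hne⟩ w w.2 hw
  obtain ⟨n, hn, hn'⟩ := hmv
  refine hn' (fix_W1 hp ha0 ψ ?_ (fun w hw => ?_) (fun w => ?_) n hn)
  · rw [hp.card]
    refine Nat.mul_le_mul_right _ ?_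
    refine Nat.card_le_card_of_injective (fun w : ψ.ker => (⟨((w : ↥W) : G), hker w ?_⟩ : ↥W1)) ?_
    · have h1 : ψ (w : ↥W) = 1 := w.2
      rw [h1]; exact one_mem _
    · intro w w' hww
      exact Subtype.ext (Subtype.ext (congrArg (fun x : ↥W1 => (x : G)) hww))
  · have h1 := hker w hw
    apply Subtype.ext
    show s * (w : G) * s⁻¹ * (w : G)⁻¹ = 1
    rw [hp.N1c s hsB w h1]; group
  · refine fix_e h hp hA hrr ha (hψW w w.2) ?_
    obtain ⟨v, hv, w', hw', e⟩ := conj_mem h hp hA hij hrr ha ha' ha0 ⟨n, hn, hn'⟩ hWQ hcW w.2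
    have hs' : a * s * a⁻¹ ∈ o2 P := h.Qn haP hs
    have h1 := h.VcQ hs' hv
    show a * (s * (w : G) * s⁻¹ * (w : G)⁻¹) * a⁻¹ ∈ _
    have e2 : a * (s * (w : G) * s⁻¹ * (w : G)⁻¹) * a⁻¹ =
        (a * s * a⁻¹) * w' * (a * s * a⁻¹)⁻¹ * w'⁻¹ := by
      have h2 : v * ((a * s * a⁻¹) * w' * (a * s * a⁻¹)⁻¹ * w'⁻¹) =
          ((a * s * a⁻¹) * w' * (a * s * a⁻¹)⁻¹ * w'⁻¹) * v :=
        h.ev.comm_mem hv (W1_le_V h hp (hp.quad _ (QB h hs') w' hw'))
      calc a * (s * (w : G) * s⁻¹ * (w : G)⁻¹) * a⁻¹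
          = (a * s * a⁻¹) * (a * (w : G) * a⁻¹) * (a * s * a⁻¹)⁻¹ * (a * (w : G) * a⁻¹)⁻¹ := by group
        _ = ((a * s * a⁻¹) * v) * w' * (a * s * a⁻¹)⁻¹ * (v * w')⁻¹ := by rw [e]; group
        _ = (v * ((a * s * a⁻¹) * w' * (a * s * a⁻¹)⁻¹ * w'⁻¹)) * v⁻¹ := by rw [h1]; group
        _ = _ := by rw [h2, mul_inv_cancel_right]
    rw [e2]
    exact W1_le hp (hp.quad _ (QB h hs') w' hw')

end big

/-- **Step 2, `q > 2`.** -/
theorem W_le_V_big (h : Hyp S P ε) (h3 : 3 ≤ m) (hd : Dat S P ε X Y N t r)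
    (hp : PB (bau (S : Subgroup G)) L W W1 W0 q) (hq : 2 < q) (hWQ : W ≤ o2 P)
    {i₀ : ι} (hc : ∀ l ∈ L, l * rr ε (X i₀) (Y i₀) = rr ε (X i₀) (Y i₀) * l) :
    W ≤ zl (S : Subgroup G) P := by
  obtain ⟨p, p', hpp, hfx⟩ := exists_pp h h3 hd hp hq
  have hXX := (hd.disj p p' hpp).1
  obtain ⟨A, hA⟩ := exists_ex h hXX
  obtain ⟨a, ha, ha'⟩ := hA.ex
  -- `a` commutes with `C_{Z_J}(L)`
  have haH : ∀ z ∈ HH S L, a * z = z * a := by
    intro z hz
    obtain ⟨x, rfl⟩ := h.ev.surj z (LemQ.zj_le h (mem_HH.1 hz).1)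
    exact (acts_swap h.ev ha' x).1 (hfx x hz)
  have ha0 : ∀ n ∈ W0, a * n = n * a := fun n hn =>
    haH n (mem_HH.2 ⟨W1_le hp (hp.N01 hn), fun l hl => hp.N0c l hl n hn⟩)
  have hdH : rr ε (X i₀) (Y i₀) ∈ HH S L := mem_HH.2 ⟨hd.bas.d_mem_Z i₀, hc⟩
  have had := haH _ hdH
  have hmv : ∃ n ∈ W1, a * n ≠ n * a := by
    by_contra hcon
    push Not at hcon
    have hz := hd.bas.d_mem_Z p
    have hz' := hz
    rw [← ChoiceBase.zc_bau] at hz'
    obtain ⟨c, hcz, hcL, n, hn, e⟩ := hp.Z_split hz'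
    rw [ChoiceBase.zc_bau] at hcz
    have h1 : a * rr ε (X p) (Y p) = rr ε (X p) (Y p) * a := by
      rw [e]
      have h2 := haH c (mem_HH.2 ⟨hcz, hcL⟩)
      have h4 := hcon n hn
      calc a * (c * n) = (a * c) * n := by group
        _ = c * (a * n) := by rw [h2]; group
        _ = c * n * a := by rw [h4]; group
    rw [rr_eq h.ev] at h1
    have h2 := (swap_comm_iff h.ev h.three hXX ha' _).1 h1
    have h4 := hd.disj p p' hpp
    rw [Pi.add_apply, Pi.add_apply, Pi.single_eq_same, Pi.single_eq_of_ne (hd.ne p),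
      Pi.single_eq_of_ne h4.1.symm, Pi.single_eq_of_ne h4.2.2.1.symm, add_zero, add_zero] at h2
    exact one_ne_zero h2
  -- `W` and `W^a` commute
  have hcW : ∀ u ∈ W, ∀ v ∈ W, u * (a * v * a⁻¹) = (a * v * a⁻¹) * u := by
    intro u hu v hv
    obtain ⟨u1, hu1, n, hn, rfl⟩ := hp.exists_V hu
    obtain ⟨v1, hv1, n', hn', rfl⟩ := hp.exists_V hv
    have haP := hA.AP ha
    have h1 := comm_pb h hp hp (x := 1) (y := a) (rr_ne_one h.ev h.three (hd.ne i₀)) (rr_sq h.ev _ _)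
      (fun l hl => by
        have := hc l hl
        rw [inv_one, mul_one, one_mul]; exact this)
      (fun l hl => by
        have h2 := hc l hl
        set d := rr ε (X i₀) (Y i₀) with hdd
        have h4 : a⁻¹ * d = d * a⁻¹ := by
          calc a⁻¹ * d = a⁻¹ * (d * a) * a⁻¹ := by group
            _ = a⁻¹ * (a * d) * a⁻¹ := by rw [had]
            _ = d * a⁻¹ := by group
        calc a * l * a⁻¹ * d = a * l * (a⁻¹ * d) := by group
          _ = a * (l * d) * a⁻¹ := by rw [h4]; group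
          _ = (a * d) * l * a⁻¹ := by rw [h2]; group
          _ = d * (a * l * a⁻¹) := by rw [had]; group) hu1 hv1
    simp only [inv_one, mul_one, one_mul] at h1
    have hnV := W0_le_V h hp hn
    have hn'V : a * n' * a⁻¹ ∈ zl (S : Subgroup G) P := h.Vn haP (W0_le_V h hp hn')
    have hVW : (⁅W, L⁆ : Subgroup G) ≤ W := hp.VN
    have h2 : ∀ x ∈ W, n * (a * x * a⁻¹) = (a * x * a⁻¹) * n := fun x hx =>
      (h.VcQ (h.Qn haP (hWQ hx)) hnV).symm
    have h4 : ∀ x ∈ W, x * (a * n' * a⁻¹) = (a * n' * a⁻¹) * x := fun x hx => h.VcQ (hWQ hx) hn'V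
    have e1 : a * (v1 * n') * a⁻¹ = (a * v1 * a⁻¹) * (a * n' * a⁻¹) := by group
    have c1 : Commute u1 (a * v1 * a⁻¹) := h1
    have c2 : Commute u1 (a * n' * a⁻¹) := h4 u1 (hVW hu1)
    have c3 : Commute n (a * v1 * a⁻¹) := h2 v1 (hVW hv1)
    have c4 : Commute n (a * n' * a⁻¹) := h.ev.comm_mem hnV hn'V
    rw [e1]
    exact ((c1.mul_right c2).mul_left (c3.mul_right c4)).eq
  exact W_le_V_of h hp hA hXX (rr_not_zj h hd hpp) ha ha' ha0 hmv hWQ hcW

/-- **FF-blocks over `B` which commute with some `d i₀` lie in `N_G(V)`.** -/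
theorem L_le (h : Hyp S P ε) (h3 : 3 ≤ m) (hd : Dat S P ε X Y N t r)
    (hp : PB (bau (S : Subgroup G)) L W W1 W0 q)
    {i₀ : ι} (hc : ∀ l ∈ L, l * rr ε (X i₀) (Y i₀) = rr ε (X i₀) (Y i₀) * l) :
    L ≤ normalizer (zl (S : Subgroup G) P : Set G) := by
  have hWQ := W_le_Q h hd hp hc
  have hWV : W ≤ zl (S : Subgroup G) P := by
    by_cases hq : 2 < q
    · exact W_le_V_big h h3 hd hp hq hWQ hc
    · have h1 : q = 2 := by
        have := hp.one
        omega
      subst h1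
      exact W_le_V_two h hp hWQ
  have hq := q_eq_two h hd hp hWV
  subst hq
  exact L_le_of_V h h3 hd hp hWV

end Cfsg.Agent.Omega.NSix.CaseJ.PBlock

end

section


/-!
# OMEGA N6, case `J(S) ≰ O₂(P)`: (8) of #16037 / (f8) of #16600

* `exists_pb` : a minimal parabolic `H` over `T ≥ bau S` with `J(T) ≰ O₂(H)`, `[Ω₁Z(T), H] ≠ 1` is generated by `T`
  and an FF-block over `bau S`;
* `cent` : a minimal parabolic of `C_G(r_ij)` over `C_S(r_ij)` which is not in `N_G(V)` centralises `C_V(C_S(r_ij))`.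
-/

set_option autoImplicit false
set_option linter.unusedSectionVars false

namespace Cfsg.Agent.Omega.NSix.CaseJ.Eight

open Subgroup Cfsg Cfsg.Agent.ZN.ChoiceBase Cfsg.Agent.ZN.ChoiceSit
open Cfsg.Agent.ZN (jj zj bau zc zl o2)
open Cfsg.Agent.MinSimple.MinParabolic (IsMinPar)
open Cfsg.Agent.Omega.LemmaK (Block WeakNormal)
open Cfsg.Agent.Omega.LemmaK.Main (le_normalizer_bau)
open Cfsg.Agent.Omega.FFThm (Off NoOver Concl NatK SymK)
open Cfsg.Agent.Omega.OM (PB FBK.pb FBS.pb syT_of)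
open Cfsg.Agent.Omega.OM.BlkGen (exists_off)
open Cfsg.Agent.Omega.S5.Def
open Cfsg.Agent.Omega.NSix.Base Cfsg.Agent.Omega.NSix.Basic
open Cfsg.Agent.Omega.NSix.CaseJ.Base
open scoped Pointwise

universe u

variable {G : Type u} [Group G] [Finite G]

/-- **Minimal parabolics which move `Ω₁(Z(T))` are generated by `T` and an FF-block over `B`.** -/
theorem exists_pb {T H : Subgroup G} (hFF : FFThm.Stmt.{u}) (S : Sylow 2 G) (hT : Syl T H)
    (hB : bau (S : Subgroup G) ≤ T) (hP : IsMinPar T H) (hc : H ⊓ centralizer (o2 H : Set G) ≤ o2 H)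
    (hJ : ¬ jj T ≤ o2 H) (hZ : ¬ H ≤ centralizer (zc T : Set G)) :
    ∃ (L N N1 N0 : Subgroup G) (q : ℕ), PB (bau (S : Subgroup G)) L N N1 N0 q ∧ L ≤ H ∧
      ∀ K : Subgroup G, T ≤ K → L ≤ K → H ≤ K := by
  have hbau : bau T = bau (S : Subgroup G) := LemmaK.Main.bau_eq S hT.2.1 hB
  have hw : WeakNormal 2 (bau T) := by
    rw [hbau]
    exact fun R hR hBR => le_normalizer_bau S hR hBR
  obtain ⟨A, hA, hoff⟩ := exists_off hT hP hc hJ hZ
  obtain ⟨hno, hcon⟩ := hFF G T H hT hP hc ⟨A, hA.2.1.trans hT.1, hoff⟩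
  have hm := SQ1.FFOne.minH_of hT hP hc
  rcases hcon with ⟨F, _, _, _, k, hk, ⟨M⟩⟩ | ⟨k, m, hk, hm2, ⟨M⟩⟩
  · have : Nonempty (Fin k) := ⟨⟨0, hk⟩⟩
    set N := (SQ1.FFOne.natKB_of hT hc hJ hk M).toFFK hm with hN
    obtain ⟨E, hE⟩ := N.toInK hm
    obtain ⟨L, hL⟩ := hE.exists_blk ⟨0, hk⟩
    have hpb := FBK.pb hm N hE hw hL
    rw [hbau] at hpb
    exact ⟨L, _, _, _, _, hpb, hL.LH hE, fun K hTK hLK => hL.sup_T hE hTK hLK⟩
  · have h := syT_of hm hJ M hk (by omega) SQ1.FFOf.cv_le SQ1.FFOf.cv_norm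
    obtain ⟨ι, J, X, Y, t, r, c⟩ := h.exists_ch
    have hin := c.main h Cfsg.Agent.Omega.SQ1.SymCyc.exists_pow
    obtain ⟨j, x, y, hTr⟩ := h.exists_tr
    obtain ⟨i, -⟩ := c.ex j x y hTr
    obtain ⟨L, hL⟩ := hin.exists_blk i
    have hpb := FBS.pb hin hw hL
    rw [hbau] at hpb
    exact ⟨L, _, _, _, _, hpb, hL.LH hin, fun K hTK hLK => hL.sup_T hin hTK hLK⟩

variable {S : Sylow 2 G} {P : Subgroup G} {m : ℕ} {ε : (Fin (2 ^ m + 1) → ZMod 2) → G}

/-- **(8)** A minimal parabolic of `C_G(r_ij)` over `C_S(r_ij)` outside `N_G(V)` centralises `C_V(C_S(r_ij))`. -/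
theorem cent (hFF : FFThm.Stmt.{u}) (h : Hyp S P ε) (h3 : 3 ≤ m) :
    ∀ i j, i ≠ j → (∃ b ∈ (S : Subgroup G), Acts ε b (Equiv.swap i j)) →
      ∀ P₁ : Subgroup G, IsMinPar ((S : Subgroup G) ⊓ centralizer ({rr ε i j} : Set G)) P₁ →
        P₁ ≤ centralizer ({rr ε i j} : Set G) → ¬ P₁ ≤ normalizer (zl (S : Subgroup G) P : Set G) →
          P₁ ≤ centralizer ((zl (S : Subgroup G) P ⊓ centralizer (((S : Subgroup G) ⊓
            centralizer ({rr ε i j} : Set G) : Subgroup G) : Set G) : Subgroup G) : Set G) := by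
  intro i j hij hb P₁ hP₁ hP₁C hnot
  set C := centralizer ({rr ε i j} : Set G) with hC
  set T := (S : Subgroup G) ⊓ C with hT
  have hsC := Fus.syl h h3 hij hb
  rw [← hC, ← hT] at hsC
  have hs : Syl T P₁ := ⟨hP₁.le, hsC.2.1, fun R hR hR2 hTR => hsC.2.2 R (hR.trans hP₁C) hR2 hTR⟩
  have hB : bau (S : Subgroup G) ≤ T := Fus.bau_le_cent (Fus.rr_zj h hij hb)
  have hr1 := rr_ne_one h.ev h.three hij
  have hr2 : rr ε i j ^ 2 = 1 := by rw [pow_two]; exact rr_sq h.ev i j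
  have hcC : C ⊓ centralizer (o2 C : Set G) ≤ o2 C := MinSimple.Basic.char2_centralizer h.hG hr2 hr1
  have hc1 : P₁ ⊓ centralizer (o2 P₁ : Set G) ≤ o2 P₁ := by
    have h4 : o2 C ≤ o2 P₁ := ZN.le_o2 ((o2_le_syl hsC).trans hP₁.le) (isPGroup_o2 C)
      (hP₁C.trans (le_normalizer_o2 C))
    rintro x ⟨hx, hxc⟩
    exact h4 (hcC ⟨hP₁C hx, centralizer_le (by exact_mod_cast h4) hxc⟩)
  have hjj : jj T = jj (S : Subgroup G) := LemmaK.Main.jj_eq S hsC.2.1 hB
  by_cases hZ : P₁ ≤ centralizer (zc T : Set G)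
  · refine hZ.trans (centralizer_le ?_)
    intro v hv
    have hv' : v ∈ zl (S : Subgroup G) P ∧ v ∈ centralizer (T : Set G) := hv
    have hvc := mem_centralizer_iff.1 hv'.2
    rw [SetLike.mem_coe, Cfsg.Agent.ZN.ChoiceBase.mem_zc]
    refine ⟨hB (Blk.VB h hv'.1), ?_, fun y hy => hvc y hy⟩
    rw [pow_two]
    exact h.ev.sq_mem hv'.1
  exfalso
  apply hnot
  by_cases hJ : jj T ≤ o2 P₁
  · rw [hjj] at hJ
    have h1 := Fus.jj_eq_of_le S (isPGroup_o2 P₁) hJ
    have h2 : P₁ ≤ normalizer ((jj (o2 P₁) : Subgroup G) : Set G) :=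
      (le_normalizer_o2 P₁).trans (normalizer_le_of_cj (F := jj) jj_cj (o2 P₁))
    rw [h1] at h2
    exact h2.trans (Norm.jj_le h h3)
  · obtain ⟨L, N, N1, N0, q, hpb, hLP, hgen⟩ := exists_pb hFF S hs hB hP₁ hc1 hJ hZ
    refine hgen _ (inf_le_left.trans (Fus.S_le h)) ?_
    obtain ⟨ι, X, Y, N', t, r, -, hd⟩ := h.exists_dat
    have hLc : ∀ l ∈ L, l * rr ε i j = rr ε i j * l := fun l hl =>
      mem_centralizer_singleton_iff.1 (hP₁C (hLP hl))
    obtain ⟨p, h1 | h1⟩ := Fus.exists_pair h hd hij hb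
    · rw [h1.1, h1.2] at hLc
      exact PBlock.L_le h h3 hd hpb hLc
    · rw [h1.1, h1.2, rr_symm h.ev] at hLc
      exact PBlock.L_le h h3 hd hpb hLc

end Cfsg.Agent.Omega.NSix.CaseJ.Eight

end

end

-- merged: Cfsg.Agent.Mrg.Omega.NSix.HT.EightIn
section

/-!
# OMEGA N6, (H2) (#18920 (5)): the input `eight` of `HT/Five.lean`  (helper546)

* `side_of_off` : an offender on the even-subset module which fixes a letter is generated by disjoint transpositions
  (orbit count; no assumption on the labelling);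
* `hyp_of` : the frame `CaseJ.Base.Hyp` from `EvenSet`, `Fix0` and `J(S) ≰ O₂(P)`;
* `eight` : #16037 (8) (helper628, `CaseJ/Eight.lean`) in the form used in `HT/Five.lean`.
-/

set_option autoImplicit false

namespace Cfsg.Agent.Omega.NSix.HT.EightIn

open Subgroup Cfsg Cfsg.Agent.Omega.MinPar
open Cfsg.Agent.ZN (o2 zc zl jj zj)
open Cfsg.Agent.Omega.S5.Def Cfsg.Agent.Omega.S5.Syl Cfsg.Agent.Omega.S5.Pair
open Cfsg.Agent.Omega.NSix.Base Cfsg.Agent.Omega.NSix.Basic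
open Cfsg.Agent.Omega.FFThm (Off)
open Cfsg.Agent.Omega.MutE.Perm (Orb)
open Cfsg.Agent.MinSimple.MinParabolic (IsMinPar)

universe u

variable {G : Type u} [Group G]

section side

variable {n : ℕ} {V L A : Subgroup G} {ε : (Fin n → ZMod 2) → G}

/-- the permutations induced by `A` -/
noncomputable def ph (h : EvenSet n V L ε) (hn : 3 ≤ n) (hAL : A ≤ L) : A →* Equiv.Perm (Fin n) :=
  (h.hom hn).comp (Subgroup.inclusion hAL)

theorem ph_acts (h : EvenSet n V L ε) (hn : 3 ≤ n) (hAL : A ≤ L) (a : A) : Acts ε (a : G) (ph h hn hAL a) :=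
  h.acts_hom hn (Subgroup.inclusion hAL a)

theorem card_ker (h : EvenSet n V L ε) (hn : 3 ≤ n) (hAL : A ≤ L) :
    Nat.card (ph h hn hAL).ker = Nat.card ↥(A ⊓ centralizer (V : Set G)) := by
  have h1 : (ph h hn hAL).ker = (A ⊓ centralizer (V : Set G)).subgroupOf A := by
    ext a
    rw [MonoidHom.mem_ker, mem_subgroupOf, mem_inf, ← h.acts_one_iff (g := (a : G))]
    constructor
    · intro h2
      have h3 := ph_acts h hn hAL a
      rw [h2] at h3
      exact ⟨a.2, h3⟩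
    · rintro ⟨-, h2⟩
      exact h.acts_unique hn (ph_acts h hn hAL a) h2
  rw [h1]
  exact Nat.card_congr (Subgroup.subgroupOfEquivOfLe inf_le_left).toEquiv

/-- **Offenders on the even-subset module are generated by disjoint transpositions.** -/
theorem side_of_off [Finite G] [NeZero n] (h : EvenSet n V L ε) (hn : 3 ≤ n) (hAL : A ≤ L)
    (h0 : ∀ a ∈ A, ∀ σ : Equiv.Perm (Fin n), Acts ε a σ → σ 0 = 0) (hoff : Off V A) : Side A ε := by
  classical
  set φ := ph h hn hAL with hφ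
  have hact : ∀ a : A, Acts ε (a : G) (φ a) := ph_acts h hn hAL
  have hcomm : ∀ r s : φ.range, r * s = s * r := by
    rintro ⟨_, a, rfl⟩ ⟨_, b, rfl⟩
    apply Subtype.ext
    change φ a * φ b = φ b * φ a
    have h1 : a * b = b * a := hoff.elem.1.is_comm.comm a b
    rw [← map_mul, ← map_mul, h1]
  let iC : CommGroup φ.range := { (inferInstance : Group φ.range) with mul_comm := hcomm }
  -- `0` is fixed
  have hz : ∀ r : φ.range, (r : Equiv.Perm (Fin n)) 0 = 0 := by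
    rintro ⟨_, a, rfl⟩
    exact h0 _ a.2 _ (hact a)
  -- fixed vectors
  have hfix : ∀ x : Fin n → ZMod 2, ε x ∈ centralizer (A : Set G) → ∀ (r : φ.range) (i : Fin n),
      x ((r : Equiv.Perm (Fin n)) i) = x i := by
    rintro x hx ⟨_, a, rfl⟩ i
    have h1 : (a : G) * ε x * (a : G)⁻¹ = ε x := by
      rw [mem_centralizer_iff.1 hx _ a.2, mul_inv_cancel_right]
    rw [hact a x] at h1
    have h2 : x ∘ (φ a).symm = x := by
      rcases h.eq_iff.1 h1 with h3 | h3
      · exact h3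
      · exfalso
        have h4 := congrFun h3 0
        have h5 : (φ a).symm 0 = 0 := by
          rw [Equiv.symm_apply_eq]
          exact (h0 _ a.2 _ (hact a)).symm
        rw [Function.comp_apply, h5, Pi.add_apply, Pi.one_apply] at h4
        have h6 : ∀ t : ZMod 2, t ≠ t + 1 := by decide
        exact h6 _ h4
    have h3 := congrFun h2 (φ a i)
    rw [Function.comp_apply, Equiv.symm_apply_apply] at h3
    exact h3.symm
  have horb : ∀ x : Fin n → ZMod 2, ε x ∈ centralizer (A : Set G) → ∀ i : Fin n,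
      x ((Quotient.mk (MulAction.orbitRel φ.range (Fin n)) i).out) = x i := by
    intro x hx i
    obtain ⟨r, hr⟩ := MutE.Perm.out_mem (A := φ.range) i
    have h1 := hfix x hx r (Quotient.mk (MulAction.orbitRel φ.range (Fin n)) i).out
    have h2 : (r : Equiv.Perm (Fin n)) (Quotient.mk (MulAction.orbitRel φ.range (Fin n)) i).out = i := hr
    rw [h2] at h1
    exact h1.symm
  -- number of fixed vectors
  have hF : Nat.card ↥(V ⊓ centralizer (A : Set G)) * 2 ≤ 2 ^ Nat.card (Orb φ.range (Fin n)) := by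
    have hs : ∀ v : ↥(V ⊓ centralizer (A : Set G)), ∃ x, ε x = (v : G) := fun v => h.surj _ (mem_inf.1 v.2).1
    choose xx hxx using hs
    have h1 : Nat.card (Orb φ.range (Fin n) → ZMod 2) = 2 ^ Nat.card (Orb φ.range (Fin n)) := by
      rw [Nat.card_fun, Nat.card_eq_fintype_card (α := ZMod 2), ZMod.card]
    have h2 : Nat.card (↥(V ⊓ centralizer (A : Set G)) × ZMod 2) =
        Nat.card ↥(V ⊓ centralizer (A : Set G)) * 2 := by
      rw [Nat.card_prod, Nat.card_eq_fintype_card (α := ZMod 2), ZMod.card]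
    rw [← h1, ← h2]
    refine Nat.card_le_card_of_injective
      (fun p : ↥(V ⊓ centralizer (A : Set G)) × ZMod 2 => fun o : Orb φ.range (Fin n) =>
        xx p.1 o.out + (p.2 + xx p.1 0)) ?_
    rintro ⟨v, c⟩ ⟨w, d⟩ hvw
    have h3 : ∀ i, xx v i + (c + xx v 0) = xx w i + (d + xx w 0) := by
      intro i
      have h4 := congrFun hvw (Quotient.mk _ i)
      have h5 : ε (xx v) ∈ centralizer (A : Set G) := by rw [hxx]; exact (mem_inf.1 v.2).2
      have h6 : ε (xx w) ∈ centralizer (A : Set G) := by rw [hxx]; exact (mem_inf.1 w.2).2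
      simp only [] at h4
      rwa [horb _ h5, horb _ h6] at h4
    have hcd : c = d := by
      have h4 := h3 0
      have h5 : ∀ s t a b : ZMod 2, s + (a + s) = t + (b + t) → a = b := by decide
      exact h5 _ _ _ _ h4
    subst hcd
    have hvw' : v = w := by
      apply Subtype.ext
      rw [← hxx v, ← hxx w, h.eq_iff]
      have h7 : ∀ s t : ZMod 2, s = t ∨ s = t + 1 := by decide
      rcases h7 (xx v 0) (xx w 0) with h4 | h4
      · left
        funext i
        have h5 := h3 i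
        rw [h4] at h5
        exact add_right_cancel h5
      · right
        funext i
        have h5 := h3 i
        rw [h4] at h5
        rw [Pi.add_apply, Pi.one_apply]
        have h6 : ∀ a b c d : ZMod 2, a + (c + (d + 1)) = b + (c + d) → a = b + 1 := by decide
        exact h6 _ _ _ _ h5
    rw [hvw']
  -- the order of `V`
  have hV : 2 ^ n ≤ Nat.card V * 2 := by
    have h1 : Nat.card (Fin n → ZMod 2) = 2 ^ n := by
      rw [Nat.card_fun, Nat.card_eq_fintype_card (α := ZMod 2), ZMod.card, Nat.card_eq_fintype_card,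
        Fintype.card_fin]
    have h2 : Nat.card (V × ZMod 2) = Nat.card V * 2 := by
      rw [Nat.card_prod, Nat.card_eq_fintype_card (α := ZMod 2), ZMod.card]
    rw [← h1, ← h2]
    refine Nat.card_le_card_of_injective (fun x => ((⟨ε x, h.mem x⟩ : V), x 0)) ?_
    intro x y hxy
    have h3 : ε x = ε y := congrArg (fun p : V × ZMod 2 => (p.1 : G)) hxy
    have h4 : x 0 = y 0 := congrArg Prod.snd hxy
    rcases h.eq_iff.1 h3 with h5 | h5
    · exact h5
    · exfalso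
      have h6 := congrFun h5 0
      rw [Pi.add_apply, Pi.one_apply, h4] at h6
      have h7 : ∀ t : ZMod 2, t ≠ t + 1 := by decide
      exact h7 _ h6
  -- the count
  have hA : Nat.card φ.range * Nat.card ↥(A ⊓ centralizer (V : Set G)) = Nat.card A := by
    rw [← card_ker h hn hAL, ← Subgroup.index_ker, mul_comm]
    exact Subgroup.card_mul_index _
  have hle : 2 ^ (Nat.card (Fin n) - Nat.card (Orb φ.range (Fin n))) ≤ Nat.card φ.range := by
    have h1 := hoff.le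
    rw [← hA] at h1
    have hk : 0 < Nat.card ↥(A ⊓ centralizer (V : Set G)) := Nat.card_pos
    have h2 : Nat.card V ≤ Nat.card φ.range * Nat.card ↥(V ⊓ centralizer (A : Set G)) := by
      refine Nat.le_of_mul_le_mul_right (c := Nat.card ↥(A ⊓ centralizer (V : Set G))) ?_ hk
      calc _ ≤ _ := h1
        _ = _ := by ring
    have h3 : 2 ^ n ≤ Nat.card φ.range * 2 ^ Nat.card (Orb φ.range (Fin n)) := by
      calc 2 ^ n ≤ Nat.card V * 2 := hV
        _ ≤ Nat.card φ.range * Nat.card ↥(V ⊓ centralizer (A : Set G)) * 2 := Nat.mul_le_mul_right _ h2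
        _ = Nat.card φ.range * (Nat.card ↥(V ⊓ centralizer (A : Set G)) * 2) := by ring
        _ ≤ _ := Nat.mul_le_mul_left _ hF
    have h4 : Nat.card (Orb φ.range (Fin n)) ≤ n := by
      have := MutE.Perm.orb_le (A := φ.range) (Ω := Fin n)
      rwa [Nat.card_eq_fintype_card (α := Fin n), Fintype.card_fin] at this
    rw [Nat.card_eq_fintype_card (α := Fin n), Fintype.card_fin]
    refine Nat.le_of_mul_le_mul_right (c := 2 ^ Nat.card (Orb φ.range (Fin n))) ?_ (by positivity)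
    rwa [← pow_add, Nat.sub_add_cancel h4]
  have key := MutE.Perm.exists_swap_perm (A := φ.range) (Ω := Fin n)
    (fun r hr => Subtype.ext (Equiv.ext fun i => hr i)) hle
  intro a ha
  refine ⟨φ ⟨a, ha⟩, hact ⟨a, ha⟩, fun i hi => ⟨?_, ?_⟩⟩
  · have h1 : (⟨a, ha⟩ : A) * ⟨a, ha⟩ = 1 := by
      apply Subtype.ext
      have := hoff.elem.2 a ha
      rwa [pow_two] at this
    have h2 : φ ⟨a, ha⟩ * φ ⟨a, ha⟩ = 1 := by rw [← map_mul, h1, map_one]
    exact congrArg (fun τ : Equiv.Perm (Fin n) => τ i) h2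
  · obtain ⟨⟨_, b, rfl⟩, h1, h2, h3⟩ := key ⟨φ ⟨a, ha⟩, ⟨⟨a, ha⟩, rfl⟩⟩ i hi
    refine ⟨b, b.2, ?_⟩
    have h4 : φ b = Equiv.swap i (φ ⟨a, ha⟩ i) := by
      ext k
      congr 1
      by_cases hk : k = i
      · rw [hk, Equiv.swap_apply_left]
        exact h1
      · by_cases hk' : k = φ ⟨a, ha⟩ i
        · rw [hk', Equiv.swap_apply_right]
          exact h2
        · rw [Equiv.swap_apply_of_ne_of_ne hk hk']
          exact h3 k hk hk'
    rw [← h4]
    exact hact b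

end side

section eight

variable [Finite G] {S : Sylow 2 G} {P : Subgroup G} {m : ℕ} {ε : (Fin (2 ^ m + 1) → ZMod 2) → G}

/-- The frame of the case `J(S) ≰ O₂(P)`, for any labelling. -/
theorem hyp_of (hG : IsCharacteristicTwoType G) (hP : IsParS (S : Subgroup G) P) (hm : 2 ≤ m)
    (ev : EvenSet (2 ^ m + 1) (zl (S : Subgroup G) P) P ε) (fix0 : Fix0 ε (S : Subgroup G))
    (nJ : ¬ jj (S : Subgroup G) ≤ o2 P) : CaseJ.Base.Hyp S P ε where
  hG := hG
  hP := hP
  hm := hm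
  ev := ev
  fix0 := fix0
  off := fun A hA hoff => side_of_off ev (three_le (by omega)) (hA.trans hP.isLoc.le)
    (fun a ha σ hσ => fix0 a (hA ha) σ hσ) hoff
  nJ := nJ

/-- **The input `eight` of `HT/Five.lean`**: #16037 (8). -/
theorem eight (hFF : FFThm.Stmt.{u}) (hG : IsCharacteristicTwoType G) (hP : IsParS (S : Subgroup G) P)
    (hm : 3 ≤ m) (ev : EvenSet (2 ^ m + 1) (zl (S : Subgroup G) P) P ε) (fix0 : Fix0 ε (S : Subgroup G))
    {i j : Fin (2 ^ m + 1)} (hij : i ≠ j) (hb : ∃ b ∈ (S : Subgroup G), Acts ε b (Equiv.swap i j))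
    (nJ : ¬ jj (S : Subgroup G) ≤ o2 P) (R : Subgroup G) (hR : IsMinPar ((S : Subgroup G) ⊓ NN ε i j) R)
    (hRN : R ≤ NN ε i j) (hRV : ¬ R ≤ normalizer (zl (S : Subgroup G) P : Set G)) :
    ∀ v ∈ zl (S : Subgroup G) P, (∀ t ∈ (S : Subgroup G) ⊓ NN ε i j, t * v = v * t) → ∀ r ∈ R, r * v = v * r := by
  intro v hv hvc r hr
  have h1 := CaseJ.Eight.cent hFF (hyp_of hG hP (by omega) ev fix0 nJ) hm i j hij hb R hR hRN hRV hr
  exact (mem_centralizer_iff.1 h1 v (mem_inf.2 ⟨hv, mem_centralizer_iff.2 fun t ht => hvc t ht⟩)).symm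

end eight

end Cfsg.Agent.Omega.NSix.HT.EightIn

end

-- merged: Cfsg.Agent.Mrg.Omega.NSix.HT.Main
section

section


/-!
# OMEGA N6: (H2) without (ML) and THEOREM SN: #18920 (helper605), the assembly

`Pos S P ε`, `S` induces `(i j)`, `N = C_G(r_ij)`, `T₁ = S ∩ N`, `λ : O₂(N) → F₂` with kernel `Q0 ε i j`.

* `key_of` : (3) = `Four.Key`; `key_five` : (3) for `D = ⟨r_ij⟩`; `bl` : THEOREM BL* (case `J(S) ≤ O₂(P)`);
* `pos_false` : `Pos` is contradictory; `symH2 : SymH2 K` = (H2) of N6; `symBig : S5.Main.SymBig K` (leaf II.c),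
  for every class `K`, no hypotheses. FF theorem: `FFBr.ffthm`; case `J(S) ≰ O₂(P)`: 546's `EightIn.eight`.
-/

set_option autoImplicit false
set_option linter.unusedSectionVars false

namespace Cfsg.Agent.Omega.NSix.HT.Main

open Subgroup Cfsg Cfsg.Agent.Omega.MinPar
open Cfsg.Agent.ZN (o2 zc zl jj)
open Cfsg.Agent.ZN.ChoiceSit (Syl)
open Cfsg.Agent.MinSimple.VModule (o2_le o2_isPGroup le_normalizer_o2 le_o2 mem_zc oddGen)
open Cfsg.Agent.Omega.S5.Def Cfsg.Agent.Omega.S5.Syl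
open Cfsg.Agent.Omega.NSix.Base Cfsg.Agent.Omega.NSix.Basic Cfsg.Agent.Omega.NSix.Engine
open Cfsg.Agent.Omega.NSix.CosetAct (V0 mem_V0)
open Cfsg.Agent.Omega.NSix.HTwo.LemTwo (XX In V0_le V0_le_UU)
open Cfsg.Agent.Omega.NSix.HTwo.Main (Pos)
open Cfsg.Agent.Omega.NSix.HTwo.StepC (sy_of nc_of in_of)
open Cfsg.Agent.Omega.NSix.HT.Five (Q0)
open Cfsg.Agent.Omega.Frame (Ctx Cls)
open Cfsg.Agent.MinSimple.MinParabolic (IsMinPar)
open Cfsg.Agent.Omega.S5.SymBig (H2 Pr SymH2)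
open Cfsg.Agent.Omega

universe u

section

variable {G : Type u} [Group G] [Finite G] {m : ℕ} {S : Sylow 2 G} {V P : Subgroup G}
  {ε : (Fin (2 ^ m + 1) → ZMod 2) → G} {i j : Fin (2 ^ m + 1)}

/-- (3) in the form used in (4) -/
theorem key_of (h : In S V P ε i j) : Four.Key V ε i j := by
  intro D T R hD hr hT hR hRD hmv hcomm
  have hDV : D ≤ V := hD.trans (V0_le h.hyp)
  have hRN : R ≤ NN ε i j := hRD.trans (centralizer_le_NN h hr)
  obtain ⟨⟨t, ht, hto⟩, h2, h3⟩ := Key.key h.hyp h.ij h.evL h.cut hr (hD.trans V0_le_UU)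
    (hT.1.trans inf_le_right) (XX_le_syl h hDV hT) (syl_D h hDV hr hT) hR hRD ((Five.mv_iff hRN).2 hmv)
    fun g hg v hv w hw => by
      have h1 := hcomm g hg 1 (one_mem _) v hv w hw
      simpa only [_root_.one_mul, _root_.inv_one, _root_.mul_one] using h1
  refine ⟨fun t ht s hs htK hsK => ?_, fun hX => hto (hX ht), h3⟩
  have h4 := h2 t⁻¹ (inv_mem ht) s⁻¹ (inv_mem hs) (fun h5 => htK (inv_mem_iff.1 h5))
    fun h5 => hsK (inv_mem_iff.1 h5)
  rwa [inv_inv] at h4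

/-- (3) for `D = ⟨r_ij⟩` -/
theorem key_five (h : In S V P ε i j) {R : Subgroup G} (hR : IsMinPar ((S : Subgroup G) ⊓ NN ε i j) R)
    (hRN : R ≤ NN ε i j) (hmv : ¬ R ≤ normalizer (Q0 ε i j : Set G))
    (hcomm : ∀ g ∈ R, ∀ g' ∈ R, ∀ v ∈ V, ∀ w ∈ V,
      g * v * g⁻¹ * (g' * w * g'⁻¹) = g' * w * g'⁻¹ * (g * v * g⁻¹)) :
    ∀ v ∈ V, (∀ t ∈ (S : Subgroup G) ⊓ NN ε i j, t * v = v * t) → ∀ r ∈ R, r * v = v * r := by
  have hC : centralizer ((zpowers (rr ε i j) : Subgroup G) : Set G) = NN ε i j := by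
    rw [zpowers_eq_closure, centralizer_closure]
    rfl
  have h1 := Key.key h.hyp h.ij h.evL h.cut (D := zpowers (rr ε i j)) (T := (S : Subgroup G) ⊓ NN ε i j)
    (mem_zpowers _) (zpowers_le.2 (h.hyp.rr_mem_U h.ij)) (inf_le_left.trans h.SL) h.XX_le_T
    (by rw [hC]; exact h.syl) hR (by rw [hC]; exact hRN) ((Five.mv_iff hRN).2 hmv)
    fun g hg v hv w hw => by
      have h1 := hcomm g hg 1 (one_mem _) v hv w hw
      simpa only [_root_.one_mul, _root_.inv_one, _root_.mul_one] using h1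
  exact h1.2.2

/-- THEOREM BL* -/
theorem bl (hFF : FFThm.Stmt.{u}) (hG : IsCharacteristicTwoType G) (hP : IsParS (S : Subgroup G) P)
    (h : In S (zl (S : Subgroup G) P) P ε i j) (hJ : jj (S : Subgroup G) ≤ o2 P) {R : Subgroup G}
    (hR : IsMinPar ((S : Subgroup G) ⊓ NN ε i j) R) (hRN : R ≤ NN ε i j)
    (hJR : ¬ jj (S : Subgroup G) ≤ o2 R) : R ≤ centralizer ({zz ε 0} : Set G) := by
  set T := (S : Subgroup G) ⊓ NN ε i j with hTdef
  have hTR : T ≤ R := hR.le
  have hT : Syl T R := by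
    obtain ⟨h1, h2, h3⟩ := h.syl
    exact ⟨hTR, h2, fun Q hQR hQ hTQ => h3 Q (hQR.trans hRN) hQ hTQ⟩
  have hcN : NN ε i j ⊓ centralizer (o2 (NN ε i j) : Set G) ≤ o2 (NN ε i j) :=
    MinSimple.Basic.char2_centralizer hG (by rw [pow_two]; exact rr_sq h.hyp.ev i j)
      (rr_ne_one h.hyp.ev h.three h.ij)
  have hO : OmegaOne.Hyp (zl (S : Subgroup G) P) P S ε := by
    refine ⟨h.hyp.ev, hP.le, MinSimple.VModule.zc_le_zl _ _, h.hyp.pair, h.hyp.le, ?_⟩
    obtain ⟨a, b, hab, g, hg, -, hgV⟩ := h.hyp.mov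
    exact ⟨a, b, hab, g, hg, hgV⟩
  have hinf := hP.inf_centralizer S hG
  have hQT : o2 P ≤ T := by
    intro q hq
    have h1 : q ∈ (S : Subgroup G) ⊓ centralizer (zl (S : Subgroup G) P : Set G) := by rw [hinf]; exact hq
    exact ⟨h1.1, mem_NN.2 (mem_centralizer_iff.1 h1.2 _ (rr_mem h.hyp.ev i j)).symm⟩
  have hz : ∀ s ∈ (S : Subgroup G), s * zz ε 0 = zz ε 0 * s := by
    intro t ht
    obtain ⟨σ, hσ⟩ := h.hyp.ev.perm t (h.SP ht)
    have h1 := zz_conj hσ 0
    rw [h.fix0 t ht σ hσ] at h1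
    exact mul_inv_eq_iff_eq_mul.1 h1
  have h1 : zc T ≤ centralizer (oddGen R : Set G) :=
    NoBlk.Main.cen_zc hFF (NoBlk.Main.dat_par hG hP h.hyp.ev (OmegaOne.zc_o2_par hG h.hyp.n5 hP hO) hJ)
      (by have := h.hm; omega) hQT hT hR
      (HTwo.StepFour.char2_of hcN hRN (h.o2_le_T.trans hTR)) (rr_mem h.hyp.ev i j)
      (rr_ne_one h.hyp.ev h.three h.ij) hRN hJR
  have h2 : zz ε 0 ∈ zc T := HTwo.StepFour.zz_mem_zc hG hP h.hyp hz
  have h3 : oddGen R ⊔ T = R := TTn.DiCoreAbs.oddGen_sup hTR fun h4 => h.not_dvd (by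
    rw [← relIndex_mul_relIndex _ R (NN ε i j) hTR hRN]
    exact h4.mul_right _)
  rw [← h3]
  refine sup_le (fun x hx => ?_) fun t ht => mem_centralizer_singleton_iff.2 (hz t ht.1)
  exact mem_centralizer_singleton_iff.2 (mem_centralizer_iff.1 (h1 h2) x hx)

/-- `V ≤ Z(O₂(C_G(z_k)))`: the `C_G(z_k)`-conjugates of `V` commute -/
theorem comm_zz (h : Pos S P ε) (k : Fin (2 ^ m + 1)) {g g' : G} (hg : g ∈ centralizer ({zz ε k} : Set G))
    (hg' : g' ∈ centralizer ({zz ε k} : Set G)) : ∀ v ∈ zl (S : Subgroup G) P, ∀ w ∈ zl (S : Subgroup G) P,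
      g * v * g⁻¹ * (g' * w * g'⁻¹) = g' * w * g'⁻¹ * (g * v * g⁻¹) := by
  have hV : zl (S : Subgroup G) P ≤ o2 (centralizer ({zz ε k} : Set G)) ⊓
      centralizer (o2 (centralizer ({zz ε k} : Set G)) : Set G) := by
    refine le_inf (PtCen.le_o2_cent h.c2 S h.m3 h.hyp.ev h.par.le h.fix0 k) fun v hv => ?_
    refine mem_centralizer_iff.2 fun x hx => ?_
    exact (mem_centralizer_iff.1 (Fix.o2_le_cent S h.m3 h.hyp.ev h.par.le h.fix0 k hx) v hv).symm
  intro v hv w hw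
  have h1 := Fix.conj_center (mem_centralizer_singleton_iff.1 hg) (hV hv)
  have h2 := Fix.conj_center (mem_centralizer_singleton_iff.1 hg') (hV hw)
  exact mem_centralizer_iff.1 h2.2 _ h1.1

end

section

variable {G : Type u} [Group G] [Finite G] {m : ℕ} {S : Sylow 2 G} {P : Subgroup G}
  {ε : (Fin (2 ^ m + 1) → ZMod 2) → G}

/-- **#18920**: `Pos` is contradictory -/
theorem pos_false (h : Pos S P ε) : False := by
  obtain ⟨i, j, hij, hsw⟩ := PairCen.exists_swap_mem (by have := h.m3; omega) h.hyp.ev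
    (MinSimple.Basic.not_dvd_relIndex S h.par.le)
  have hI := in_of h hij hsw
  obtain ⟨R, -, h1, h2, h3⟩ := Five.five hI h.c2 h.par (fun R hR hRN hmv hc => key_five hI hR hRN hmv hc)
    (fun hJ R hR hRN hJR => bl FFBr.ffthm h.c2 h.par hI hJ hR hRN hJR)
    (fun hJ R hR hRN hRL => EightIn.eight FFBr.ffthm h.c2 h.par h.m3 h.hyp.ev h.fix0 hij hsw hJ R hR hRN hRL)
    (Fix.not_le_normalizer h hI)
  exact h3 ((le_inf h1 h2).trans (Four.four hI h.m3 (nc_of h) (key_of hI)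
    fun g hg g' hg' => comm_zz h 0 hg hg'))

end

end Cfsg.Agent.Omega.NSix.HT.Main

end

section


/-!
# `C_G(r_ij) ≤ N_G(V)` for a free member `S_{2^m+1}`, `m ≥ 3`, which is moved by some `WP ε i j` (partner-free)

(H2) fails: `HT.Main.pos_false` (helper605 and others).  (H2) holds: `Zero.sixL`, `EndL.SixL.nn_le`.
-/

set_option autoImplicit false

namespace Cfsg.Agent.Omega.IId.SymMany

open Subgroup Cfsg Cfsg.Agent.Omega.MinPar
open Cfsg.Agent.ZN (o2 zc zl)
open Cfsg.Agent.Omega.Frame (Ctx Cls)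
open Cfsg.Agent.Omega.S5.Def Cfsg.Agent.Omega.S5.Syl
open Cfsg.Agent.Omega.S5.NatBig (Facts)
open Cfsg.Agent.Omega.NSix.Base Cfsg.Agent.Omega.NSix.Basic
open Cfsg.Agent.Omega.NSix.Zero (WP)
open Cfsg.Agent.Omega.NSix.Engine (D4)

universe u

/-- **`C_G(r_ij) ≤ N_G(V)`** -/
theorem nn_le {G : Type u} [Group G] [Finite G] (hG : IsCharacteristicTwoType G) (S : Sylow 2 G)
    {P : Subgroup G} (hP : IsParS (S : Subgroup G) P) {m : ℕ} (hm : 3 ≤ m) {ε : (Fin (2 ^ m + 1) → ZMod 2) → G}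
    (ev : EvenSet (2 ^ m + 1) (zl (S : Subgroup G) P) P ε) (h0 : Fix0 ε (S : Subgroup G)) (Fa : Facts ε P)
    (mov : ∃ i j, i ≠ j ∧ ∃ g ∈ WP ε i j, g * g ∈ zpowers (rr ε i j) ∧
      ¬ g ∈ centralizer (zl (S : Subgroup G) P : Set G)) :
    ∀ i j, i ≠ j → NN ε i j ≤ normalizer (zl (S : Subgroup G) P : Set G) := by
  have h5 : 5 ≤ 2 ^ m + 1 := five_le (by omega)
  have h7 : 7 ≤ 2 ^ m + 1 := by
    have : 2 ^ 3 ≤ 2 ^ m := Nat.pow_le_pow_right (by norm_num) hm
    omega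
  have hodd : Odd (2 ^ m + 1) := Even.add_one (Nat.even_pow.mpr ⟨even_two, by omega⟩)
  have hZ : zc (S : Subgroup G) ≤ zl (S : Subgroup G) P := MinSimple.VModule.zc_le_zl _ _
  have hpair : ∀ i j k, i ≠ j → k ≠ i → k ≠ j → ∀ q ∈ o2 (NN ε i j), q * zz ε k = zz ε k * q :=
    fun i j k hij hki hkj q hq => Fa.pair i j hij k hki hkj q hq
  have hH : NSix.Engine.Hyp (zl (S : Subgroup G) P) P ε :=
    NSix.Engine.Hyp.of hG h5 hodd ev S hP.le hZ hpair Fa.le mov
  by_cases hcom : ∃ i j k l, D4 i j k l ∧ ∀ u ∈ UU ε i j, ∀ y ∈ UU ε k l, u * y = y * u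
  · obtain ⟨a, b, c, d, hD, hc⟩ := hcom
    have h6 := NSix.Zero.sixL hG hm ev S hP.le h0 hZ hpair Fa.le
      (fun i j k l hij hkl hik hil hjk hjl => hH.hq_of_comm
        (fun {_ _ _ _} hD' => hH.comm_transfer hD hD' hc) ⟨hij, hik, hil, hjk, hjl, hkl⟩)
      (by obtain ⟨i, j, hij, g, hg, -, hgV⟩ := mov; exact ⟨i, j, hij, g, hg, hgV⟩)
    exact fun i j hij => h6.nn_le hodd h7 hij
  · exfalso
    push Not at hcom
    have hpos : NSix.HTwo.Main.Pos S P ε := ⟨hG, hm, hP, hH, h0, fun i j k l hD hc => by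
      obtain ⟨u, hu, y, hy, hne⟩ := hcom i j k l hD
      exact hne (hc u hu y hy)⟩
    exact NSix.HT.Main.pos_false hpos

end Cfsg.Agent.Omega.IId.SymMany

end

section


/-!
# A 2-group of permutations normalised by `Sym(B) × Sym(Bᶜ)`, `|Bᶜ|` odd

`x : Fin n → ZMod 2` (the characteristic function of `B`, `∑ x = 0`, `n` odd), `H` a group of permutations fixing `x`,
all elements of 2-power order, normalised by the transpositions `(d e)`, `x d = x e`; `H ≠ 1`: then `|B| ≤ 4`.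
-/

set_option autoImplicit false

namespace Cfsg.Agent.Omega.IId.SymMany

open Equiv

/-- the number of points of `x` -/
def wt {n : ℕ} (x : Fin n → ZMod 2) : ℕ := ∑ t, (x t).val

theorem z2c (x : ZMod 2) : x = 0 ∨ x = 1 := by
  revert x
  decide

theorem wt_union {n : ℕ} (x y : Fin n → ZMod 2) :
    wt x + wt y + wt (x + y) = 2 * wt (x + y + x * y) := by
  have key : ∀ a b : ZMod 2, a.val + b.val + (a + b).val = 2 * (a + b + a * b).val := by decide
  unfold wt
  rw [← Finset.sum_add_distrib, ← Finset.sum_add_distrib, Finset.mul_sum]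
  exact Finset.sum_congr rfl fun t _ => key _ _

theorem wt_add_one {n : ℕ} (x : Fin n → ZMod 2) : wt x + wt (x + 1) = n := by
  have key : ∀ a : ZMod 2, a.val + (a + 1).val = 1 := by decide
  unfold wt
  rw [← Finset.sum_add_distrib]
  calc ∑ t, ((x t).val + ((x + 1) t).val) = ∑ _t : Fin n, 1 := Finset.sum_congr rfl fun t _ => key _
    _ = n := by simp only [_root_.Finset.sum_const, _root_.Finset.card_univ, _root_.Fintype.card_fin, _root_.smul_eq_mul, _root_.mul_one]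

theorem wt_zero {n : ℕ} : wt (0 : Fin n → ZMod 2) = 0 := by
  unfold wt
  exact Finset.sum_eq_zero fun t _ => by simp

theorem wt_single_add {n : ℕ} {i j : Fin n} (hij : i ≠ j) :
    wt (Pi.single i 1 + Pi.single j 1 : Fin n → ZMod 2) = 2 := by
  classical
  have h1 : ∀ t, ((Pi.single i 1 + Pi.single j 1 : Fin n → ZMod 2) t).val =
      (if t = i then 1 else 0) + if t = j then 1 else 0 := by
    intro t
    rw [Pi.add_apply]
    by_cases h : t = i
    · subst h
      rw [Pi.single_eq_same, Pi.single_eq_of_ne hij, if_pos rfl, if_neg hij]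
      decide
    · rw [Pi.single_eq_of_ne h, if_neg h]
      by_cases h' : t = j
      · subst h'
        rw [Pi.single_eq_same, if_pos rfl]
        decide
      · rw [Pi.single_eq_of_ne h', if_neg h']
        decide
  unfold wt
  rw [Finset.sum_congr rfl fun t _ => h1 t, Finset.sum_add_distrib, Finset.sum_ite_eq', Finset.sum_ite_eq']
  simp only [_root_.Finset.mem_univ, ↓ _root_.reduceIte, _root_.Nat.reduceAdd]

/-- a nonzero even set has at least two points -/
theorem two_le_wt {n : ℕ} {x : Fin n → ZMod 2} (h0 : ∑ t, x t = 0) (hx : x ≠ 0) : 2 ≤ wt x := by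
  have h1 : ((wt x : ℕ) : ZMod 2) = 0 := by
    unfold wt
    rw [Nat.cast_sum, ← h0]
    exact Finset.sum_congr rfl fun t _ => ZMod.natCast_zmod_val _
  have h2 : wt x ≠ 0 := by
    intro h
    apply hx
    funext t
    have h3 := (Finset.sum_eq_zero_iff.1 h) t (Finset.mem_univ t)
    exact (ZMod.val_eq_zero _).1 h3
  have h3 : 2 ∣ wt x := (ZMod.natCast_eq_zero_iff _ _).1 h1
  omega

section lemC

variable {n : ℕ} {x : Fin n → ZMod 2} {H : Subgroup (Perm (Fin n))}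

/-- the hypotheses -/
structure Hc (x : Fin n → ZMod 2) (H : Subgroup (Perm (Fin n))) : Prop where
  two : ∀ σ ∈ H, ∃ s : ℕ, σ ^ (2 ^ s) = 1
  fix : ∀ σ ∈ H, ∀ t, x (σ t) = x t
  norm : ∀ d e, x d = x e → ∀ σ ∈ H, swap d e * σ * swap d e ∈ H

variable (h : Hc x H)
include h

theorem Hc.mem {σ : Perm (Fin n)} (hσ : σ ∈ H) {d e : Fin n} (he : x d = x e) :
    swap (σ d) (σ e) * swap d e ∈ H := by
  have h1 := H.mul_mem hσ (h.norm d e he σ⁻¹ (H.inv_mem hσ))
  have h2 : σ * (swap d e * σ⁻¹ * swap d e) = swap (σ d) (σ e) * swap d e := by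
    rw [← mul_assoc, ← mul_assoc, ← Equiv.swap_apply_apply]
  rwa [h2] at h1

omit h in
/-- `(a b)(b c)` is no 2-element -/
theorem three_cycle {a b c : Fin n} (hab : a ≠ b) (hbc : b ≠ c) (hac : a ≠ c) (s : ℕ)
    (h1 : (swap a b * swap b c) ^ (2 ^ s) = 1) : False := by
  set ρ := swap a b * swap b c with hρ
  have e1 : ρ a = b := by
    rw [hρ, Perm.mul_apply, swap_apply_of_ne_of_ne hab hac, swap_apply_left]
  have e2 : ρ b = c := by
    rw [hρ, Perm.mul_apply, swap_apply_left, swap_apply_of_ne_of_ne hac.symm hbc.symm]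
  have e3 : ρ c = a := by
    rw [hρ, Perm.mul_apply, swap_apply_right, swap_apply_right]
  have h3 : ρ ^ 3 = 1 := by
    ext t
    rw [pow_succ, pow_two, Perm.mul_apply, Perm.mul_apply]
    by_cases ha : t = a
    · subst ha; rw [e1, e2, e3]; rfl
    by_cases hb : t = b
    · subst hb; rw [e2, e3, e1]; rfl
    by_cases hc : t = c
    · subst hc; rw [e3, e1, e2]; rfl
    have e4 : ρ t = t := by
      rw [hρ, Perm.mul_apply, swap_apply_of_ne_of_ne hb hc, swap_apply_of_ne_of_ne ha hb]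
    rw [e4, e4, e4]
    rfl
  have h4 : orderOf ρ ∣ 3 := orderOf_dvd_of_pow_eq_one h3
  have h5 : orderOf ρ ∣ 2 ^ s := orderOf_dvd_of_pow_eq_one h1
  have h6 : Nat.Coprime 3 (2 ^ s) := Nat.Coprime.pow_right s (by norm_num)
  have h7 : orderOf ρ = 1 := Nat.eq_one_of_dvd_coprimes h6 h4 h5
  rw [orderOf_eq_one_iff] at h7
  rw [h7] at e1
  exact hab e1

/-- `σ² = 1` -/
theorem Hc.inv {σ : Perm (Fin n)} (hσ : σ ∈ H) {d : Fin n} (hd : σ d ≠ d) : σ (σ d) = d := by
  by_contra hne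
  set e := σ d with he
  have h1 := h.mem hσ (d := d) (e := e) (h.fix σ hσ d).symm
  rw [← he, swap_comm e (σ e), swap_comm d e] at h1
  obtain ⟨s, hs⟩ := h.two _ h1
  exact three_cycle (fun h2 => hd (σ.injective (h2.trans he))) hd (fun h2 => hne h2) s hs

/-- a moved point moves its class -/
theorem Hc.move {σ : Perm (Fin n)} (hσ : σ ∈ H) {d e : Fin n} (hd : σ d ≠ d) (hde : x d = x e) : σ e ≠ e := by
  intro hee
  have hne : d ≠ e := fun h1 => hd (by rw [h1]; exact hee)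
  have hne2 : σ d ≠ e := fun h1 => hne (σ.injective (h1.trans hee.symm))
  have h1 := h.mem hσ hde
  rw [hee, swap_comm d e] at h1
  obtain ⟨s, hs⟩ := h.two _ h1
  exact three_cycle hne2 hne.symm hd s hs

/-- the points off `B` are fixed -/
theorem Hc.fix0 (hn : Odd n) (h0 : ∑ t, x t = 0) {σ : Perm (Fin n)} (hσ : σ ∈ H) {d : Fin n} (hd : x d = 0) :
    σ d = d := by
  by_contra hne
  have h1 : ∀ e, x e = 0 → σ e ≠ e := fun e he => h.move hσ hne (hd.trans he.symm)
  -- the number of the points off `B` is odd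
  have h2 : ∑ t ∈ Finset.univ.filter (fun t => x t = 0), (1 : ZMod 2) = 0 := by
    refine Finset.sum_involution (fun t _ => σ t) (fun t _ => by decide) (fun t ht _ => ?_) (fun t ht => ?_)
      (fun t ht => ?_)
    · exact h1 t (Finset.mem_filter.1 ht).2
    · exact Finset.mem_filter.2 ⟨Finset.mem_univ _, (h.fix σ hσ t).trans (Finset.mem_filter.1 ht).2⟩
    · exact h.inv hσ (h1 t (Finset.mem_filter.1 ht).2)
  have h3 : ∑ t : Fin n, (x t + 1) = ∑ t ∈ Finset.univ.filter (fun t => x t = 0), (1 : ZMod 2) := by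
    rw [Finset.sum_filter]
    refine Finset.sum_congr rfl fun t _ => ?_
    rcases z2c (x t) with h4 | h4
    · rw [h4, if_pos rfl]; decide
    · rw [h4, if_neg (by decide)]; decide
  rw [h2, Finset.sum_add_distrib, h0, zero_add, Finset.sum_const, Finset.card_univ, Fintype.card_fin,
    nsmul_eq_mul, mul_one] at h3
  have h4 := (ZMod.natCast_eq_zero_iff _ _).1 h3
  obtain ⟨k, hk⟩ := hn
  omega

/-- **`|B| ≤ 4`** -/
theorem Hc.wt_le (hn : Odd n) (h0 : ∑ t, x t = 0) (hne : ∃ σ ∈ H, σ ≠ 1) : wt x ≤ 4 := by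
  classical
  obtain ⟨σ, hσ, hσ1⟩ := hne
  obtain ⟨d, hd⟩ : ∃ d, σ d ≠ d := by
    by_contra hcon
    push Not at hcon
    exact hσ1 (Equiv.ext hcon)
  have hd1 : x d = 1 := (z2c (x d)).resolve_left fun h1 => hd (h.fix0 hn h0 hσ h1)
  by_contra hw
  push Not at hw
  set B := Finset.univ.filter (fun t => x t = 1) with hB
  have hcard : B.card = wt x := by
    rw [hB, Finset.card_filter, wt]
    refine Finset.sum_congr rfl fun t _ => ?_
    rcases z2c (x t) with h4 | h4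
    · rw [h4, if_neg (by decide)]; decide
    · rw [h4, if_pos rfl]; decide
  have hex : ∀ s : Finset (Fin n), s.card ≤ 4 → ∃ e ∈ B, e ∉ s := by
    intro s hs
    by_contra hcon
    push Not at hcon
    have h1 := Finset.card_le_card (show B ⊆ s from fun t ht => hcon t ht)
    omega
  obtain ⟨e, heB, he⟩ := hex {d, σ d} (Finset.card_le_two.trans (by norm_num))
  rw [Finset.mem_insert, Finset.mem_singleton, not_or] at he
  obtain ⟨hed, heσ⟩ := he
  have he1 : x e = 1 := (Finset.mem_filter.1 heB).2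
  have hmv : ∀ t, x t = 1 → σ t ≠ t := fun t ht => h.move hσ hd (hd1.trans ht.symm)
  have hρ := h.mem hσ (hd1.trans he1.symm)
  set ρ := swap (σ d) (σ e) * swap d e with hρd
  have h1 : ρ d = e := by
    rw [hρd, Perm.mul_apply, swap_apply_left, swap_apply_of_ne_of_ne heσ (Ne.symm (hmv e he1))]
  obtain ⟨f, hfB, hf⟩ := hex {d, e, σ d, σ e} (Finset.card_le_four)
  simp only [Finset.mem_insert, Finset.mem_singleton, not_or] at hf
  obtain ⟨f1, f2, f3, f4⟩ := hf
  have h2 : ρ f = f := by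
    rw [hρd, Perm.mul_apply, swap_apply_of_ne_of_ne f1 f2, swap_apply_of_ne_of_ne f3 f4]
  exact h.move hρ (d := d) (e := f) (by rw [h1]; exact hed) (hd1.trans (Finset.mem_filter.1 hfB).2.symm) h2

end lemC

end Cfsg.Agent.Omega.IId.SymMany

end

section


/-!
# OMEGA N6, (H2) by #18920 (helper605): the input `bl` of (5)  (helper840)

`bl` : `J(S) ≤ O₂(P)`: the minimal parabolics `R` over `T₁ = C_S(r_ij)` in `C_G(r_ij)` with `J(S) ≰ O₂(R)` centralise
`Ω₁Z(T₁) ∋ z_0` (THEOREM BL*, helper107).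
-/

set_option autoImplicit false
set_option linter.unusedSectionVars false

namespace Cfsg.Agent.Omega.NSix.HT.Bl

open Subgroup Cfsg Cfsg.Agent.Omega.MinPar
open Cfsg.Agent.ZN (o2 zc zl jj)
open Cfsg.Agent.ZN.ChoiceSit (Syl)
open Cfsg.Agent.MinSimple.VModule (o2_le o2_isPGroup le_normalizer_o2 le_o2 mem_zc oddGen)
open Cfsg.Agent.Omega.S5.Def Cfsg.Agent.Omega.S5.Syl
open Cfsg.Agent.Omega.NSix.Base Cfsg.Agent.Omega.NSix.Basic Cfsg.Agent.Omega.NSix.Engine
open Cfsg.Agent.Omega.NSix.HTwo.LemTwo (XX In)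
open Cfsg.Agent.Omega.NSix.HTwo.Main (Pos)
open Cfsg.Agent.MinSimple.MinParabolic (IsMinPar)

universe u

variable {G : Type u} [Group G] [Finite G] {S : Sylow 2 G} {P : Subgroup G} {m : ℕ}
  {ε : (Fin (2 ^ m + 1) → ZMod 2) → G} {i j : Fin (2 ^ m + 1)}

/-- `z_0 ∈ Ω₁Z(T)` for `O₂(P) ≤ T ≤ S`, `T` over `V` -/
theorem zz_zero_mem (h : Pos S P ε) {T : Subgroup G} (hT : T ≤ (S : Subgroup G))
    (hV : zl (S : Subgroup G) P ≤ T) : zz ε 0 ∈ zc T := by
  refine mem_zc.2 ⟨hV (zz_mem h.hyp.ev 0), fun t ht => ?_, by rw [pow_two]; exact zz_sq h.hyp.ev 0⟩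
  obtain ⟨σ, hσ⟩ := h.hyp.ev.perm t (h.par.le (hT ht))
  have h1 := zz_conj hσ 0
  rw [h.fix0 t (hT ht) σ hσ] at h1
  exact mul_inv_eq_iff_eq_mul.1 h1

/-- **`bl`** of `Five.five` -/
theorem bl (h : Pos S P ε) (hI : In S (zl (S : Subgroup G) P) P ε i j) :
    jj (S : Subgroup G) ≤ o2 P → ∀ R : Subgroup G, IsMinPar ((S : Subgroup G) ⊓ NN ε i j) R →
      R ≤ NN ε i j → ¬ jj (S : Subgroup G) ≤ o2 R → R ≤ centralizer ({zz ε 0} : Set G) := by
  intro hJ R hR hRN hJR
  set T := (S : Subgroup G) ⊓ NN ε i j with hTdef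
  have hO : OmegaOne.Hyp (zl (S : Subgroup G) P) P S ε := by
    refine ⟨h.hyp.ev, h.par.le, MinSimple.VModule.zc_le_zl _ _, h.hyp.pair, h.hyp.le, ?_⟩
    obtain ⟨a, b, hab, g, hg, -, hgV⟩ := h.hyp.mov
    exact ⟨a, b, hab, g, hg, hgV⟩
  have D := NoBlk.Main.dat_par h.c2 h.par h.hyp.ev (OmegaOne.zc_o2_par h.c2 h.hyp.n5 h.par hO) hJ
  have hV : zl (S : Subgroup G) P ≤ zc (o2 P) := h.par.isLoc.zl_le S h.c2
  have hinf := h.par.inf_centralizer S h.c2
  have hQT : o2 P ≤ T := by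
    intro q hq
    have h1 : q ∈ (S : Subgroup G) ⊓ centralizer (zl (S : Subgroup G) P : Set G) := by rw [hinf]; exact hq
    exact ⟨h1.1, mem_NN.2 (mem_centralizer_iff.1 h1.2 _ (rr_mem h.hyp.ev i j)).symm⟩
  have hVT : zl (S : Subgroup G) P ≤ T := (hV.trans (MinSimple.VModule.zc_le _)).trans hQT
  have hT : Syl T R := by
    obtain ⟨h1, h2, h3⟩ := hI.syl
    exact ⟨hR.le, h2, fun Q hQR hQ hTQ => h3 Q (hQR.trans hRN) hQ hTQ⟩
  have hcN : NN ε i j ⊓ centralizer (o2 (NN ε i j) : Set G) ≤ o2 (NN ε i j) :=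
    MinSimple.Basic.char2_centralizer h.c2 (by rw [pow_two]; exact rr_sq hI.hyp.ev i j)
      (rr_ne_one hI.hyp.ev hI.three hI.ij)
  have hc : R ⊓ centralizer (o2 R : Set G) ≤ o2 R := HTwo.StepFour.char2_of hcN hRN (hI.o2_le_T.trans hR.le)
  have h1 := NoBlk.Main.cen_zc FFBr.ffthm D (by have := h.m3; omega) hQT hT hR hc (rr_mem h.hyp.ev i j)
    (rr_ne_one hI.hyp.ev hI.three hI.ij) hRN hJR
  have h0 := zz_zero_mem h (T := T) inf_le_left hVT
  have h2 : oddGen R ≤ centralizer ({zz ε 0} : Set G) := fun x hx =>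
    mem_centralizer_singleton_iff.2 (mem_centralizer_iff.1 (h1 h0) x hx)
  have h3 : T ≤ centralizer ({zz ε 0} : Set G) := fun x hx =>
    mem_centralizer_singleton_iff.2 ((mem_zc.1 h0).2.1 x hx)
  rw [← TTn.DiCoreAbs.oddGen_sup hR.le (ZN.ChoiceSit.syl_not_dvd hT)]
  exact sup_le h2 h3

end Cfsg.Agent.Omega.NSix.HT.Bl

end

section


/-!
# OMEGA N6, #18920 (helper605): (3) plugged into (4) and (5)  (helper537)

* `key4 : Four.Key V ε i j` : (3) in the form of 605's (4);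
* `ki` : the setting of (3) for `D = ⟨r_ij⟩`, `T = T₁`;
* `five` : (5) with (3) and 628's `Eight.cent` plugged; `bl` (107's THEOREM BL*) and `off` are left.
-/

set_option autoImplicit false
set_option linter.unusedSectionVars false

namespace Cfsg.Agent.Omega.NSix.HT.FivePlug

open Subgroup Cfsg Cfsg.Agent.Omega.MinPar
open Cfsg.Agent.ZN (o2 zc zl jj zj)
open Cfsg.Agent.ZN.ChoiceSit (Syl)
open Cfsg.Agent.MinSimple.VModule (o2_le o2_isPGroup le_normalizer_o2 le_o2 mem_zc)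
open Cfsg.Agent.Omega.S5.Def Cfsg.Agent.Omega.S5.Syl Cfsg.Agent.Omega.S5.Pair
open Cfsg.Agent.Omega.FFThm (Off)
open Cfsg.Agent.Omega.NSix.Base Cfsg.Agent.Omega.NSix.Basic Cfsg.Agent.Omega.NSix.Engine
open Cfsg.Agent.Omega.NSix.CosetAct (V0 mem_V0)
open Cfsg.Agent.Omega.NSix.HTwo.LemTwo (In XX mem_XX KK_le_NN KK_eq V0_le_UU)
open Cfsg.Agent.Omega.NSix.HT.Five (Q0 fix_of_acts mv_iff)
open Cfsg.Agent.Omega.NSix.HT.Key (Ki)
open Cfsg.Agent.MinSimple.MinParabolic (IsMinPar)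

universe u

section

variable {G : Type u} [Group G] [Finite G] {m : ℕ} {S : Sylow 2 G} {V P : Subgroup G}
  {ε : (Fin (2 ^ m + 1) → ZMod 2) → G} {i j : Fin (2 ^ m + 1)}

/-- **(3) for (4)** -/
theorem key4 (h : In S V P ε i j) : Four.Key V ε i j := by
  intro D T R hD0 hr hT hR hRD hmv hcomm
  have hDV : D ≤ V := hD0.trans (HTwo.LemTwo.V0_le h.hyp)
  have hXT : XX ε i j ≤ T := XX_le_syl h hDV hT
  have hTs : Syl T (centralizer (D : Set G)) := syl_D h hDV hr hT
  have hRN : R ≤ NN ε i j := hRD.trans (centralizer_le_NN h hr)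
  have hcomm' : ∀ g ∈ R, ∀ v ∈ V, ∀ w ∈ V, g * v * g⁻¹ * w = w * (g * v * g⁻¹) := by
    intro g hg v hv w hw
    have := hcomm g hg 1 (one_mem _) v hv w hw
    rwa [one_mul, inv_one, mul_one] at this
  obtain ⟨⟨t, ht, htK⟩, h2, h3⟩ := Key.key h.hyp h.ij h.evL h.cut hr (hD0.trans V0_le_UU)
    (hT.1.trans inf_le_right) hXT hTs hR hRD ((mv_iff hRN).2 hmv) hcomm'
  refine ⟨fun t ht s hs htK hsK => ?_, fun h1 => htK (h1 ht), h3⟩
  have htR : t ∈ R := hR.le ht
  have h4 := h2 s hs t ht hsK htK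
  have h5 : t⁻¹ * s = t⁻¹ * (s * t⁻¹) * t⁻¹⁻¹ := by group
  rw [h5]
  exact (mem_normalizer_iff.1 (le_normalizer_o2 _ (inv_mem htR)) _).1 h4

/-- the setting of (3) for `D = ⟨r_ij⟩`, `T = T₁` -/
theorem ki (h : In S V P ε i j) {R : Subgroup G} (hR : IsMinPar ((S : Subgroup G) ⊓ NN ε i j) R)
    (hRN : R ≤ NN ε i j) (hmv : ¬ R ≤ normalizer (Q0 ε i j : Set G))
    (hcomm : ∀ g ∈ R, ∀ v ∈ V, ∀ w ∈ V, g * v * g⁻¹ * w = w * (g * v * g⁻¹)) :
    Ki V P ε i j ((S : Subgroup G) ⊓ NN ε i j) R where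
  hyp := h.hyp
  ij := h.ij
  two := h.T_two
  min := hR
  syl := fun h1 => h.not_dvd (by
    rw [← relIndex_mul_relIndex _ R (NN ε i j) hR.le hRN]
    exact h1.mul_right _)
  RN := hRN
  QT := h.o2_le_T
  Tfix := fun g hg => L_fix h hg.2 (h.SL hg.1)
  XT := h.XX_le_T
  XK := h.not_le_o2 hR.le hRN fun h1 => hmv fun g hg => L_fix h (hRN hg) (h1 hg)
  comm := hcomm
  mv := hmv

end

section

variable {G : Type u} [Group G] [Finite G] {m : ℕ} {S : Sylow 2 G} {P : Subgroup G}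
  {ε : (Fin (2 ^ m + 1) → ZMod 2) → G} {i j : Fin (2 ^ m + 1)}

/-- **#18920 (5)** with (3) and `Eight.cent` -/
theorem five (hFF : FFThm.Stmt.{u}) (h : In S (zl (S : Subgroup G) P) P ε i j) (h3 : 3 ≤ m)
    (hG : IsCharacteristicTwoType G) (hP : IsParS (S : Subgroup G) P)
    (off : ∀ A : Subgroup G, A ≤ (S : Subgroup G) → Off (zl (S : Subgroup G) P) A → Side A ε)
    (bl : jj (S : Subgroup G) ≤ o2 P → ∀ R : Subgroup G, IsMinPar ((S : Subgroup G) ⊓ NN ε i j) R →
      R ≤ NN ε i j → ¬ jj (S : Subgroup G) ≤ o2 R → R ≤ centralizer ({zz ε 0} : Set G))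
    (hmv : ¬ NN ε i j ≤ normalizer (Q0 ε i j : Set G)) :
    ¬ NN ε i j ⊓ centralizer ({zz ε 0} : Set G) ≤ normalizer (Q0 ε i j : Set G) := by
  have e1 : ∀ R : Subgroup G, IsMinPar ((S : Subgroup G) ⊓ NN ε i j) R → R ≤ NN ε i j →
      ¬ R ≤ normalizer (Q0 ε i j : Set G) →
      (∀ g ∈ R, ∀ g' ∈ R, ∀ v ∈ zl (S : Subgroup G) P, ∀ w ∈ zl (S : Subgroup G) P,
        g * v * g⁻¹ * (g' * w * g'⁻¹) = g' * w * g'⁻¹ * (g * v * g⁻¹)) →
      ∀ v ∈ zl (S : Subgroup G) P, (∀ t ∈ (S : Subgroup G) ⊓ NN ε i j, t * v = v * t) →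
        ∀ r ∈ R, r * v = v * r := by
    intro R hR hRN hRmv hcomm v hv hT r hr
    refine (ki h hR hRN hRmv fun g hg v hv w hw => ?_).cent hv hT hr
    have := hcomm g hg 1 (one_mem _) v hv w hw
    rwa [one_mul, inv_one, mul_one] at this
  have e2 : ¬ jj (S : Subgroup G) ≤ o2 P → ∀ R : Subgroup G, IsMinPar ((S : Subgroup G) ⊓ NN ε i j) R →
      R ≤ NN ε i j → ¬ R ≤ normalizer (zl (S : Subgroup G) P : Set G) →
      ∀ v ∈ zl (S : Subgroup G) P, (∀ t ∈ (S : Subgroup G) ⊓ NN ε i j, t * v = v * t) →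
        ∀ r ∈ R, r * v = v * r := by
    intro hJ R hR hRN hRL v hv hT r hr
    have hH : CaseJ.Base.Hyp S P ε := ⟨hG, hP, h.hm, h.hyp.ev, h.fix0, off, hJ⟩
    have h5 := CaseJ.Eight.cent hFF hH h3 i j h.ij h.swap R hR hRN hRL hr
    exact (mem_centralizer_iff.1 h5 v (mem_inf.2 ⟨hv, mem_centralizer_iff.2 hT⟩)).symm
  obtain ⟨R, -, h1, h2, h4⟩ := Five.five h hG hP e1 bl e2 hmv
  exact Five.moves ⟨R, h1, h2, h4⟩

end

end Cfsg.Agent.Omega.NSix.HT.FivePlug

end

section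


/-!
# OMEGA N6, (H2) by #18920 (helper605): the end, K-free  (helper840)

* `comm_zz` : the conjugates of `V` under `C_G(z_k)` commute;
* `false_of` : (4), (5), (6) of #18920;
* `symH2 : SymH2 K`, `symBig : S5.Main.SymBig K` for every class `K`.
-/

set_option autoImplicit false
set_option linter.unusedSectionVars false

namespace Cfsg.Agent.Omega.NSix.HT.EndMain

open Subgroup Cfsg Cfsg.Agent.Omega.MinPar
open Cfsg.Agent.ZN (o2 zc zl jj)
open Cfsg.Agent.MinSimple.VModule (o2_le o2_isPGroup le_normalizer_o2 le_o2 mem_zc)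
open Cfsg.Agent.Omega.Frame (Ctx Cls)
open Cfsg.Agent.Omega.S5.Def Cfsg.Agent.Omega.S5.Syl
open Cfsg.Agent.Omega.NSix.Base Cfsg.Agent.Omega.NSix.Basic Cfsg.Agent.Omega.NSix.Engine
open Cfsg.Agent.Omega.NSix.HTwo.LemTwo (XX In)
open Cfsg.Agent.Omega.NSix.HTwo.Main (Pos)
open Cfsg.Agent.Omega.S5.SymBig (H2 Pr SymH2)
open Cfsg.Agent.MinSimple.MinParabolic (IsMinPar)

universe u

variable {G : Type u} [Group G] [Finite G] {S : Sylow 2 G} {P : Subgroup G} {m : ℕ}
  {ε : (Fin (2 ^ m + 1) → ZMod 2) → G} {i j : Fin (2 ^ m + 1)}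

/-- The conjugates of `V` under `C_G(z_k)` commute. -/
theorem comm_zz (h : Pos S P ε) (k : Fin (2 ^ m + 1)) :
    ∀ g ∈ centralizer ({zz ε k} : Set G), ∀ g' ∈ centralizer ({zz ε k} : Set G),
      ∀ v ∈ zl (S : Subgroup G) P, ∀ w ∈ zl (S : Subgroup G) P,
        g * v * g⁻¹ * (g' * w * g'⁻¹) = g' * w * g'⁻¹ * (g * v * g⁻¹) := by
  intro g hg g' hg' v hv w hw
  have h1 := PtCen.le_o2_cent h.c2 S h.m3 h.hyp.ev h.par.le h.fix0 k hv
  have h2 := (mem_normalizer_iff.1 (le_normalizer_o2 _ (mul_mem (inv_mem hg') hg)) v).1 h1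
  have h3 := mem_centralizer_iff.1 (Fix.o2_le_cent S h.m3 h.hyp.ev h.par.le h.fix0 k h2) w hw
  calc g * v * g⁻¹ * (g' * w * g'⁻¹) = g' * (g'⁻¹ * g * v * (g'⁻¹ * g)⁻¹ * w) * g'⁻¹ := by group
    _ = g' * (w * (g'⁻¹ * g * v * (g'⁻¹ * g)⁻¹)) * g'⁻¹ := by rw [h3]
    _ = _ := by group

/-- **#18920, (1)-(6)** : a counterexample to (H2) does not exist. -/
theorem false_of (h : Pos S P ε) : False := by
  obtain ⟨i, j, hij, hsw⟩ := PairCen.exists_swap_mem (by have := h.m3; omega) h.hyp.ev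
    (MinSimple.Basic.not_dvd_relIndex S h.par.le)
  have hI := HTwo.StepC.in_of h hij hsw
  refine FivePlug.five FFBr.ffthm hI h.m3 h.c2 h.par (fun A hA hoff => ?_) (Bl.bl h hI)
    (Fix.not_le_normalizer h hI) ?_
  · exact EightIn.side_of_off h.hyp.ev hI.three (hA.trans h.par.le)
      (fun a ha σ hσ => h.fix0 a (hA ha) σ hσ) hoff
  · exact Four.four hI h.m3 (HTwo.StepC.nc_of h) (FivePlug.key4 hI) (comm_zz h 0)

/-- **(H2)** of N6 (`NSix`), for every class. -/
theorem symH2 (K : Cls.{u}) : SymH2 K := by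
  intro G _ _ hG hK S _ _ _ _ _ P₁ P₂ y m m' ε ε₂ hm hm' hl _
  by_contra hno
  exact false_of (HTwo.Main.Pos.of (S5.SymBig.pr_of hG.char2 (by omega) hm' hl) hm hl.pair.star₁ hno)

/-- **The leaf II.c**, for every class. -/
theorem symBig (K : Cls.{u}) : S5.Main.SymBig K := S5.SymBig.symBig_of (symH2 K)

end Cfsg.Agent.Omega.NSix.HT.EndMain

end

section


/-!
# OMEGA II.c: `S5.Main.NatBig` does not occur; the leaf II.c is closed  (helper629)

`V` the even-subset module of degree `2^m + 1 ≥ 9`, `V'` a natural four-group, `b ∈ V'` acts on `V` as `(i j)`.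

* `rr_conj` : `r_ij = y z_0 y⁻¹`, so `y S y⁻¹ ≤ C_G(r_ij)`;
* `mov` : `[O₂(C_G(r_ij)), b] ≤ ⟨r_ij⟩`, so `V` satisfies `NSix.Engine.Hyp`;
* `h2` : (H2) holds (`NSix.HT.EndMain.false_of`), so `C_G(r_ij) ≤ N_G(V)` (`NSix.EndL`), but `r_ij` is centralised by
  no Sylow 2-subgroup of `N_G(V)`: `natBig_false`;
* `natBig K`, `leafC K : FrameMulti.LeafC K` for every class `K`: no node N2, no (ML), no THEOREM SN.
-/

set_option autoImplicit false

namespace Cfsg.Agent.Omega.S5.NatZero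

open Subgroup Pointwise Cfsg Cfsg.Agent.Omega.MinPar
open Cfsg.Agent.ZN (o2 zc zl)
open Cfsg.Agent.ZN.ChoiceBase (cj mem_cj cj_mono isPGroup_cj)
open Cfsg.Agent.ZN.ChoiceSit (syl_conj)
open Cfsg.Agent.ZN.CaseTwo (syl_of_sylow)
open Cfsg.Agent.MinSimple.VModule (le_normalizer_zl zc_le_zl o2_isPGroup o2_le o2_le_of_sylow mem_zc)
open Cfsg.Agent.Omega.Frame
open Cfsg.Agent.Omega.S5.Def Cfsg.Agent.Omega.S5.Syl Cfsg.Agent.Omega.S5.Pair Cfsg.Agent.Omega.S5.Main
open Cfsg.Agent.Omega.NSix.Base Cfsg.Agent.Omega.NSix.Basic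
open Cfsg.Agent.Omega.NSix.Zero (WP mem_WP)
open Cfsg.Agent.Omega.NSix.Engine (Hyp D4)
open Cfsg.Agent.Omega.S5.SymBig (H2)

universe u

variable {G : Type u} [Group G]

/-- The point `z_0` is not a pair. -/
theorem rr_ne_zz {n : ℕ} {V P : Subgroup G} {ε : (Fin n → ZMod 2) → G} (h : EvenSet n V P ε) (hn : 5 ≤ n)
    (i j k : Fin n) : rr ε i j ≠ zz ε k := by
  classical
  intro h0
  have h1 : ε (Pi.single i 1 + Pi.single j 1 + Pi.single k 1) = 1 := by
    rw [h.add, h.add]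
    change rr ε i j * zz ε k = 1
    rw [h0, zz_sq h]
  obtain ⟨l, hl⟩ : ∃ l : Fin n, l ∉ ({i, j, k} : Finset (Fin n)) := by
    by_contra hcon
    push Not at hcon
    have h8 : (Finset.univ : Finset (Fin n)) ⊆ {i, j, k} := fun l _ => hcon l
    have h9 := Finset.card_le_card h8
    have h10 : ({i, j, k} : Finset (Fin n)).card ≤ 3 := Finset.card_le_three
    rw [Finset.card_univ, Fintype.card_fin] at h9
    omega
  simp only [Finset.mem_insert, Finset.mem_singleton, not_or] at hl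
  have h2 : (Pi.single i 1 + Pi.single j 1 + Pi.single k 1 : Fin n → ZMod 2) l = 0 := by
    simp only [Pi.add_apply]
    rw [Pi.single_eq_of_ne hl.1, Pi.single_eq_of_ne hl.2.1, Pi.single_eq_of_ne hl.2.2]
    rfl
  rcases (h.ker _).1 h1 with h3 | h3
  · have h4 := congrArg (fun x : Fin n → ZMod 2 => ∑ l, x l) h3
    simp only [Pi.add_apply, Finset.sum_add_distrib, Finset.sum_pi_single', Finset.mem_univ,
      if_true, Pi.zero_apply, Finset.sum_const_zero] at h4
    revert h4; decide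
  · have h4 := congrFun h3 l
    rw [h2, Pi.one_apply] at h4
    exact zero_ne_one h4

variable [Finite G] {S : Sylow 2 G} {P₁ P₂ : Subgroup G} {y : G} {m : ℕ} {ε : (Fin (2 ^ m + 1) → ZMod 2) → G}

/-- `Ω₁(Z(S)) = ⟨z_0⟩` -/
theorem zc_cases (hm : 2 ≤ m) (hl : Lab S P₁ P₂ y m ε) {x : G} (hx : x ∈ zc (S : Subgroup G)) :
    x = 1 ∨ x = zz ε 0 :=
  S5.Syl.fixed (by omega) hl.even hl.pair.star₁.le (MinSimple.Basic.not_dvd_relIndex S hl.pair.star₁.le) hl.fix0
    (zc_le_zl _ _ hx) fun s hs => (mem_zc.mp hx).2.1 s hs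

theorem zz_comm_S (hm : 2 ≤ m) (hl : Lab S P₁ P₂ y m ε) : ∀ s ∈ (S : Subgroup G), s * zz ε 0 = zz ε 0 * s := by
  have hn3 : 3 ≤ 2 ^ m + 1 := three_le (by omega)
  intro s hs
  obtain ⟨σ, hσ⟩ := hl.even.perm s (hl.pair.star₁.le hs)
  exact (hl.even.fixes_iff hn3 hσ 0).2 (hl.fix0 s hs σ hσ)

theorem zc_ne (hG : IsCharacteristicTwoType G) (hm : 2 ≤ m) (hl : Lab S P₁ P₂ y m ε) : zc (S : Subgroup G) ≠ ⊥ := by
  have hn3 : 3 ≤ 2 ^ m + 1 := three_le (by omega)
  have hVS : zl (S : Subgroup G) P₁ ≤ (S : Subgroup G) :=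
    (hl.pair.star₁.isLoc.zl_le S hG).trans ((MinSimple.VModule.zc_le _).trans (hl.pair.star₁.isLoc.o2_le S))
  have hzz : zz ε 0 ∈ zc (S : Subgroup G) :=
    mem_zc.mpr ⟨hVS (zz_mem hl.even 0), zz_comm_S hm hl, by rw [pow_two]; exact zz_sq hl.even 0⟩
  intro h0
  rw [h0, mem_bot] at hzz
  exact hl.even.single_ne_one hn3 0 hzz

/-- some `b ∈ V'` acts as `(i j)`, `r_ij = y z_0 y⁻¹` -/
theorem exists_b (hG : IsCharacteristicTwoType G) (hm : 2 ≤ m) (hl : Lab S P₁ P₂ y m ε)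
    (h4 : Nat.card (zl (S : Subgroup G) P₂) = 4) :
    ∃ b ∈ cj y (zl (S : Subgroup G) P₂), ∃ i j, i ≠ j ∧ Acts ε b (Equiv.swap i j) ∧
      rr ε i j = y * zz ε 0 * y⁻¹ := by
  have h := hl.even
  have hn3 : 3 ≤ 2 ^ m + 1 := three_le (by omega)
  obtain ⟨b, hb, i, j, hij, hbs⟩ := S5.Nat.exists_swap h hl.side hl.off₁.ne
  have hb' := mem_cj.mp hb
  refine ⟨b, hb, i, j, hij, hbs, ?_⟩
  have h1 : b * zz ε i * b⁻¹ = zz ε j := by
    have := hbs.single i
    rwa [Equiv.swap_apply_left] at this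
  have h2 : rr ε i j = zz ε i * b * (zz ε i)⁻¹ * b⁻¹ := by
    unfold NSix.Base.rr
    rw [← h1, zz_inv h]
    group
  have h3 : y⁻¹ * zz ε i * y ∈ (S : Subgroup G) := mem_cj.mp (hl.ge (zz_mem h i))
  have h5 := S5.NatBig.comm_mem_zc h4 (zc_ne hG hm hl) (zc_le_zl _ _)
    (hl.pair.star₂.le.trans (le_normalizer_zl _ _)) h3 hb'
  have h6 : y⁻¹ * rr ε i j * y =
      y⁻¹ * zz ε i * y * (y⁻¹ * b * y) * (y⁻¹ * zz ε i * y)⁻¹ * (y⁻¹ * b * y)⁻¹ := by
    rw [h2]; group
  rw [← h6] at h5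
  have h7 : y⁻¹ * rr ε i j * y = zz ε 0 := by
    refine (zc_cases hm hl h5).resolve_left fun h0 => ?_
    apply NSix.Basic.rr_ne_one h hn3 hij
    calc rr ε i j = y * (y⁻¹ * rr ε i j * y) * y⁻¹ := by group
      _ = 1 := by rw [h0, mul_one, mul_inv_cancel]
  rw [← h7]
  group

/-- `y S y⁻¹ ≤ C_G(r_ij)` -/
theorem cj_le_NN (hm : 2 ≤ m) (hl : Lab S P₁ P₂ y m ε) {i j : Fin (2 ^ m + 1)}
    (hr : rr ε i j = y * zz ε 0 * y⁻¹) : cj y (S : Subgroup G) ≤ NN ε i j := by
  intro s hs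
  rw [mem_NN, hr]
  have h1 := zz_comm_S hm hl _ (mem_cj.mp hs)
  calc s * (y * zz ε 0 * y⁻¹) = y * (y⁻¹ * s * y * zz ε 0) * y⁻¹ := by group
    _ = y * (zz ε 0 * (y⁻¹ * s * y)) * y⁻¹ := by rw [h1]
    _ = y * zz ε 0 * y⁻¹ * s := by group

/-- `[O₂(C_G(r_ij)), b] ≤ ⟨r_ij⟩` for `b ∈ V'` -/
theorem mem_WP_of (hG : IsCharacteristicTwoType G) (hm : 2 ≤ m) (hl : Lab S P₁ P₂ y m ε)
    (h4 : Nat.card (zl (S : Subgroup G) P₂) = 4) {i j : Fin (2 ^ m + 1)} (hr : rr ε i j = y * zz ε 0 * y⁻¹)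
    {b : G} (hb : b ∈ cj y (zl (S : Subgroup G) P₂)) : b ∈ WP ε i j := by
  have hV'S : zl (S : Subgroup G) P₂ ≤ (S : Subgroup G) :=
    (hl.pair.star₂.isLoc.zl_le S hG).trans ((MinSimple.VModule.zc_le _).trans (hl.pair.star₂.isLoc.o2_le S))
  rw [mem_WP]
  refine ⟨cj_le_NN hm hl hr (cj_mono y hV'S hb), fun q hq => ?_⟩
  have hq' : q ∈ cj y (S : Subgroup G) := by
    have h1 : cj y (S : Subgroup G) = ((y • S : Sylow 2 G) : Subgroup G) := (NSix.NoTk.coe_smul S y).symm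
    have h2 : ¬ 2 ∣ (cj y (S : Subgroup G)).relIndex (NN ε i j) := by
      rw [h1]
      exact MinSimple.Basic.not_dvd_relIndex _ (by rw [← h1]; exact cj_le_NN hm hl hr)
    refine o2_le_of_sylow ?_ h2 hq
    rw [h1]
    exact (y • S : Sylow 2 G).isPGroup'
  have h3 := mem_cj.mp hq'
  have h5 := S5.NatBig.comm_mem_zc h4 (zc_ne hG hm hl) (zc_le_zl _ _)
    (hl.pair.star₂.le.trans (le_normalizer_zl _ _)) h3 (mem_cj.mp hb)
  have h6 : b * q * b⁻¹ * q⁻¹ = y * (y⁻¹ * q * y * (y⁻¹ * b * y) * (y⁻¹ * q * y)⁻¹ * (y⁻¹ * b * y)⁻¹)⁻¹ * y⁻¹ := by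
    group
  rw [h6]
  rcases zc_cases hm hl h5 with h7 | h7
  · rw [h7, inv_one, mul_one, mul_inv_cancel]
    exact one_mem _
  · rw [h7, zz_inv hl.even, ← hr]
    exact mem_zpowers _

/-- `Engine.Hyp` -/
theorem hyp (hG : IsCharacteristicTwoType G) (hm : 3 ≤ m) (hl : Lab S P₁ P₂ y m ε)
    (h4 : Nat.card (zl (S : Subgroup G) P₂) = 4) : Hyp (zl (S : Subgroup G) P₁) P₁ ε := by
  have hs : NSix.AllFacts.Sit S (zl (S : Subgroup G) P₁) P₁ ε :=
    ⟨hG, hm, hl.even, hl.pair.star₁.le, hl.fix0, zc_le_zl _ _⟩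
  obtain ⟨b, hb, i, j, hij, hbs, hr⟩ := exists_b hG (by omega) hl h4
  refine Hyp.of hG (five_le (by omega)) (Even.add_one (Nat.even_pow.mpr ⟨even_two, by omega⟩)) hl.even S
    hl.pair.star₁.le (zc_le_zl _ _) (fun i j k hij hki hkj q hq => hs.pair hij hki hkj hq)
    (fun i j hij => hs.o2_le_P hij) ⟨i, j, hij, b, mem_WP_of hG (by omega) hl h4 hr hb, ?_, ?_⟩
  · have h5 : b * b = 1 := by
      have h6 := MinSimple.VModule.mem_zc.mp (hl.pair.star₂.isLoc.zl_le S hG (mem_cj.mp hb))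
      calc b * b = y * ((y⁻¹ * b * y) ^ 2) * y⁻¹ := by rw [pow_two]; group
        _ = 1 := by rw [h6.2.2, mul_one, mul_inv_cancel]
    rw [h5]
    exact one_mem _
  · intro h0
    have h1 := hl.even.acts_unique (three_le (by omega)) (hl.even.acts_one_iff.mpr h0) hbs
    exact hij (Equiv.swap_eq_one_iff.mp h1.symm)

/-- **`NatBig` does not occur.** -/
theorem natBig_false (hG : IsCharacteristicTwoType G) (hm : 3 ≤ m) (hl : Lab S P₁ P₂ y m ε)
    (h4 : Nat.card (zl (S : Subgroup G) P₂) = 4) : False := by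
  have hn5 : 5 ≤ 2 ^ m + 1 := five_le (by omega)
  have hn3 : 3 ≤ 2 ^ m + 1 := by omega
  have hh := hyp hG hm hl h4
  by_cases h2 : H2 ε
  · obtain ⟨b, hb, i, j, hij, hbs, hr⟩ := exists_b hG (by omega) hl h4
    have h7 : 7 ≤ 2 ^ m + 1 := by
      have : 2 ^ 3 ≤ 2 ^ m := Nat.pow_le_pow_right (by norm_num) hm
      omega
    have hs : NSix.AllFacts.Sit S (zl (S : Subgroup G) P₁) P₁ ε :=
      ⟨hG, hm, hl.even, hl.pair.star₁.le, hl.fix0, zc_le_zl _ _⟩
    have h1 := NSix.Zero.sixL hG hm hl.even S hl.pair.star₁.le hl.fix0 (zc_le_zl _ _)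
      (fun i j k hij hki hkj q hq => hs.pair hij hki hkj hq) (fun i j hij => hs.o2_le_P hij) h2 (by
        obtain ⟨i, j, hij, g, hg, -, hgV⟩ := hh.mov
        exact ⟨i, j, hij, g, hg, hgV⟩)
    have h3 := NSix.EndL.SixL.nn_le h1 (Even.add_one (Nat.even_pow.mpr ⟨even_two, by omega⟩)) h7 hij
    -- `y S y⁻¹` is Sylow in `N_G(V)`
    have h5 : cj y (S : Subgroup G) ≤ normalizer (zl (S : Subgroup G) P₁ : Set G) :=
      (cj_le_NN (by omega) hl hr).trans h3
    have h6 : (S : Subgroup G) ≤ normalizer (zl (S : Subgroup G) P₁ : Set G) :=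
      hl.pair.star₁.le.trans (le_normalizer_zl _ _)
    have hev := NSix.Norm.evenSet' (by omega) S hl.even hl.pair.star₁.le hl.fix0
    -- a conjugate of `r_ij` under `N_G(V)` is fixed by `S`
    have hyS : cj y (S : Subgroup G) = ((y • S : Sylow 2 G) : Subgroup G) := (NSix.NoTk.coe_smul S y).symm
    obtain ⟨g, hg, hgS⟩ := syl_conj (syl_of_sylow S h6)
      (T := cj y (S : Subgroup G)) (by rw [hyS]; exact syl_of_sylow _ (by rw [← hyS]; exact h5))
    obtain ⟨σ, hσ⟩ := hev.perm g⁻¹ (inv_mem hg)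
    have h8 := rr_conj hσ i j
    have hne : σ i ≠ σ j := fun e => hij (σ.injective e)
    have hfix : ∀ s ∈ (S : Subgroup G), s * rr ε (σ i) (σ j) = rr ε (σ i) (σ j) * s := by
      intro s hs
      have h9 : g * s * g⁻¹ ∈ cj y (S : Subgroup G) := by
        rw [← hgS, mem_cj]
        have : g⁻¹ * (g * s * g⁻¹) * g = s := by group
        rw [this]
        exact hs
      have h10 := mem_NN.mp (cj_le_NN (by omega) hl hr h9)
      rw [← h8]
      calc s * (g⁻¹ * rr ε i j * g⁻¹⁻¹) = g⁻¹ * (g * s * g⁻¹ * rr ε i j) * g := by group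
        _ = g⁻¹ * (rr ε i j * (g * s * g⁻¹)) * g := by rw [h10]
        _ = _ := by group
    rcases S5.Syl.fixed (by omega) hl.even hl.pair.star₁.le
      (MinSimple.Basic.not_dvd_relIndex S hl.pair.star₁.le) hl.fix0 (rr_mem hl.even _ _) hfix with h9 | h9
    · exact rr_ne_one hl.even hn3 hne h9
    · exact rr_ne_zz hl.even hn5 _ _ 0 h9
  · refine NSix.HT.EndMain.false_of (S := S) (P := P₁) (ε := ε) ⟨hG, hm, hl.pair.star₁, hh, hl.fix0, ?_⟩
    exact fun i j k l hD hc => h2 fun a b c d hab hcd hac had hbc hbd =>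
      hh.hq_of_comm (fun {_ _ _ _} hD' => hh.comm_transfer hD hD' hc) ⟨hab, hac, had, hbc, hbd, hcd⟩

/-! ### The leaf II.c -/

theorem natBig (K : Cls.{u}) : NatBig K := fun _ _ _ hG _ _ _ _ _ _ _ _ _ _ _ _ hm hl _ _ h4 =>
  (natBig_false hG.char2 hm hl h4).elim

/-- **II.c is closed**: no open input, for every class. -/
theorem leafC (K : Cls.{u}) : FrameMulti.LeafC K :=
  NTwo.Zero.leafC_of TTn.ttNon_main (natBig K) (NSix.HT.EndMain.symBig K)

end Cfsg.Agent.Omega.S5.NatZero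

end

end

-- merged: Cfsg.Agent.Mrg.Omega.IId.SymMany.End
section

/-!
# The END: `V_l ≤ V'` for `l ≠ i` and `C_G(n) ≤ N_G(V')`, `n = z_i = r_ab ∈ V'`, are contradictory (`n ≥ 9` labels)

`V' = ` the even-subset module of an odd number of labels.
* `even_unique`, `exists_even` : the even representative;
* `Hq` : the group of permutations induced by `Q_v`, `1 ≠ v ∈ V_l`; `wt_le_four` : `v` is an even set of at most 4 points;
* `end_false`.
-/

set_option autoImplicit false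
set_option linter.unusedSectionVars false

namespace Cfsg.Agent.Omega.IId.SymMany

open scoped Pointwise
open Subgroup Cfsg
open Cfsg.Agent.ZN (o2 zc)
open Cfsg.Agent.MinSimple.VModule (le_o2 le_normalizer_o2 mem_zc o2_isPGroup o2_le)
open Triangle (KK KK_conj KK_le_o2 mem_cent mem_KK mem_zpowers_iff_of_sq cent_conj o2_cent_conj)
open Cfsg.Agent.Omega.ThmC
open Cfsg.Agent.Omega.IId.Big
open Cfsg.Agent.Omega.S5.Def
open Cfsg.Agent.Omega.NSix.Base (zz rr)

universe u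

variable {G : Type u} [Group G]

section even

variable {n : ℕ} {V' L : Subgroup G} {ε : (Fin n → ZMod 2) → G} (ev : EvenSet n V' L ε)
include ev

theorem even_unique (hn : Odd n) {x y : Fin n → ZMod 2} (hx : ∑ t, x t = 0) (hy : ∑ t, y t = 0)
    (h : ε x = ε y) : x = y := by
  rcases ev.eq_iff.1 h with h1 | h1
  · exact h1
  · exfalso
    have h2 : ∑ t, x t = ∑ t, (y t + 1) := by rw [h1]; rfl
    rw [hx, Finset.sum_add_distrib, hy, zero_add, Finset.sum_const, Finset.card_univ, Fintype.card_fin,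
      nsmul_eq_mul, mul_one] at h2
    have h3 := (ZMod.natCast_eq_zero_iff _ _).1 h2.symm
    obtain ⟨k, hk⟩ := hn
    omega

theorem exists_even (hn : Odd n) {v : G} (hv : v ∈ V') : ∃ x, ε x = v ∧ ∑ t, x t = 0 := by
  obtain ⟨x, rfl⟩ := ev.surj v hv
  rcases z2c (∑ t, x t) with h1 | h1
  · exact ⟨x, rfl, h1⟩
  · refine ⟨x + 1, by rw [ev.add, ev.one, mul_one], ?_⟩
    have h2 : ∑ t, (x + 1) t = ∑ t, x t + ∑ _t : Fin n, (1 : ZMod 2) := Finset.sum_add_distrib
    rw [h2, h1, Finset.sum_const, Finset.card_univ, Fintype.card_fin, nsmul_eq_mul, mul_one]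
    obtain ⟨k, rfl⟩ := hn
    push_cast
    have h3 : (2 : ZMod 2) = 0 := by decide
    rw [h3, zero_mul, zero_add]
    decide

omit ev in
theorem sum_comp {x : Fin n → ZMod 2} (σ : Equiv.Perm (Fin n)) (hx : ∑ t, x t = 0) :
    ∑ t, (x ∘ σ.symm) t = 0 := by
  rw [← hx]
  exact Equiv.sum_comp σ.symm x

theorem acts_pow {g : G} {σ : Equiv.Perm (Fin n)} (hg : Acts ε g σ) : ∀ k : ℕ, Acts ε (g ^ k) (σ ^ k)
  | 0 => by rw [pow_zero, pow_zero]; exact Acts.one
  | k + 1 => by rw [pow_succ, pow_succ]; exact (acts_pow hg k).mul hg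

end even

section main

variable [Finite G] {ι : Type} {S : Subgroup G} {V : ι → Subgroup G} (h : Fr S V)
  {n : ℕ} {V' L : Subgroup G} {ε : (Fin n → ZMod 2) → G} (ev : EvenSet n V' L ε)

/-- the permutations induced by a subgroup `A` -/
def Hq (ε : (Fin n → ZMod 2) → G) (A : Subgroup G) : Subgroup (Equiv.Perm (Fin n)) where
  carrier := {σ | ∃ g ∈ A, Acts ε g σ}
  one_mem' := ⟨1, one_mem _, Acts.one⟩
  mul_mem' := by
    rintro σ τ ⟨g, hg, h1⟩ ⟨k, hk, h2⟩
    exact ⟨g * k, mul_mem hg hk, h1.mul h2⟩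
  inv_mem' := by
    rintro σ ⟨g, hg, h1⟩
    exact ⟨g⁻¹, inv_mem hg, h1.inv⟩

include h ev

/-- **`v ∈ V_l` is an even set of at most 4 points** -/
theorem wt_le_four (hn : Odd n) (hn3 : 3 ≤ n) {l : ι} (hV : V l ≤ V') {v : G} (hv : v ∈ V l) (hv1 : v ≠ 1)
    (hL : o2 (centralizer ({v} : Set G)) ≤ L) {x : Fin n → ZMod 2} (hx : ε x = v) (h0 : ∑ t, x t = 0) :
    wt x ≤ 4 := by
  set Q := o2 (centralizer ({v} : Set G)) with hQ
  have hcx : ∀ {g : G} {σ : Equiv.Perm (Fin n)}, Acts ε g σ → g * v = v * g → x ∘ σ.symm = x := by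
    intro g σ hg hgv
    refine even_unique ev hn (sum_comp σ h0) h0 ?_
    rw [← hg x, hx, hgv, mul_inv_cancel_right]
  have hH : Hc x (Hq ε Q) := by
    refine ⟨?_, ?_, ?_⟩
    · rintro σ ⟨g, hg, hσ⟩
      obtain ⟨s, hs⟩ := o2_isPGroup (centralizer ({v} : Set G)) ⟨g, hg⟩
      have hs' : g ^ 2 ^ s = 1 := by simpa only [_root_.SubmonoidClass.mk_pow, _root_.OneMemClass.coe_one] using congrArg Subtype.val hs
      refine ⟨s, ev.acts_unique hn3 (g := g ^ 2 ^ s) (acts_pow ev hσ _) ?_⟩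
      rw [hs']
      exact Acts.one
    · rintro σ ⟨g, hg, hσ⟩ t
      have h1 := congrFun (hcx hσ (mem_cent.1 (o2_le _ hg))) (σ t)
      rw [Function.comp_apply, Equiv.symm_apply_apply] at h1
      exact h1.symm
    · rintro d e hde σ ⟨g, hg, hσ⟩
      obtain ⟨p, hp, hpa⟩ := ev.full (Equiv.swap d e)
      have h1 : p * v = v * p := by
        have h2 := hpa x
        have h3 : x ∘ (Equiv.swap d e).symm = x := by
          funext t
          rw [Function.comp_apply, Equiv.symm_swap]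
          by_cases ht : t = d
          · rw [ht, Equiv.swap_apply_left, hde]
          by_cases ht' : t = e
          · rw [ht', Equiv.swap_apply_right, hde]
          rw [Equiv.swap_apply_of_ne_of_ne ht ht']
        rw [h3, hx] at h2
        exact mul_inv_eq_iff_eq_mul.1 h2
      have h2 : p * g * p⁻¹ ∈ Q := (mem_normalizer_iff.1 (le_normalizer_o2 _ (mem_cent.2 h1)) g).1 hg
      have h3 := hpa.conj hσ
      rw [Equiv.swap_inv] at h3
      exact ⟨_, h2, h3⟩
  refine hH.wt_le hn h0 ?_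
  obtain ⟨g, hg, y, hy, hgy⟩ := h.WV l v hv hv1
  have hgQ := h.KK_le_q hv hv1 hg
  obtain ⟨σ, hσ⟩ := ev.perm g (hL hgQ)
  refine ⟨σ, ⟨g, hgQ, hσ⟩, ?_⟩
  rintro rfl
  exact hgy (mem_centralizer_iff.1 (ev.acts_one_iff.1 hσ) y (hV hy)).symm

/-- a permutation of the three points of `V_l` fixes their union -/
theorem union_fix (hn : Odd n) {l : ι} {v v' : G} (hv : v ∈ V l) (hv' : v' ∈ V l) (hv1 : v ≠ 1)
    (hv1' : v' ≠ 1) (hvv : v ≠ v') {x x' : Fin n → ZMod 2} (hx : ε x = v) (hx0 : ∑ t, x t = 0)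
    (hx' : ε x' = v') (hx0' : ∑ t, x' t = 0) {g : G} {σ : Equiv.Perm (Fin n)} (hσ : Acts ε g σ)
    (hg : ∀ y ∈ V l, g * y * g⁻¹ ∈ V l) : g * ε (x + x' + x * x') * g⁻¹ = ε (x + x' + x * x') := by
  have hs : ∑ t, (x + x') t = 0 := by
    have : ∑ t, (x + x') t = ∑ t, x t + ∑ t, x' t := Finset.sum_add_distrib
    rw [this, hx0, hx0', add_zero]
  have key : ∀ {y : Fin n → ZMod 2}, ∑ t, y t = 0 → ε y ∈ V l → ε y ≠ 1 →
      y ∘ σ.symm = x ∨ y ∘ σ.symm = x' ∨ y ∘ σ.symm = x + x' := by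
    intro y hy hyV hy1
    have h1 := hσ y
    have h2 := hg _ hyV
    have h3 : g * ε y * g⁻¹ ≠ 1 := fun h0 => hy1 (by
      calc ε y = g⁻¹ * (g * ε y * g⁻¹) * g := by group
        _ = 1 := by rw [h0]; group)
    rcases h.cases4 hv hv' hv1 hv1' hvv h2 with h4 | h4 | h4 | h4
    · exact absurd h4 h3
    · left
      exact even_unique ev hn (sum_comp σ hy) hx0 (by rw [← h1, h4, hx])
    · right; left
      exact even_unique ev hn (sum_comp σ hy) hx0' (by rw [← h1, h4, hx'])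
    · right; right
      exact even_unique ev hn (sum_comp σ hy) hs (by rw [← h1, h4, ev.add, hx, hx'])
  have k1 := key hx0 (by rw [hx]; exact hv) (by rw [hx]; exact hv1)
  have k2 := key hx0' (by rw [hx']; exact hv') (by rw [hx']; exact hv1')
  have hne : x ∘ σ.symm ≠ x' ∘ σ.symm := by
    intro h0
    apply hvv
    have h1 : x = x' := by
      funext t
      have := congrFun h0 (σ t)
      rwa [Function.comp_apply, Function.comp_apply, Equiv.symm_apply_apply] at this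
    rw [← hx, ← hx', h1]
  rw [hσ]
  congr 1
  have e : (x + x' + x * x') ∘ σ.symm = x ∘ σ.symm + x' ∘ σ.symm + (x ∘ σ.symm) * (x' ∘ σ.symm) := rfl
  rw [e]
  have z1 : ∀ a b : ZMod 2, b + a + b * a = a + b + a * b := by decide
  have z2 : ∀ a b : ZMod 2, a + (a + b) + a * (a + b) = a + b + a * b := by decide
  have z3 : ∀ a b : ZMod 2, b + (a + b) + b * (a + b) = a + b + a * b := by decide
  have z4 : ∀ a b : ZMod 2, (a + b) + a + (a + b) * a = a + b + a * b := by decide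
  have z5 : ∀ a b : ZMod 2, (a + b) + b + (a + b) * b = a + b + a * b := by decide
  rcases k1 with h1 | h1 | h1 <;> rcases k2 with h2 | h2 | h2
  · exact absurd (h1.trans h2.symm) hne
  · rw [h1, h2]
  · rw [h1, h2]; exact funext fun t => z2 _ _
  · rw [h1, h2]; exact funext fun t => z1 _ _
  · exact absurd (h1.trans h2.symm) hne
  · rw [h1, h2]; exact funext fun t => z3 _ _
  · rw [h1, h2]; exact funext fun t => z4 _ _
  · rw [h1, h2]; exact funext fun t => z5 _ _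
  · exact absurd (h1.trans h2.symm) hne

end main

section fin

variable [Finite G] {S : Sylow 2 G} {Q : Subgroup G} {ι : Type} {Z : ι → Subgroup G} {x z : ι → G}
variable [Finite ι] {D : Dat S Q Z x z} {V : ι → Subgroup G} (R : Rd D V)
  {n : ℕ} {V' L : Subgroup G} {ε : (Fin n → ZMod 2) → G} (ev : EvenSet n V' L ε)
include R ev

/-- **The END.** -/
theorem end_false (hn : Odd n) (hn9 : 9 ≤ n) {i l : ι} (hl : l ≠ i) (hι : ∀ i : ι, ∃ j, j ≠ i)
    {a b : Fin n} (hab : a ≠ b) (hz : z i = rr ε a b) (hL : centralizer ({z i} : Set G) ≤ L)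
    (hV : V l ≤ V') : False := by
  have hn3 : 3 ≤ n := by omega
  have hfr := R.fr
  obtain ⟨v, hv, v', hv', hv1, hv1', hvv⟩ := hfr.exists_two l
  obtain ⟨x, hx, hx0⟩ := exists_even ev hn (hV hv)
  obtain ⟨x', hx', hx0'⟩ := exists_even ev hn (hV hv')
  have hs : ∑ t, (x + x') t = 0 := by
    have : ∑ t, (x + x') t = ∑ t, x t + ∑ t, x' t := Finset.sum_add_distrib
    rw [this, hx0, hx0', add_zero]
  have hvv1 : v * v' ≠ 1 := fun h0 => hvv (by
    have h1 := hfr.sq l v' hv'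
    exact mul_right_cancel (h0.trans h1.symm))
  have hQL : ∀ {l' : ι}, l' ≠ i → ∀ {w : G}, w ∈ V l' → w ≠ 1 → o2 (centralizer ({w} : Set G)) ≤ L :=
    fun {l'} hl' {w} hw hw1 => (hfr.q_le (Ne.symm hl') hw hw1 (R.zV i)).trans hL
  have hwt : ∀ {w : G} {y : Fin n → ZMod 2}, w ∈ V l → w ≠ 1 → ε y = w → ∑ t, y t = 0 → 2 ≤ wt y ∧ wt y ≤ 4 := by
    intro w y hw hw1 hy hy0
    refine ⟨two_le_wt hy0 ?_, wt_le_four hfr ev hn hn3 hV hw hw1 (hQL hl hw hw1) hy hy0⟩
    rintro rfl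
    exact hw1 (by rw [← hy, ev.zero])
  have w1 := hwt hv hv1 hx hx0
  have w2 := hwt hv' hv1' hx' hx0'
  have w3 := hwt (mul_mem hv hv') hvv1 (by rw [ev.add, hx, hx']) hs
  have w4 := wt_union x x'
  set u := x + x' + x * x' with hu
  set e := ε u with he
  -- `e ≠ 1`, `e ≠ z i`
  have he1 : e ≠ 1 := by
    intro h0
    rcases (ev.ker u).1 h0 with h1 | h1
    · rw [h1, wt_zero] at w4; omega
    · have h2 := wt_add_one (0 : Fin n → ZMod 2)
      rw [zero_add, wt_zero] at h2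
      rw [h1] at w4; omega
  have hei : e ≠ z i := by
    intro h0
    have h1 : ε u = ε (Pi.single a 1 + Pi.single b 1) := (h0.trans hz).trans (ev.add _ _).symm
    have h2 : wt (Pi.single a 1 + Pi.single b 1 : Fin n → ZMod 2) = 2 := wt_single_add hab
    have h3 := wt_add_one (Pi.single a 1 + Pi.single b 1 : Fin n → ZMod 2)
    rcases ev.eq_iff.1 h1 with h4 | h4
    · rw [h4] at w4; omega
    · rw [h4] at w4; omega
  -- invariance
  have hinv : ∀ g ∈ L, (∀ y ∈ V l, g * y * g⁻¹ ∈ V l) → g * e * g⁻¹ = e := by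
    intro g hg hgV
    obtain ⟨σ, hσ⟩ := ev.perm g hg
    exact union_fix hfr ev hn hv hv' hv1 hv1' hvv hx hx0 hx' hx0' hσ hgV
  have heE : e ∈ zc (S0 (S : Subgroup G) Z) := by
    refine R.mem_E_of le_rfl (ev.sq u) fun t ht => ?_
    have h1 : t ∈ centralizer ({z i} : Set G) := mem_cent.2 ((mem_zc.1 (D.z_mem_E i)).2.1 t ht)
    have h2 := hinv t (hL h1) fun y hy => (mem_normalizer_iff.1 (R.S0_norm l ht) y).1 hy
    exact (mul_inv_eq_iff_eq_mul.1 h2).symm
  obtain ⟨l', hl', e', he', hee⟩ := R.exists_comp hι heE he1 hei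
  obtain ⟨w, hw, hw1, hzw⟩ := hfr.exists_other (i := l') (z l')
  obtain ⟨g, hg, hgz⟩ := hfr.move hw (R.zV l') hw1 (D.z1 l') (Ne.symm hzw)
  have hgQ := hfr.KK_le_q hw hw1 hg
  have hge' : g * e' * g⁻¹ = e' := Big.conj_of_comm (hfr.Vo_cent hw hw1 he' hgQ)
  have hgV : ∀ y ∈ V l, g * y * g⁻¹ ∈ V l := by
    intro y hy
    by_cases hll : l = l'
    · subst hll
      rcases hfr.KK_act hw hg (hfr.VQ l l w hw hw1 hy) with h1 | h1
      · rw [h1]; exact hy
      · rw [h1]; exact mul_mem hw hy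
    · rw [Big.conj_of_comm (hfr.Qc l' l hll w hw hw1 g hgQ y hy)]
      exact hy
  have h1 := hinv g (hQL hl' hw hw1 hgQ) hgV
  apply hw1
  have h2 : g * e * g⁻¹ = w * e := by
    rw [hee]
    calc g * (z l' * e') * g⁻¹ = (g * z l' * g⁻¹) * (g * e' * g⁻¹) := by group
      _ = w * (z l' * e') := by rw [hgz, hge']; group
  rw [h1] at h2
  exact (mul_eq_right.1 h2.symm)

end fin

end Cfsg.Agent.Omega.IId.SymMany

end

private theorem dce_8d1d391873a0 : _root_.True := by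
  try have : _root_.True := by simp only [_root_.Cfsg.Agent.Omega.IId.SymMany.wt.eq_1]
  exact _root_.True.intro
end
end
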